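import Cfsg.Agent.H895.SLT.Res

/-!
# Orders of residual subgroups of `SL_3`: the two cases (helper895)
-/

set_option autoImplicit false

namespace Cfsg.Agent.H895.SLT

open Cfsg Cfsg.Geo
open scoped MatrixGroups Matrix

theorem card_aut_a6 : Nat.card (MulAut (alternatingGroup (Fin 6))) = 1440 := by
  classical
  obtain ⟨θ, hθ⟩ := StdAlt.Six.exists_theta
  have hmem : ∀ α : MulAut StdAlt.Six.A6, α ∈ StdAlt.Six.pc.range ↔ StdAlt.Six.NS α := by
    intro α
    rw [StdAlt.Six.ns_iff]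
    constructor
    · rintro ⟨σ, h⟩; exact ⟨σ, h.symm⟩
    · rintro ⟨σ, h⟩; exact ⟨σ, h.symm⟩
  have h1 : StdAlt.Six.pc.range.index = 2 := by
    rw [Subgroup.index_eq_two_iff]
    refine ⟨θ, fun b => ?_⟩
    rw [hmem, hmem]
    by_cases hb : StdAlt.Six.NS b
    · exact Or.inr ⟨hb, StdAlt.Six.not_ns_mul_left hb hθ⟩
    · exact Or.inl ⟨StdAlt.Six.NS.mul_of_not hb hθ, hb⟩
  have h2 : Nat.card StdAlt.Six.pc.range = 720 := by
    have h3 : Function.Injective StdAlt.Six.pc := fun _ _ h => StdAlt.Six.pc_inj h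
    rw [← Nat.card_congr (MonoidHom.ofInjective (f := StdAlt.Six.pc) h3).toEquiv, Nat.card_perm,
      Nat.card_eq_fintype_card, Fintype.card_fin]
    rfl
  have h3 := Subgroup.card_mul_index StdAlt.Six.pc.range
  rw [h1, h2] at h3
  exact h3.symm

theorem card_aut_l : Nat.card (MulAut (Matrix.ProjectiveSpecialLinearGroup (Fin 3) (ZMod 2))) ∣ 336 := by
  have h := S0813.result (F := ZMod 2) 2 1 le_rfl (by rw [ZMod.card, pow_one]) 3 (by norm_num) (by norm_num)
  rw [h]
  have h1 : Nat.card (Matrix.ProjGenLinGroup (Fin 3) (ZMod 2)) ∣ Nat.card (GL (Fin 3) (ZMod 2)) :=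
    Subgroup.card_quotient_dvd_card _
  rw [Matrix.card_GL_field, ZMod.card, Fin.prod_univ_three] at h1
  norm_num at h1 ⊢
  exact Nat.mul_dvd_mul (dvd_refl 2) h1

variable {F : Type*} [Field F] [Finite F] {M P : Subgroup (GL (Fin 3) F)}

theorem card_of_l (hc : IsResidualCore M P) (hM : M ≤ S3 F)
    (e : (P ⧸ (scalars (Fin 3) F).subgroupOf P) ≃* Matrix.ProjectiveSpecialLinearGroup (Fin 3) (ZMod 2)) :
    Nat.card M ∣ 1008 := by
  refine (card_dvd_of_core hc hM).trans ?_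
  rw [Nat.card_congr (MulAut.congr e).toEquiv]
  exact Nat.mul_dvd_mul (dvd_refl 3) card_aut_l

theorem card_of_a (hc : IsResidualCore M P) (hM : M ≤ S3 F)
    (e : (P ⧸ (scalars (Fin 3) F).subgroupOf P) ≃* alternatingGroup (Fin 6)) :
    Nat.card M ∣ 4320 := by
  refine (card_dvd_of_core hc hM).trans ?_
  rw [Nat.card_congr (MulAut.congr e).toEquiv, card_aut_a6]

end Cfsg.Agent.H895.SLT
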