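import Cfsg.Agent.H895.SLT.Form

/-!
# The automorphism of a unitary form over a finite field (helper895)
-/

set_option autoImplicit false

namespace Cfsg.Agent.H895.SLT

open Cfsg Cfsg.Geo

theorem unitary_sigma {F : Type*} [Field F] [Fintype F] {σ : F ≃+* F} (h2 : ∀ a, σ (σ a) = a)
    (hne : σ ≠ RingEquiv.refl F) :
    ∃ q₁ : ℕ, Fintype.card F = q₁ ^ 2 ∧ ∀ x, σ x = x ^ q₁ := by
  obtain ⟨p, hp⟩ := CharP.exists F
  obtain ⟨m, hpp, hm⟩ := FiniteField.card F p
  have hpf : Fact p.Prime := ⟨hpp⟩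
  let _ : Algebra (ZMod p) F := ZMod.algebra F p
  let σ' : F ≃ₐ[ZMod p] F := { σ with
    commutes' := fun r => by
      show σ (algebraMap (ZMod p) F r) = _
      have : (σ : F →+* F).comp (algebraMap (ZMod p) F) = algebraMap (ZMod p) F := Subsingleton.elim _ _
      exact congrArg (fun f : ZMod p →+* F => f r) this }
  obtain ⟨⟨n, hlt⟩, hn⟩ := (FiniteField.bijective_frobeniusAlgEquivOfAlgebraic_pow (ZMod p) F).2 σ'
  simp only at hn
  have hpow : ∀ (k : ℕ) (x : F), (FiniteField.frobeniusAlgEquivOfAlgebraic (ZMod p) F ^ k) x = x ^ (p ^ k) := by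
    intro k
    induction k with
    | zero => intro x; simp
    | succ k ih =>
      intro x
      rw [pow_succ', AlgEquiv.mul_apply, ih, FiniteField.coe_frobeniusAlgEquivOfAlgebraic]
      show (x ^ p ^ k) ^ Fintype.card (ZMod p) = _
      rw [ZMod.card, ← pow_mul, pow_succ]
  have hσ : ∀ x, σ x = x ^ (p ^ n) := by
    intro x
    have h1 : σ' x = x ^ (p ^ n) := by rw [← hn, hpow]
    exact h1
  have hford := FiniteField.orderOf_frobeniusAlgEquivOfAlgebraic (ZMod p) F
  have hcard := Module.card_eq_pow_finrank (K := ZMod p) (V := F)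
  rw [ZMod.card] at hcard
  generalize Module.finrank (ZMod p) F = d at hlt hford hcard
  have h0 : n ≠ 0 := by
    intro h0
    apply hne
    ext x
    rw [hσ, h0, pow_zero, pow_one]
    rfl
  have hdvd : d ∣ 2 * n := by
    rw [← hford]
    apply orderOf_dvd_of_pow_eq_one
    ext x
    rw [hpow, AlgEquiv.one_apply]
    have h3 := h2 x
    rw [hσ, hσ, ← pow_mul, ← pow_add] at h3
    rwa [two_mul]
  have h4 : 2 * n = d := by
    obtain ⟨k, hk⟩ := hdvd
    have hk1 : k = 1 := by
      have hdpos : 0 < d := by omega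
      have : k < 2 := by
        by_contra hc
        push Not at hc
        have : d * 2 ≤ d * k := Nat.mul_le_mul_left d hc
        omega
      have : k ≠ 0 := by rintro rfl; omega
      omega
    rw [hk, hk1, mul_one]
  refine ⟨p ^ n, ?_, hσ⟩
  rw [hcard, ← h4, ← pow_mul, mul_comm]

end Cfsg.Agent.H895.SLT
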