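import Cfsg.Agent.H895.SLT.FourExcl
import Cfsg.Agent.H895.SLT.Sigma
import Cfsg.Agent.H920.CsData
import Cfsg.Agent.S5775
import Cfsg.Agent.S5776

/-!
# Maximality of the normaliser of an extraspecial group of order 27 in `SL_3(p)` (helper895)
-/

set_option autoImplicit false

namespace Cfsg.Agent.H895.SLT

open Cfsg Cfsg.Geo
open scoped MatrixGroups Matrix
open Cfsg.Agent.H908 (cj mem_cj)
open Cfsg.Agent.H960 (A0 C0 T0 P0 A0_eq A0_C0 omega_ne Heis)

variable {F : Type*} [Field F] {ω : F}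

theorem normalizer_cj_eq (P : GL (Fin 3) F) (R : Subgroup (GL (Fin 3) F)) :
    subgroupNormalizer (cj P R) = cj P (subgroupNormalizer R) := by
  ext g
  constructor
  · intro hg
    rw [mem_cj]
    have h1 := H908.normalizer_cj (R := cj P R) (P := P⁻¹) (g := P⁻¹ * g * P) (by
      rw [inv_inv]
      have : P * (P⁻¹ * g * P) * P⁻¹ = g := by group
      rwa [this])
    rwa [cj_cj_inv] at h1
  · intro hg
    exact H908.normalizer_cj (mem_cj.1 hg)

theorem data_card [Fintype F] {R : Subgroup (GL (Fin 3) F)} (hR : IsLinearSymplecticTypeData 3 R) :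
    Nat.card R = 27 ∧ (∀ g ∈ R, g ^ 3 = 1) ∧ ∃ a ∈ R, ∃ b ∈ R, a * b ≠ b * a := by
  obtain ⟨hs, habs, p, e, -, -, h⟩ := hR
  have hfin : Finite (GL (Fin 3) F) := inferInstance
  rcases h with ⟨-, -, hZ, m, hm, hcard⟩ | ⟨h, -⟩ | ⟨h, -⟩
  · have h1 := H921.card_eq_pow_of_center_prime hs habs hZ hcard
    rw [Fintype.card_fin] at h1
    have hm1 : m = 1 := by
      rcases Nat.lt_or_ge m 2 with h2 | h2
      · omega
      · have : 3 ^ 2 ≤ 3 ^ m := Nat.pow_le_pow_right (by norm_num) h2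
        omega
    subst hm1
    have hc : Nat.card R = 27 := by rw [hcard]; norm_num
    refine ⟨hc, ?_, ?_⟩
    · intro g hg
      have h2 : Monoid.exponent R = 3 := by rw [hs.exponent_eq]; norm_num
      have h3 := Monoid.pow_exponent_eq_one (⟨g, hg⟩ : R)
      rw [h2] at h3
      exact congrArg Subtype.val h3
    · by_contra hcon
      push Not at hcon
      have h2 : Subgroup.center R = ⊤ := by
        rw [Subgroup.eq_top_iff']
        intro a
        rw [Subgroup.mem_center_iff]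
        intro b
        exact Subtype.ext (hcon b b.2 a a.2)
      rw [h2, Subgroup.card_top, hc] at hZ
      omega
  · omega
  · omega

/-- the standard form of the group of order 27 -/
theorem exists_std [Fintype F] (h3 : (3 : F) ≠ 0) {ω₀ : F} (hω₀ : ω₀ * ω₀ + ω₀ + 1 = 0)
    {R : Subgroup (GL (Fin 3) F)} (hc : Nat.card R = 27) (he : ∀ g ∈ R, g ^ 3 = 1)
    (hn : ∃ a ∈ R, ∃ b ∈ R, a * b ≠ b * a) {x y s t : GL (Fin 3) F} (H : Four ω₀ x y s t) :
    ∃ Q, R = cj Q (Subgroup.closure {x, y}) := by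
  obtain ⟨Q, a, b, ω, K⟩ := H960.exists_heis h3 hω₀ hc he hn
  have hRc : R = Subgroup.closure {a, b} := by
    apply le_antisymm K.gen
    rw [Subgroup.closure_le]
    rintro g (rfl | hg)
    · exact K.ha
    · rw [Set.mem_singleton_iff] at hg
      rw [hg]; exact K.hb
  obtain ⟨h1, h2⟩ := K.conj_mul
  refine ⟨Q, ?_⟩
  have hy : y = Q⁻¹ * b * Q := Units.ext (by rw [h2, H.ye])
  have hb : b = Q * y * Q⁻¹ := by rw [hy]; group
  have hcases : (ω = ω₀ ∨ ω = ω₀ * ω₀) := by
    have hω3 : ω ^ 3 = 1 := by linear_combination (ω - 1) * K.hω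
    rcases H960.cube_cases hω₀ hω3 with h | h | h
    · exact absurd h (omega_ne h3 K.hω).1
    · exact Or.inl h
    · exact Or.inr h
  have hmap : ∀ u v : GL (Fin 3) F, cj Q (Subgroup.closure {u, v}) =
      Subgroup.closure {Q * u * Q⁻¹, Q * v * Q⁻¹} := by
    intro u v
    unfold cj
    rw [MonoidHom.map_closure, Set.image_pair]
    rfl
  rcases hcases with h | h
  · have hx : x = Q⁻¹ * a * Q := Units.ext (by rw [h1, H.xe, h])
    have ha : a = Q * x * Q⁻¹ := by rw [hx]; group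
    rw [hmap, ← ha, ← hb]
    exact hRc
  · have hx : x * x = Q⁻¹ * a * Q := Units.ext (by
      rw [h1, Units.val_mul, H.xe, h, A0_eq, A0_eq]
      ext i j
      fin_cases i <;> fin_cases j <;> simp [Matrix.mul_apply, Fin.sum_univ_three])
    have ha : a = (Q * x * Q⁻¹) * (Q * x * Q⁻¹) := by
      calc a = Q * (Q⁻¹ * a * Q) * Q⁻¹ := by group
        _ = Q * (x * x) * Q⁻¹ := by rw [hx]
        _ = _ := by group
    have hx4 : Q * x * Q⁻¹ = a * a := by
      rw [ha]
      calc Q * x * Q⁻¹ = Q * (x * (x * x * x)) * Q⁻¹ := by rw [H.x_cube, mul_one]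
        _ = _ := by group
    rw [hmap, ← hb, hRc]
    apply le_antisymm
    · rw [Subgroup.closure_le]
      rintro g (rfl | hg)
      · rw [ha]
        exact Subgroup.mul_mem _ (Subgroup.subset_closure (Or.inl rfl)) (Subgroup.subset_closure (Or.inl rfl))
      · exact Subgroup.subset_closure (Or.inr hg)
    · rw [Subgroup.closure_le]
      rintro g (rfl | hg)
      · rw [hx4]
        exact Subgroup.mul_mem _ (Subgroup.subset_closure (Or.inl rfl)) (Subgroup.subset_closure (Or.inl rfl))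
      · exact Subgroup.subset_closure (Or.inr hg)

/-- the four elements normalise the group of order 27 -/
theorem Four.mem_norm [Finite F] {x y s t : GL (Fin 3) F} (H : Four ω x y s t) :
    x ∈ subgroupNormalizer (Subgroup.closure {x, y}) ∧ y ∈ subgroupNormalizer (Subgroup.closure {x, y}) ∧
    s ∈ subgroupNormalizer (Subgroup.closure {x, y}) ∧ t ∈ subgroupNormalizer (Subgroup.closure {x, y}) := by
  have hfin : Finite (GL (Fin 3) F) := inferInstance
  have hx : x ∈ Subgroup.closure {x, y} := Subgroup.subset_closure (Or.inl rfl)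
  have hy : y ∈ Subgroup.closure {x, y} := Subgroup.subset_closure (Or.inr rfl)
  refine ⟨Subgroup.le_normalizer hx, Subgroup.le_normalizer hy, ?_, ?_⟩
  · apply H960.mem_normalizer_of_gens (T := {x, y}) (fun g hg => hg)
    rintro g (rfl | hg)
    · rw [H.sx, mul_inv_cancel_right]; exact hy
    · rw [Set.mem_singleton_iff] at hg
      rw [hg, H.sy, mul_inv_cancel_right]
      exact Subgroup.mul_mem _ hx hx
  · apply H960.mem_normalizer_of_gens (T := {x, y}) (fun g hg => hg)
    obtain ⟨z, hz, hzs, -, h1, -, h2⟩ := H.exists_z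
    have hzc : z ∈ Subgroup.closure {x, y} := by
      have : z = x * y * (y * x)⁻¹ := by rw [h1, mul_inv_cancel_right]
      rw [this]
      exact Subgroup.mul_mem _ (Subgroup.mul_mem _ hx hy) (Subgroup.inv_mem _ (Subgroup.mul_mem _ hy hx))
    rintro g (rfl | hg)
    · rw [h2, mul_inv_cancel_right]
      exact Subgroup.mul_mem _ (Subgroup.mul_mem _ hzc hzc) (Subgroup.mul_mem _ hx hy)
    · rw [Set.mem_singleton_iff] at hg
      rw [hg, H.ty, mul_inv_cancel_right]
      exact Subgroup.mul_mem _ (Subgroup.mul_mem _ hx hy) hy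

theorem quad_le_sim {Q : (Fin 3 → F) → F} :
    quadSimilarityGroup Q ≤ similarityGroup (QuadraticMap.polar Q) := by
  rintro g ⟨c, hc⟩
  refine ⟨c, fun u v => ?_⟩
  unfold QuadraticMap.polar
  rw [← Matrix.mulVec_add, hc, hc, hc]
  ring

theorem unit_card [Fintype F] {σ : F ≃+* F} {f : (Fin 3 → F) → (Fin 3 → F) → F} (hf : IsUnitaryForm σ f) :
    ∃ q₁ : ℕ, Fintype.card F = q₁ ^ 2 ∧ ∀ x, σ x = x ^ q₁ := unitary_sigma hf.involutive hf.ne_refl

theorem not_prime_sq {p q : ℕ} (hp : p.Prime) (h : p = q ^ 2) : False := by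
  rw [h] at hp
  exact absurd (Nat.Prime.eq_one_of_pow hp) (by norm_num)

/-- **Row 5.** -/
theorem row_five [Fintype F] {p : ℕ} {R : Subgroup (GL (Fin 3) F)} (hp : p.Prime) (hF : Fintype.card F = p)
    (hp3 : p % 3 = 1) (hR : IsLinearSymplecticTypeData 3 R) :
    IsMaximalIn (S3 F) (subgroupNormalizer R ⊓ S3 F) := by
  have hfin : Finite (GL (Fin 3) F) := inferInstance
  have hFp : Fact p.Prime := ⟨hp⟩
  have hchar : CharP F p := by
    have : Nat.Prime p := hp
    exact charP_of_card_eq_prime (by rw [hF])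
  have hcast : ∀ l : ℕ, l.Prime → l ≠ p → (l : F) ≠ 0 := by
    intro l hl hlp h
    rw [CharP.cast_eq_zero_iff F p] at h
    exact hlp ((Nat.prime_dvd_prime_iff_eq hp hl).1 h).symm
  have h3 : (3 : F) ≠ 0 := by
    have := hcast 3 Nat.prime_three (by rintro rfl; omega)
    exact_mod_cast this
  obtain ⟨ω, hω⟩ : ∃ ω : F, ω * ω + ω + 1 = 0 := H960.exists_omega (by rw [hF]; omega)
  obtain ⟨x, y, s, t, H⟩ := exists_four h3 hω
  obtain ⟨hc, he, hn⟩ := data_card hR
  obtain ⟨Q, hQ⟩ := exists_std h3 hω hc he hn H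
  obtain ⟨mx, my, ms, mt⟩ := H.mem_norm
  have hR0 : IsSymplecticTypeGroup 3 (Subgroup.closure {x, y}) := by
    have := H908.symplecticType_cj hR.symplecticType Q⁻¹
    rwa [hQ, cj_cj_inv] at this
  have hR1 : ActsAbsolutelyIrreducibly (matrixSet (Subgroup.closure {x, y})) := by
    have := H908.absIrred_cj hR.absIrred Q⁻¹
    rwa [hQ, cj_cj_inv] at this
  have hc0 : Nat.card (Subgroup.closure {x, y}) = 27 := by
    rw [hQ, H908.card_cj] at hc
    exact hc
  rw [hQ, normalizer_cj_eq]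
  apply maximal_cj
  apply maximal_of
  · exact H905.not_sl_le_subgroupNormalizer (by simp) hR0 hR1
  intro M hM hle
  have hxM : x ∈ M := hle ⟨mx, H.x_mem⟩
  have hyM : y ∈ M := hle ⟨my, H.y_mem⟩
  have hsM : s ∈ M := hle ⟨ms, H.s_mem⟩
  have htM : t ∈ M := hle ⟨mt, H.t_mem⟩
  have h27 : 27 ∣ Nat.card M := by
    rw [← hc0]
    apply Subgroup.card_dvd_of_le
    rw [Subgroup.closure_le]
    rintro g (rfl | hg)
    · exact hxM
    · rw [Set.mem_singleton_iff] at hg
      rw [hg]; exact hyM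
  rcases S5775.result M hM with ⟨W, h0, h1, rfl⟩ | ⟨-, D, hD, rfl⟩ | ⟨-, K, hK, rfl⟩ | ⟨F₀, r, P, hr, hcard, rfl⟩ |
    ⟨p', R', hp', hF', hp3', hR', rfl⟩ | ⟨-, Q', hQ', rfl⟩ | ⟨σ, f, hf, rfl⟩ | hres
  · exact absurd (irr_excl (H.irr hxM hyM) h0 h1 inf_le_left) id
  · exact absurd (H.not_decomp hD hxM.1 hyM.1 hsM.1) id
  · exact absurd (H.not_field hK hsM.1) id
  · exact absurd (not_prime_pow hp hr (by rw [← hF, hcard])) id
  · obtain ⟨hc', he', hn'⟩ := data_card hR'
    obtain ⟨Q', hQ'⟩ := exists_std h3 hω hc' he' hn' H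
    exact eq_of_le_cj hle (P := Q') (by rw [hQ', normalizer_cj_eq])
  · exact absurd (H.not_quad (Sesq.of_quad hQ') (quad_le_sim hxM.1) (quad_le_sim hyM.1)) id
  · obtain ⟨q₁, hq₁, -⟩ := unit_card hf
    exact absurd (not_prime_sq hp (by rw [← hF, hq₁])) id
  · obtain ⟨P, p', hcore, hp', hchar', h | ⟨⟨e⟩, h⟩⟩ := S5776.result M hM hres
    · obtain ⟨⟨e⟩, -, -, -⟩ := h
      have := h27.trans (card_of_l hcore hM.1.le e)
      norm_num at this
    · have hpp : p' = p := CharP.eq F hchar' hchar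
      subst hpp
      refine absurd (H.not_a6 hcore hM.1.le e ?_ hxM hyM hsM htM) id
      have h5p : 5 ≠ p' := by
        rintro rfl
        rcases h with h | h <;> omega
      exact_mod_cast hcast 5 (by norm_num) h5p

end Cfsg.Agent.H895.SLT
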