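import Cfsg.Agent.H895.SLT.RowFive

/-!
# Maximality of the subfield groups in `SL_3(q)` (helper895)
-/

set_option autoImplicit false
set_option linter.unnecessarySimpa false

namespace Cfsg.Agent.H895.SLT

open Cfsg Cfsg.Geo
open scoped MatrixGroups Matrix
open Cfsg.Agent.H908 (cj mem_cj)

variable {F : Type*} [Field F]

theorem subfield_cj (F₀ : Subfield F) (P : GL (Fin 3) F) : subfieldSubgroup F₀ P = cj P (subfieldSubgroup F₀ 1) := by
  have h1 : subfieldSubgroup F₀ (1 : GL (Fin 3) F) =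
      (Matrix.GeneralLinearGroup.map (F₀.subtype : F₀ →+* F) : GL (Fin 3) F₀ →* GL (Fin 3) F).range ⊔
      scalars (Fin 3) F := cj_one _
  rw [h1]
  rfl

/-- the companion matrix -/
def cmat (a b : F) : Matrix (Fin 3) (Fin 3) F := !![0, 0, 1; 1, 0, -b; 0, 1, a]

theorem cmat_det (a b : F) : (cmat a b).det = 1 := by
  rw [Matrix.det_fin_three]
  simp [cmat]

/-- the companion matrix as an element of the special linear group -/
def cg (a b : F) : GL (Fin 3) F := gl (cmat a b) (cmat_det a b)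

theorem cg_mem (a b : F) : cg a b ∈ S3 F := gl_mem _ _

theorem tr_cg (a b : F) : tr (cg a b) = a := by
  unfold tr cg
  rw [gl_val, Matrix.trace_fin_three]
  simp [cmat]

theorem tr_cg_inv (a b : F) : tr (cg a b)⁻¹ = b := by
  unfold tr
  rw [inv_val (cg_mem a b)]
  unfold cg
  rw [gl_val, Matrix.adjugate_fin_three, Matrix.trace_fin_three]
  simp [cmat]

/-- the involution -/
def nmat : Matrix (Fin 3) (Fin 3) F := !![0, 1, 0; 1, 0, 0; 0, 0, -1]

theorem nmat_det : (nmat : Matrix (Fin 3) (Fin 3) F).det = 1 := by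
  rw [Matrix.det_fin_three]
  simp [nmat]

def ng : GL (Fin 3) F := gl nmat nmat_det

theorem ng_mem : (ng : GL (Fin 3) F) ∈ S3 F := gl_mem _ _

theorem ng_sq : (ng : GL (Fin 3) F) * ng = 1 := by
  apply Units.ext
  rw [Units.val_mul, Units.val_one]
  unfold ng
  rw [gl_val]
  ext i j
  fin_cases i <;> fin_cases j <;> simp [nmat, Matrix.mul_apply, Fin.sum_univ_three]

theorem ng_ne : (ng : GL (Fin 3) F) ≠ 1 := by
  intro h
  have h1 := congrFun (congrFun (congrArg (fun g : GL (Fin 3) F => (g : Matrix (Fin 3) (Fin 3) F)) h) 0) 1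
  unfold ng at h1
  simp [nmat] at h1

/-- an elementary unipotent group -/
def umat (a b : F) : Matrix (Fin 3) (Fin 3) F := !![1, a, b; 0, 1, 0; 0, 0, 1]

theorem umat_det (a b : F) : (umat a b).det = 1 := by
  rw [Matrix.det_fin_three]
  simp [umat]

theorem umat_mul (a b c d : F) : umat a b * umat c d = umat (a + c) (b + d) := by
  ext i j
  fin_cases i <;> fin_cases j <;> simp [umat, Matrix.mul_apply, Fin.sum_univ_three, add_comm]

def ug (a b : F) : GL (Fin 3) F := gl (umat a b) (umat_det a b)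

theorem ug_mem (a b : F) : ug a b ∈ S3 F := gl_mem _ _

theorem ug_mul (a b c d : F) : ug a b * ug c d = ug (a + c) (b + d) := by
  apply Units.ext
  rw [Units.val_mul]
  unfold ug
  rw [gl_val, gl_val, gl_val, umat_mul]

theorem ug_zero : ug (0 : F) 0 = 1 := by
  apply Units.ext
  unfold ug
  rw [gl_val, Units.val_one]
  ext i j
  fin_cases i <;> fin_cases j <;> simp [umat]

theorem ug_inj {a b c d : F} (h : ug a b = ug c d) : a = c ∧ b = d := by
  have h1 := congrArg (fun g : GL (Fin 3) F => (g : Matrix (Fin 3) (Fin 3) F)) h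
  unfold ug at h1
  simp only [gl_val] at h1
  exact ⟨by simpa [umat] using congrFun (congrFun h1 0) 1, by simpa [umat] using congrFun (congrFun h1 0) 2⟩

theorem ug_pow (a b : F) (n : ℕ) : ug a b ^ n = ug (n * a) (n * b) := by
  induction n with
  | zero => simp [ug_zero]
  | succ n ih =>
    rw [pow_succ, ih, ug_mul]
    push_cast
    congr 1 <;> ring

/-- the elementary abelian group of order `|F₀|²` -/
def uhom (F₀ : Subfield F) : Multiplicative (F₀ × F₀) →* GL (Fin 3) F where
  toFun x := ug (x.toAdd.1 : F) (x.toAdd.2 : F)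
  map_one' := by
    show ug ((0 : F₀) : F) ((0 : F₀) : F) = 1
    rw [ZeroMemClass.coe_zero, ug_zero]
  map_mul' x y := by
    rw [ug_mul]
    rfl

theorem uhom_card (F₀ : Subfield F) : Nat.card (uhom F₀).range = Nat.card F₀ ^ 2 := by
  have hinj : Function.Injective (uhom F₀) := by
    intro x y h
    obtain ⟨h1, h2⟩ := ug_inj (show ug (x.toAdd.1 : F) (x.toAdd.2 : F) = ug (y.toAdd.1 : F) (y.toAdd.2 : F) from h)
    apply Multiplicative.toAdd.injective
    exact Prod.ext (Subtype.ext h1) (Subtype.ext h2)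
  rw [← Nat.card_congr (MonoidHom.ofInjective hinj).toEquiv]
  show Nat.card (F₀ × F₀) = _
  rw [Nat.card_prod, pow_two]

/-- the transvections -/
theorem trans_irr {K : Subgroup (GL (Fin 3) F)} (hK : ∀ i j : Fin 3, ∀ h : i ≠ j, H905.tv h (1 : F) ∈ K) :
    ActsIrreducibly (matrixSet K) := by
  have key : ∀ W : Submodule F (Fin 3 → F), (∀ s ∈ matrixSet K, ∀ w ∈ W, s *ᵥ w ∈ W) →
      ∀ i j : Fin 3, i ≠ j → ∀ w ∈ W, w j • (Pi.single i 1 : Fin 3 → F) ∈ W := by
    intro W hW i j hij w hw
    have h1 := hW _ ⟨_, hK i j hij, rfl⟩ w hw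
    have h2 : ((H905.tv hij (1 : F) : GL (Fin 3) F) : Matrix (Fin 3) (Fin 3) F) *ᵥ w =
        w + w j • (Pi.single i 1 : Fin 3 → F) := by
      rw [H905.tv_val, Matrix.add_mulVec, Matrix.one_mulVec]
      congr 1
      ext k
      simp [Matrix.single_mulVec, Pi.single_apply, Function.update_apply]
    have h3 : w + w j • (Pi.single i 1 : Fin 3 → F) ∈ W := by
      rw [← h2]; exact h1
    have := W.sub_mem h3 hw
    rwa [add_sub_cancel_left] at this
  apply irr_of
  · intro W hW h0
    obtain ⟨v, hv, hv0⟩ := Submodule.exists_mem_ne_zero_of_ne_bot h0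
    obtain ⟨j, hj⟩ : ∃ i, v i ≠ 0 := by
      by_contra hcon
      push Not at hcon
      exact hv0 (funext hcon)
    obtain ⟨i, hi⟩ : ∃ i : Fin 3, i ≠ j := by
      fin_cases j
      · exact ⟨1, by decide⟩
      · exact ⟨0, by decide⟩
      · exact ⟨0, by decide⟩
    have h1 := W.smul_mem (v j)⁻¹ (key W hW i j hi v hv)
    rw [smul_smul, inv_mul_cancel₀ hj, one_smul] at h1
    exact ⟨i, h1⟩
  · rintro W hW ⟨i, hi⟩ j
    by_cases hij : j = i
    · rw [hij]; exact hi
    · have := key W hW j i hij _ hi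
      rwa [Pi.single_eq_same, one_smul] at this

theorem cg_seven (h2 : (2 : F) = 0) : (cg (0 : F) 1) ^ 7 = 1 := by
  obtain ⟨A, hA⟩ : ∃ A : Matrix (Fin 3) (Fin 3) F, A = cmat 0 1 := ⟨_, rfl⟩
  have h3 : A * A * A = 1 - A := by
    rw [hA]
    ext i j
    fin_cases i <;> fin_cases j <;> simp [cmat, Matrix.mul_apply, Fin.sum_univ_three]
  have h6 : (1 - A) * (1 - A) = 1 + A * A := by
    have : (2 : F) • A = 0 := by rw [h2, zero_smul]
    have h4 : A + A = 0 := by rw [← two_smul F A, this]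
    calc (1 - A) * (1 - A) = 1 + A * A - (A + A) := by noncomm_ring
      _ = _ := by rw [h4, sub_zero]
  apply Units.ext
  rw [Units.val_pow_eq_pow_val, Units.val_one]
  show (cmat 0 1) ^ 7 = 1
  rw [← hA]
  calc A ^ 7 = (A * A * A) * (A * A * A) * A := by noncomm_ring
    _ = (1 + A * A) * A := by rw [h3, h6]
    _ = A + A * A * A := by noncomm_ring
    _ = 1 := by rw [h3]; abel

theorem cg_ne (a b : F) : cg a b ≠ 1 := by
  intro h
  have h1 := congrFun (congrFun (congrArg (fun g : GL (Fin 3) F => (g : Matrix (Fin 3) (Fin 3) F)) h) 0) 0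
  unfold cg at h1
  simp [cmat] at h1

/-- traces exclude forms -/
theorem cg_not_sim {σ : F →+* F} {f : (Fin 3 → F) → (Fin 3 → F) → F} (hf : Sesq σ f)
    (h : cg (0 : F) 1 ∈ similarityGroup f) : False := by
  obtain ⟨c, hc⟩ := h
  obtain ⟨h3, h1⟩ := hf.sim (cg_mem 0 1) hc
  rw [tr_cg, tr_cg_inv, map_zero, mul_one] at h1
  rw [← h1] at h3
  norm_num at h3

theorem subfield_eq [Fintype F] {F₀ F₁ : Subfield F} {r s : ℕ} (hr : r.Prime) (hs : s.Prime)
    (h0 : Fintype.card F = Nat.card F₀ ^ r) (h1 : Fintype.card F = Nat.card F₁ ^ s) (hle : F₀ ≤ F₁) : F₀ = F₁ := by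
  have hf0 : Finite F₀ := inferInstance
  have hf1 : Finite F₁ := inferInstance
  have hc0 : 1 < Nat.card F₀ := Finite.one_lt_card
  let _ : Algebra F₀ F₁ := (Subfield.inclusion hle).toAlgebra
  have hcard : Nat.card F₁ = Nat.card F₀ ^ Module.finrank F₀ F₁ := Module.natCard_eq_pow_finrank
  rw [hcard, ← pow_mul, h0] at h1
  have h2 := Nat.pow_right_injective hc0 h1
  have h3 : Module.finrank F₀ F₁ = 1 := by
    have h4 : Module.finrank F₀ F₁ ∣ r := ⟨s, h2⟩
    rcases (Nat.dvd_prime hr).1 h4 with h | h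
    · exact h
    · rw [h] at h2
      have : r * s = r * 1 := by omega
      have := Nat.eq_of_mul_eq_mul_left hr.pos this
      exact absurd this hs.one_lt.ne'
  rw [h3, pow_one] at hcard
  apply SetLike.coe_injective
  apply Set.eq_of_subset_of_ncard_le hle
  show Nat.card F₁ ≤ Nat.card F₀
  exact hcard.le

/-- **Row 4.** -/
theorem row_four [Fintype F] {F₀ : Subfield F} {r : ℕ} (hr : r.Prime) (hcard : Fintype.card F = Nat.card F₀ ^ r)
    (P : GL (Fin 3) F) : IsMaximalIn (S3 F) (subfieldSubgroup F₀ P ⊓ S3 F) := by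
  classical
  have hfin : Finite (GL (Fin 3) F) := inferInstance
  have hf0 : Finite F₀ := inferInstance
  have hc0 : 1 < Nat.card F₀ := Finite.one_lt_card
  obtain ⟨p, n, hchar, hp, hn, hpn⟩ : ∃ p n : ℕ, CharP F p ∧ p.Prime ∧ 0 < n ∧ Fintype.card F = p ^ n := by
    obtain ⟨p, hc, n, hp, h⟩ := FiniteField.card' F
    exact ⟨p, n, hc, hp, n.pos, h⟩
  have hpf : Fact p.Prime := ⟨hp⟩
  rw [subfield_cj]
  apply maximal_cj
  apply maximal_of (H905.not_sl_le_subfieldSubgroup (by simp) (H905.subfield_ne_top_of_card hr hcard) 1)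
  intro M hM hle
  have hmem : ∀ g : GL (Fin 3) F, (∀ i j, (g : Matrix (Fin 3) (Fin 3) F) i j ∈ F₀) → g ∈ S3 F → g ∈ M :=
    fun g hg hS => hle ⟨mem_std hg hS, hS⟩
  have hcg : ∀ a ∈ F₀, ∀ b ∈ F₀, cg a b ∈ M := by
    intro a ha b hb
    apply hmem _ _ (cg_mem a b)
    intro i j
    show cmat a b i j ∈ F₀
    have h1 := F₀.one_mem
    have h0 := F₀.zero_mem
    have hb' := F₀.neg_mem hb
    fin_cases i <;> fin_cases j <;> simpa [cmat]
  have hng : (ng : GL (Fin 3) F) ∈ M := by
    apply hmem _ _ ng_mem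
    intro i j
    show nmat i j ∈ F₀
    have h1 := F₀.one_mem
    have h0 := F₀.zero_mem
    have hb' := F₀.neg_mem h1
    fin_cases i <;> fin_cases j <;> simpa [nmat]
  have hug : ∀ a ∈ F₀, ∀ b ∈ F₀, ug a b ∈ M := by
    intro a ha b hb
    apply hmem _ _ (ug_mem a b)
    intro i j
    show umat a b i j ∈ F₀
    have h1 := F₀.one_mem
    have h0 := F₀.zero_mem
    fin_cases i <;> fin_cases j <;> simpa [umat]
  have htv : ∀ i j : Fin 3, ∀ h : i ≠ j, H905.tv h (1 : F) ∈ M := by
    intro i j h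
    apply hmem _ _ (H905.tv_mem h 1)
    intro k l
    rw [H905.tv_val, Matrix.add_apply, Matrix.one_apply, Matrix.single_apply]
    refine F₀.add_mem ?_ ?_
    · split_ifs
      · exact F₀.one_mem
      · exact F₀.zero_mem
    · split_ifs
      · exact F₀.one_mem
      · exact F₀.zero_mem
  rcases S5775.result M hM with ⟨W, h0, h1, rfl⟩ | ⟨-, D, hD, rfl⟩ | ⟨-, K, hK, rfl⟩ | ⟨F₁, s, P', hs, hcard', rfl⟩ |
    ⟨p', R', hp', hF', hp3', hR', rfl⟩ | ⟨-, Q', hQ', rfl⟩ | ⟨σ, f, hf, rfl⟩ | hres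
  · exact absurd (irr_excl (trans_irr htv) h0 h1 inf_le_left) id
  · exfalso
    have h6 := decomp_unip hD p (A := (uhom F₀).range) (by
      rintro _ ⟨x, rfl⟩
      exact (hug _ x.toAdd.1.2 _ x.toAdd.2.2).1) (by
      rintro _ ⟨x, rfl⟩
      refine ⟨1, ?_⟩
      show ug (x.toAdd.1 : F) (x.toAdd.2 : F) ^ p ^ 1 = 1
      rw [pow_one, ug_pow, CharP.cast_eq_zero, zero_mul, zero_mul, ug_zero])
    rw [uhom_card] at h6
    have h7 := Nat.le_of_dvd (by norm_num) h6
    have h8 : Nat.card F₀ = 2 := by nlinarith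
    rw [h8] at h6
    norm_num at h6
  · exact absurd (ng_ne (no_involution hK hng.1 ng_mem ng_sq)) id
  · have hle' : F₀ ≤ F₁ := by
      intro a ha
      obtain ⟨h1, -, -⟩ := subfield_traces (hcg a ha 1 F₀.one_mem).1 (cg_mem a 1)
      rwa [tr_cg, tr_cg_inv, mul_one] at h1
    have heq := subfield_eq hr hs hcard hcard' hle'
    subst heq
    exact eq_of_le_cj hle (P := P') (by rw [subfield_cj])
  · exact absurd (not_prime_pow hp' hr (by rw [← hF', hcard])) id
  · exact absurd (cg_not_sim (Sesq.of_quad hQ') (quad_le_sim (hcg 0 F₀.zero_mem 1 F₀.one_mem).1)) id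
  · exact absurd (cg_not_sim (Sesq.of_unitary hf) (hcg 0 F₀.zero_mem 1 F₀.one_mem).1) id
  · exfalso
    obtain ⟨P', p', hcore, hp', hchar', h | ⟨⟨e⟩, h⟩⟩ := S5776.result M hM hres
    · obtain ⟨-, hFp, -, -⟩ := h
      exact not_prime_pow hp' hr (by rw [← hFp, hcard])
    · have hpp : p' = p := CharP.eq F hchar' hchar
      subst hpp
      have hdM := card_of_a hcore hM.1.le e
      have hpd : p' ∣ Nat.card M := by
        have h1 : orderOf (⟨ug 1 0, hug 1 F₀.one_mem 0 F₀.zero_mem⟩ : M) = p' := by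
          apply orderOf_eq_prime
          · apply Subtype.ext
            show ug (1 : F) 0 ^ p' = 1
            rw [ug_pow, CharP.cast_eq_zero, zero_mul, zero_mul, ug_zero]
          · intro h
            have h2 : ug (1 : F) 0 = 1 := congrArg Subtype.val h
            rw [← ug_zero] at h2
            exact one_ne_zero (ug_inj h2).1
        rw [← h1]
        exact orderOf_dvd_natCard _
      rcases h with ⟨h, -⟩ | ⟨-, h3, h5⟩
      · exact not_prime_pow hp' hr (by rw [← h, hcard])
      · have h1 : p' ∣ 2 ^ 5 * (3 ^ 3 * 5) := by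
          have := hpd.trans hdM
          norm_num at this ⊢
          exact this
        have h2 : p' = 2 := by
          rcases (Nat.Prime.dvd_mul hp').1 h1 with h | h
          · exact (Nat.prime_dvd_prime_iff_eq hp' Nat.prime_two).1 (hp'.dvd_of_dvd_pow h)
          · rcases (Nat.Prime.dvd_mul hp').1 h with h | h
            · exact absurd ((Nat.prime_dvd_prime_iff_eq hp' Nat.prime_three).1 (hp'.dvd_of_dvd_pow h)) h3
            · have := (Nat.prime_dvd_prime_iff_eq hp' Nat.prime_five).1 h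
              rw [this] at h5
              omega
        subst h2
        have h20 : (2 : F) = 0 := by exact_mod_cast CharP.cast_eq_zero F 2
        have h7 : 7 ∣ Nat.card M := by
          have : Fact (Nat.Prime 7) := ⟨by norm_num⟩
          have h1 : orderOf (⟨cg 0 1, hcg 0 F₀.zero_mem 1 F₀.one_mem⟩ : M) = 7 := by
            apply orderOf_eq_prime
            · exact Subtype.ext (cg_seven h20)
            · intro h
              exact cg_ne (0 : F) 1 (congrArg Subtype.val h)
          rw [← h1]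
          exact orderOf_dvd_natCard _
        have := h7.trans hdM
        norm_num at this

end Cfsg.Agent.H895.SLT
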