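import Cfsg.Agent.H895.SLT.RowSix
import Cfsg.Agent.H956.UnitSim

/-!
# Maximality of the groups of similarities of a unitary form in `SL_3(q)` (helper895)
-/

set_option autoImplicit false
set_option linter.unusedSimpArgs false

namespace Cfsg.Agent.H895.SLT

open Cfsg Cfsg.Geo
open scoped MatrixGroups Matrix
open Cfsg.Agent.H908 (cj mem_cj)
open Cfsg.Agent.LieClassical.HermBasic
open Cfsg.Agent.H960 (A0 C0 T0 P0 A0_eq A0_C0 omega_ne)

variable {F : Type*} [Field F]

theorem not_le_of_cj {σ : F →+* F} {f : (Fin 3 → F) → (Fin 3 → F) → F} (hf : Sesq σ f) {P : GL (Fin 3) F}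
    {H : Subgroup (GL (Fin 3) F)} (h : similarityGroup f = cj P H) : ¬ S3 F ≤ H := by
  intro hle
  apply cg_not_sim hf
  rw [h, mem_cj]
  apply hle
  rw [H905.mem_sl_iff, Units.val_mul, Units.val_mul, Matrix.det_mul, Matrix.det_mul,
    (H905.mem_sl_iff _).1 (cg_mem 0 1), mul_one, ← Matrix.det_mul, Units.inv_mul, Matrix.det_one]

theorem unit_pow {σ : F ≃+* F} {f : (Fin 3 → F) → (Fin 3 → F) → F} (hf : IsUnitaryForm σ f) {q₁ : ℕ}
    (hσ : ∀ x, σ x = x ^ q₁) : IsUnitaryFormPow q₁ f :=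
  ⟨hf.add_left, hf.smul_left, fun v w => by rw [← hσ]; exact hf.herm v w, hf.nondegenerate⟩

theorem unit_std [Fintype F] {q₁ : ℕ} (hF : Fintype.card F = q₁ ^ 2) {f : (Fin 3 → F) → (Fin 3 → F) → F}
    (hf : IsUnitaryFormPow q₁ f) : ∃ P : GL (Fin 3) F, similarityGroup f = cj P (similarityGroup (hermForm 3 F q₁)) := by
  obtain ⟨P, hP⟩ := H956.UnitSim.exists_frame hF hf
  exact ⟨P, sim_cj one_ne_zero (fun u v => by rw [hP, one_mul])⟩

theorem sq_card_inj {q a b : ℕ} (h1 : q = a ^ 2) (h2 : q = b ^ 2) : a = b := by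
  have h : a ^ 2 = b ^ 2 := h1.symm.trans h2
  exact Nat.pow_left_injective (by norm_num : (2 : ℕ) ≠ 0) h

/-- the case of four elements -/
theorem row_seven_four [Fintype F] (hF : Fintype.card F = 4) {σ : F ≃+* F} {f : (Fin 3 → F) → (Fin 3 → F) → F}
    (hf : IsUnitaryForm σ f) : IsMaximalIn (S3 F) (similarityGroup f ⊓ S3 F) := by
  have hfin : Finite (GL (Fin 3) F) := inferInstance
  obtain ⟨q₁, hq₁, hσ⟩ := unit_card hf
  have hq2 : q₁ = 2 := sq_card_inj hq₁ (by rw [hF]; norm_num)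
  subst hq2
  obtain ⟨P, hP⟩ := unit_std hq₁ (unit_pow hf hσ)
  rw [hP]
  apply maximal_cj
  have hchar : CharP F 2 := by
    obtain ⟨p, hc, n, hp, h⟩ := FiniteField.card' F
    have h1 : p ∣ 2 ^ 2 := by
      rw [← hq₁, h]; exact dvd_pow_self p n.pos.ne'
    have h2 := (Nat.prime_dvd_prime_iff_eq hp Nat.prime_two).1 (hp.dvd_of_dvd_pow h1)
    rw [← h2]; exact hc
  have h20 : (2 : F) = 0 := by exact_mod_cast CharP.cast_eq_zero F 2
  have h3 : (3 : F) ≠ 0 := by
    have : (3 : F) = 1 := by linear_combination h20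
    rw [this]; exact one_ne_zero
  obtain ⟨ω, hω⟩ : ∃ ω : F, ω * ω + ω + 1 = 0 := H960.exists_omega (by rw [hF])
  obtain ⟨x, y, s, t, H⟩ := exists_four h3 hω
  have hk : ω * ω - ω = 1 := by linear_combination hω - (ω + 1) * h20
  apply maximal_of
  · exact not_le_of_cj (Sesq.of_unitary hf) hP
  have mx : x ∈ similarityGroup (hermForm 3 F 2) := by
    refine ⟨1, fun u v => ?_⟩
    rw [H.x_mulVec, H.x_mulVec, Units.val_one, one_mul]
    unfold hermForm
    simp only [Fin.sum_univ_three, Matrix.cons_val_zero, Matrix.cons_val_one, Matrix.cons_val]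
    grind
  have my : y ∈ similarityGroup (hermForm 3 F 2) := by
    refine ⟨1, fun u v => ?_⟩
    rw [H.ye, H960.C0_mulVec, H960.C0_mulVec, Units.val_one, one_mul]
    unfold hermForm
    simp only [Fin.sum_univ_three, Matrix.cons_val_zero, Matrix.cons_val_one, Matrix.cons_val]
    ring
  have ms : s ∈ similarityGroup (hermForm 3 F 2) := by
    refine ⟨1, fun u v => ?_⟩
    rw [H.se, hk, inv_one, one_smul, Units.val_one, one_mul]
    unfold hermForm S1
    simp only [Fin.sum_univ_three, Matrix.mulVec, dotProduct, Matrix.of_apply, Matrix.cons_val_zero,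
      Matrix.cons_val_one, Matrix.cons_val]
    grind
  have mt : t ∈ similarityGroup (hermForm 3 F 2) := by
    refine ⟨1, fun u v => ?_⟩
    rw [H.te, hk, inv_one, one_smul, Units.val_one, one_mul]
    unfold hermForm T1
    simp only [Fin.sum_univ_three, Matrix.mulVec, dotProduct, Matrix.of_apply, Matrix.cons_val_zero,
      Matrix.cons_val_one, Matrix.cons_val]
    grind
  intro M hM hle
  have hxM : x ∈ M := hle ⟨mx, H.x_mem⟩
  have hyM : y ∈ M := hle ⟨my, H.y_mem⟩
  have hsM : s ∈ M := hle ⟨ms, H.s_mem⟩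
  have htM : t ∈ M := hle ⟨mt, H.t_mem⟩
  rcases S5775.result M hM with ⟨W, h0, h1, rfl⟩ | ⟨h5, D, hD, rfl⟩ | ⟨h4, K, hK, rfl⟩ | ⟨F₀, r, P, hr, hcard, rfl⟩ |
    ⟨p', R', hp', hF', hp3', hR', rfl⟩ | ⟨hodd, Q', hQ', rfl⟩ | ⟨σ', f', hf', rfl⟩ | hres
  · exact absurd (irr_excl (H.irr hxM hyM) h0 h1 inf_le_left) id
  · omega
  · exact absurd hF h4
  · exfalso
    have hf0 : Finite F₀ := inferInstance
    have hc1 : 1 < Nat.card F₀ := Finite.one_lt_card
    have hc2 : Nat.card F₀ ^ 2 ≤ 4 := pow_two_le hr (by rw [← hF, hcard]) (by omega)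
    have hc : Nat.card F₀ = 2 := by nlinarith
    refine H.not_subfield (F₀ := F₀) (P := P) ?_ hxM.1 hyM.1
    intro hmem
    -- the element `ω` of the field with two elements
    have h2 : (⟨ω, hmem⟩ : F₀) ^ 2 = ⟨ω, hmem⟩ := by
      have hF0 : Fintype F₀ := Fintype.ofFinite F₀
      have := FiniteField.pow_card (⟨ω, hmem⟩ : F₀)
      rwa [← Nat.card_eq_fintype_card, hc] at this
    have h3' : ω ^ 2 = ω := congrArg Subtype.val h2
    rw [← pow_two, h3', sub_self] at hk
    exact zero_ne_one hk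
  · exfalso
    rw [hF] at hF'
    rw [← hF'] at hp'
    norm_num at hp'
  · rw [hF] at hodd
    exact absurd hodd (by decide)
  · obtain ⟨q', hq', hσ'⟩ := unit_card hf'
    have : q' = 2 := sq_card_inj hq' (by rw [hF]; norm_num)
    subst this
    obtain ⟨P', hP'⟩ := unit_std hq' (unit_pow hf' hσ')
    exact eq_of_le_cj hle (P := P') (by rw [hP'])
  · exfalso
    obtain ⟨P', p', hcore, hp', hchar', h | ⟨⟨e⟩, h⟩⟩ := S5776.result M hM hres
    · obtain ⟨-, hFp, -, -⟩ := h
      rw [hF] at hFp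
      rw [← hFp] at hp'
      norm_num at hp'
    · refine H.not_a6 hcore hM.1.le e ?_ hxM hyM hsM htM
      have : (5 : F) = 1 := by linear_combination 2 * h20
      rw [this]; exact one_ne_zero

/-- **Row 7.** -/
theorem row_seven [Fintype F] {σ : F ≃+* F} {f : (Fin 3 → F) → (Fin 3 → F) → F}
    (hf : IsUnitaryForm σ f) : IsMaximalIn (S3 F) (similarityGroup f ⊓ S3 F) := by
  classical
  by_cases h4 : Fintype.card F = 4
  · exact row_seven_four h4 hf
  have hfin : Finite (GL (Fin 3) F) := inferInstance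
  obtain ⟨p, n, hchar, hp, hn, hpn⟩ : ∃ p n : ℕ, CharP F p ∧ p.Prime ∧ 0 < n ∧ Fintype.card F = p ^ n := by
    obtain ⟨p, hc, n, hp, h⟩ := FiniteField.card' F
    exact ⟨p, n, hc, hp, n.pos, h⟩
  have hpf : Fact p.Prime := ⟨hp⟩
  obtain ⟨q₁, hF, hσ⟩ := unit_card hf
  have hq1 : 2 ≤ q₁ := two_le hF
  have hq3 : 3 ≤ q₁ := by
    rcases Nat.lt_or_ge q₁ 3 with h | h
    · exfalso
      have : q₁ = 2 := by omega
      rw [this] at hF
      exact h4 hF
    · exact h
  have hq9 : 9 ≤ Fintype.card F := by rw [hF]; nlinarith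
  obtain ⟨τ, hτ⟩ : ∃ τ : F →+* F, ∀ x, τ x = x ^ q₁ := ⟨((conj hF : F ≃+* F) : F →+* F), fun x => conj_apply hF x⟩
  have hττ : ∀ x, τ (τ x) = x := fun x => by rw [hτ, hτ, pow_q_pow_q hF]
  have haf : IsUnitaryFormPow q₁ (aform τ) := by
    refine ⟨fun x y v => ?_, fun c x v => ?_, fun v w => ?_, fun v hv => ?_⟩
    · simp only [aform, Pi.add_apply]; ring
    · simp only [aform, Pi.smul_apply, smul_eq_mul]; ring
    · rw [← hτ]
      simp only [aform, map_add, map_mul, hττ]; ring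
    · have hne : ∃ x, aform τ v x ≠ 0 := by
        by_contra hcon
        push Not at hcon
        apply hv
        have k0 := hcon (Pi.single 2 1)
        have k1 := hcon (Pi.single 1 1)
        have k2 := hcon (Pi.single 0 1)
        simp [aform] at k0 k1 k2
        ext i
        fin_cases i
        · exact k0
        · exact k1
        · exact k2
      refine ⟨?_, hne⟩
      obtain ⟨x, hx⟩ := hne
      refine ⟨x, fun h => hx ?_⟩
      have e : aform τ v x = τ (aform τ x v) := by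
        simp only [aform, map_add, map_mul, hττ]; ring
      rw [e, h, map_zero]
  obtain ⟨Pa, hPa⟩ := unit_std hF haf
  have hstd : ∀ {f' : (Fin 3 → F) → (Fin 3 → F) → F}, IsUnitaryFormPow q₁ f' →
      ∃ P : GL (Fin 3) F, similarityGroup f' = cj P (similarityGroup (aform τ)) := by
    intro f' hf'
    obtain ⟨P, hP⟩ := unit_std hF hf'
    refine ⟨P * Pa⁻¹, ?_⟩
    rw [hP, ← cj_cj, hPa, cj_cj_inv]
  obtain ⟨P, hP⟩ := hstd (unit_pow hf hσ)
  rw [hP]
  apply maximal_cj
  apply maximal_of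
  · exact not_le_of_cj (Sesq.of_unitary hf) hP
  intro M hM hle
  have hexa : ∀ a : F, ∃ b : F, b + τ b + a * τ a = 0 := by
    intro a
    obtain ⟨b, hb⟩ := exists_trace_eq hF (c := -(a * τ a)) (by
      rw [← hτ, map_neg, map_mul, hττ, mul_comm])
    refine ⟨b, ?_⟩
    rw [← hτ] at hb
    rw [hb]; ring
  have hexb : ∀ b : F, ∃ a : F, b + τ b + a * τ a = 0 := by
    intro b
    obtain ⟨a, ha⟩ := exists_norm_eq hF (c := -(b + τ b)) (by
      rw [← hτ, map_neg, map_add, hττ, add_comm])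
    refine ⟨a, ?_⟩
    rw [← hτ] at ha
    rw [ha]; ring
  have hb : ∀ a b, b + τ b + a * τ a = 0 → bg τ a b ∈ M := fun a b h => hle ⟨bg_mem hττ h, bg_S _ _ _⟩
  have hw : (wg : GL (Fin 3) F) ∈ M := hle ⟨wg_mem, wg_S⟩
  have hA : agrp τ hττ ≤ M := by
    rintro _ ⟨a, b, h, rfl⟩
    exact hb a b h
  rcases S5775.result M hM with ⟨W, h0, h1, rfl⟩ | ⟨h5, D, hD, rfl⟩ | ⟨-, K, hK, rfl⟩ | ⟨F₁, s, P', hs, hcard', rfl⟩ |
    ⟨p', R', hp', hF', hp3', hR', rfl⟩ | ⟨-, Q', hQ', rfl⟩ | ⟨σ', f', hf', rfl⟩ | hres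
  · obtain ⟨b, hb1⟩ := hexa 1
    exact absurd (irr_excl (anti_irr (hb 1 b hb1) hw) h0 h1 inf_le_left) id
  · exact absurd (agrp_not_decomp τ hττ p hexa (by rw [Nat.card_eq_fintype_card]; omega) hD
      (hA.trans inf_le_left)) id
  · exact absurd (wg_ne (no_involution hK hw.1 wg_S wg_sq)) id
  · exfalso
    have hf1 : Finite F₁ := inferInstance
    have hc1 : 1 < Nat.card F₁ := Finite.one_lt_card
    have hc2 : Nat.card F₁ ^ 2 ≤ Fintype.card F := pow_two_le hs hcard' (by omega)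
    have hcube : ∀ c : F, c ^ 3 ∈ F₁ := by
      intro c
      obtain ⟨a, ha⟩ := hexb (c + 1)
      obtain ⟨-, h3, -⟩ := subfield_traces (mul_mem (hb _ _ ha).1 hw.1) ((S3 F).mul_mem (bg_S τ _ _) wg_S)
      rwa [tr_bw, add_sub_cancel_right] at h3
    obtain ⟨g, hg⟩ := IsCyclic.exists_generator (α := Fˣ)
    have hgo : orderOf g = Fintype.card F - 1 := by
      rw [orderOf_eq_card_of_forall_mem_zpowers hg, Nat.card_eq_fintype_card, Fintype.card_units]
    have hgp : g ^ (3 * (Nat.card F₁ - 1)) = 1 := by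
      apply Units.ext
      rw [Units.val_pow_eq_pow_val, Units.val_one, pow_mul]
      have hF0 : Fintype F₁ := Fintype.ofFinite F₁
      have h0 : (⟨(g : F) ^ 3, hcube g⟩ : F₁) ≠ 0 := by
        intro h
        have : (g : F) ^ 3 = 0 := congrArg Subtype.val h
        exact pow_ne_zero 3 g.ne_zero this
      have h1 := FiniteField.pow_card_sub_one_eq_one _ h0
      rw [← Nat.card_eq_fintype_card] at h1
      exact congrArg Subtype.val h1
    have hd := orderOf_dvd_of_pow_eq_one hgp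
    rw [hgo] at hd
    have hle' := Nat.le_of_dvd (by omega) hd
    obtain ⟨c, hc⟩ : ∃ c, Nat.card F₁ = c := ⟨_, rfl⟩
    rw [hc] at hle' hc2 hc1
    have : c ≤ 2 := by
      by_contra hcon
      push Not at hcon
      have h1 : c ^ 2 ≤ 3 * (c - 1) + 1 := by omega
      have h2 : 3 * (c - 1) + 1 = 3 * c - 2 := by omega
      have h5 : c ^ 2 + 2 ≤ 3 * c := by omega
      nlinarith
    omega
  · exfalso
    exact not_prime_sq hp' (by rw [← hF', hF])
  · exfalso
    obtain ⟨x, hx⟩ := exists_not_fixed hF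
    apply hx
    obtain ⟨a, ha⟩ := hexb x
    have h1 := bw_other (Sesq.of_quad hQ') p ha (quad_le_sim (hb _ _ ha).1) (quad_le_sim hw.1)
    rw [RingHom.id_apply, hτ] at h1
    exact h1.symm
  · obtain ⟨q', hq', hσ'⟩ := unit_card hf'
    have : q' = q₁ := sq_card_inj hq' hF
    subst this
    obtain ⟨P', hP'⟩ := hstd (unit_pow hf' hσ')
    exact eq_of_le_cj hle (P := P') (by rw [hP'])
  · exfalso
    obtain ⟨P', p', hcore, hp', hchar', h | ⟨⟨e⟩, h⟩⟩ := S5776.result M hM hres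
    · obtain ⟨-, hFp, -, -⟩ := h
      exact not_prime_sq hp' (by rw [← hFp, hF])
    · have hpp : p' = p := CharP.eq F hchar' hchar
      subst hpp
      have hpM : p' ∣ Nat.card M := by
        have hPg : IsPGroup p' (agrp τ hττ) := by
          rintro ⟨_, a, b, h, rfl⟩
          exact ⟨2, Subtype.ext (bg_pow τ p' a b)⟩
        obtain ⟨k, hk⟩ := IsPGroup.iff_card.1 hPg
        have hne : k ≠ 0 := by
          rintro rfl
          rw [pow_zero, Subgroup.card_eq_one] at hk
          obtain ⟨b, hb1⟩ := hexa 1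
          have h1 : bg τ 1 b ∈ agrp τ hττ := ⟨1, b, hb1, rfl⟩
          rw [hk, Subgroup.mem_bot, ← bg_one τ] at h1
          exact one_ne_zero (bg_inj h1).1
        exact ((dvd_pow_self p' hne).trans hk.symm.dvd).trans (Subgroup.card_dvd_of_le hA)
      have h1 := hpM.trans (card_of_a hcore hM.1.le e)
      rcases h with ⟨h, -⟩ | ⟨hFp, hp3, h5⟩
      · exact not_prime_sq hp' (by rw [← h, hF])
      · have h3 : p' ∣ 2 ^ 5 * (3 ^ 3 * 5) := by norm_num; exact h1
        rcases (Nat.Prime.dvd_mul hp').1 h3 with h' | h'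
        · have := (Nat.prime_dvd_prime_iff_eq hp' Nat.prime_two).1 (hp'.dvd_of_dvd_pow h')
          rw [this] at hFp
          exact h4 hFp
        · rcases (Nat.Prime.dvd_mul hp').1 h' with h' | h'
          · exact hp3 ((Nat.prime_dvd_prime_iff_eq hp' Nat.prime_three).1 (hp'.dvd_of_dvd_pow h'))
          · have := (Nat.prime_dvd_prime_iff_eq hp' Nat.prime_five).1 h'
            rw [this] at h5; omega

end Cfsg.Agent.H895.SLT
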