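import Cfsg.Agent.H895.SLT.Base
import Cfsg.Agent.H960.HeisCases

/-!
# Elements of the normaliser of a group of order 27 in `SL_3` (helper895)
-/

set_option autoImplicit false

namespace Cfsg.Agent.H895.SLT

open Cfsg Cfsg.Geo
open scoped MatrixGroups Matrix
open Cfsg.Agent.H960

variable {F : Type*} [Field F]

theorem scalar_pow_three {z : GL (Fin 3) F} (hz : z ∈ scalars (Fin 3) F) (hS : z ∈ S3 F) : z ^ 3 = 1 := by
  obtain ⟨c, hc⟩ := (mem_scalars_iff _).1 hz
  have h1 := det_eq_one hS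
  rw [hc, Matrix.det_smul, Matrix.det_one, mul_one, Fintype.card_fin] at h1
  apply Units.ext
  rw [Units.val_pow_eq_pow_val, hc, smul_pow, h1, one_pow, one_smul, Units.val_one]

/-- no elements of prime order at least five -/
theorem norm_prime [Finite F] (h3 : (3 : F) ≠ 0) {R : Subgroup (GL (Fin 3) F)}
    (hR : Nat.card R = 27) {Q a b : GL (Fin 3) F} {ω : F} (H : Heis R Q a b ω) {r : ℕ} [Fact r.Prime] (hr2 : r ≠ 2)
    (hr3 : r ≠ 3) {y : GL (Fin 3) F} (hy : y ∈ subgroupNormalizer R) (hyS : y ∈ S3 F) (hyr : y ^ r = 1) : y = 1 := by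
  have hr : r.Prime := Fact.out
  have hfinR : Finite R := Nat.finite_of_card_ne_zero (by rw [hR]; norm_num)
  by_contra hy1
  have hys : y ∉ scalars (Fin 3) F := by
    intro hs
    exact hy1 (pow_eq_one_of_coprime (scalar_pow_three hs hyS) hyr
      ((Nat.coprime_primes Nat.prime_three hr).2 (Ne.symm hr3)))
  have hmod := card_modEq_CR (R := R) (y := y) (r := r) (fun g hg => mem_normalizer hy hg)
    (fun g _ => by rw [hyr, one_mul, mul_one])
  rw [hR] at hmod
  have hdvd : Nat.card (CR R y) ∣ 27 := by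
    rw [← hR]
    exact Subgroup.card_dvd_of_le CR_le
  have h27 : Nat.card (CR R y) ≠ 27 := by
    intro h
    have heq : CR R y = R := by
      apply Subgroup.eq_of_le_of_card_ge CR_le
      rw [hR, h]
    apply hys
    have ha := H.ha
    have hb := H.hb
    rw [← heq, mem_CR] at ha hb
    exact H.scalar_of_comm h3 ha.2.symm hb.2.symm
  have h1 : Nat.card (CR R y) ≠ 1 := by
    intro h
    obtain ⟨z, hz, hzm⟩ := H.comm
    have hzs : z ∈ scalars (Fin 3) F := (mem_scalars_iff' _).2 ⟨ω, hzm⟩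
    have hzC : z ∈ CR R y := mem_CR.2 ⟨hz, scalar_comm hzs y⟩
    have hsub := (Nat.card_eq_one_iff_unique.1 h).1
    have h2 : (⟨z, hzC⟩ : CR R y) = 1 := Subsingleton.elim _ _
    have h4 : z = 1 := congrArg Subtype.val h2
    have h5 := congrArg (fun g : GL (Fin 3) F => (g : Matrix (Fin 3) (Fin 3) F) 0 0) h4
    simp only [hzm, Matrix.smul_apply, Units.val_one, Matrix.one_apply_eq, smul_eq_mul, mul_one] at h5
    exact (omega_ne h3 H.hω).1 h5
  have key : ∀ m : ℕ, m = 24 ∨ m = 18 → ¬ r ∣ m := by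
    intro m hm hd
    have h6 : r ∣ 2 ^ 3 * 3 ^ 2 := by
      rcases hm with h | h
      · rw [h] at hd
        exact hd.trans (by norm_num)
      · rw [h] at hd
        exact hd.trans (by norm_num)
    rcases (Nat.Prime.dvd_mul hr).1 h6 with h | h
    · exact hr2 ((Nat.prime_dvd_prime_iff_eq hr Nat.prime_two).1 (hr.dvd_of_dvd_pow h))
    · exact hr3 ((Nat.prime_dvd_prime_iff_eq hr Nat.prime_three).1 (hr.dvd_of_dvd_pow h))
  rcases dvd27 hdvd with h | h | h | h
  · exact h1 h
  · rw [h] at hmod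
    exact key 24 (Or.inl rfl) ((Nat.modEq_iff_dvd' (by norm_num)).1 hmod.symm)
  · rw [h] at hmod
    exact key 18 (Or.inr rfl) ((Nat.modEq_iff_dvd' (by norm_num)).1 hmod.symm)
  · exact h27 h

theorem a_not_scalar (h3 : (3 : F) ≠ 0) {R : Subgroup (GL (Fin 3) F)} {Q a b : GL (Fin 3) F} {ω : F}
    (H : Heis R Q a b ω) : a ∉ scalars (Fin 3) F := by
  intro this
  obtain ⟨c, hc⟩ := (mem_scalars_iff _).1 this
  have hA := H.conj_mul.1
  have hs : Q⁻¹ * a * Q = a := by
    rw [mul_assoc, scalar_comm this, ← mul_assoc, inv_mul_cancel, one_mul]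
  rw [hs, hc, A0_eq] at hA
  have e0 : (c : F) = 1 := by simpa using congrFun (congrFun hA 0) 0
  have e1 : (c : F) = ω := by simpa using congrFun (congrFun hA 1) 1
  exact (omega_ne h3 H.hω).1 (e1.symm.trans e0)

/-- an involution in the normaliser inverts modulo scalars -/
theorem norm_inv [Finite F] (h3 : (3 : F) ≠ 0) {R : Subgroup (GL (Fin 3) F)}
    (hR : Nat.card R = 27) (he : ∀ g ∈ R, g ^ 3 = 1) {Q a b : GL (Fin 3) F} {ω : F} (H : Heis R Q a b ω)
    {e : GL (Fin 3) F} (hen : e ∈ subgroupNormalizer R) (hS : e ∈ S3 F) (h2 : e * e = 1) (h1 : e ≠ 1)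
    {g : GL (Fin 3) F} (hg : g ∈ R) : g * (e * g * e⁻¹) ∈ scalars (Fin 3) F := by
  have hfinR : Finite R := Nat.finite_of_card_ne_zero (by rw [hR]; norm_num)
  have hei : e⁻¹ = e := inv_eq_of_mul_eq_one_left h2
  -- commutators are scalars
  have hna : ∃ u v : R, u * v ≠ v * u := by
    refine ⟨⟨a, H.ha⟩, ⟨b, H.hb⟩, fun h => ?_⟩
    have hab : a * b = b * a := congrArg Subtype.val h
    exact a_not_scalar h3 H (H.scalar_of_comm h3 (y := a) rfl hab)
  have hcen : ∀ u ∈ R, ∀ v ∈ R, u * v * u⁻¹ * v⁻¹ ∈ scalars (Fin 3) F := by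
    intro u hu v hv
    have h5 := comm_central hR hna ⟨u, hu⟩ ⟨v, hv⟩
    rw [Subgroup.mem_center_iff] at h5
    have h6 := h5 ⟨a, H.ha⟩
    have h7 := h5 ⟨b, H.hb⟩
    exact H.scalar_of_comm h3 (congrArg Subtype.val h6).symm (congrArg Subtype.val h7).symm
  -- products commute with `e`
  have hprod : ∀ u ∈ R, e * (u * (e * u * e⁻¹)) * e⁻¹ = u * (e * u * e⁻¹) := by
    intro u hu
    set w := e * u * e⁻¹ with hw
    have hwR : w ∈ R := mem_normalizer hen hu
    have ew : e * w * e⁻¹ = u := by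
      rw [hw, hei]
      calc e * (e * u * e) * e = (e * e) * u * (e * e) := by group
        _ = u := by rw [h2, one_mul, mul_one]
    have e1 : e * (u * w) * e⁻¹ = w * u := by
      calc e * (u * w) * e⁻¹ = (e * u * e⁻¹) * (e * w * e⁻¹) := by group
        _ = w * u := by rw [ew]
    obtain ⟨z, hz⟩ : ∃ z : GL (Fin 3) F, z = w * u * w⁻¹ * u⁻¹ := ⟨_, rfl⟩
    have hzs : z ∈ scalars (Fin 3) F := by rw [hz]; exact hcen w hwR u hu
    have hzR : z ∈ R := by
      rw [hz]; exact R.mul_mem (R.mul_mem (R.mul_mem hwR hu) (R.inv_mem hwR)) (R.inv_mem hu)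
    have hzwu : w * u = z * (u * w) := by rw [hz]; group
    -- applying `e` again
    have h5 : u * w = z * (z * (u * w)) := by
      calc u * w = (e * w * e⁻¹) * (e * u * e⁻¹) := by rw [ew]
        _ = e * (w * u) * e⁻¹ := by group
        _ = e * (z * (u * w)) * e⁻¹ := by rw [hzwu]
        _ = z * (e * (u * w) * e⁻¹) := by
            rw [← mul_assoc e z, ← scalar_comm hzs e]; group
        _ = z * (z * (u * w)) := by rw [e1, hzwu]
    have h6 : z * z = 1 := by
      have := mul_right_cancel (a := 1) (b := u * w) (c := z * z) (by rw [one_mul, mul_assoc]; exact h5)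
      exact this.symm
    have h7 : z = 1 := by
      have h8 := he z hzR
      calc z = z ^ 3 * (z * z)⁻¹ := by group
        _ = 1 := by rw [h8, h6]; group
    rw [e1, hzwu, h7, one_mul]
  by_contra hcon
  set u := g * (e * g * e⁻¹) with hu
  have huR : u ∈ R := R.mul_mem hg (mem_normalizer hen hg)
  have heu := hprod g hg
  rw [← hu] at heu
  -- some element does not commute with `u`
  have hex : ∃ v ∈ R, u * v ≠ v * u := by
    by_contra hc
    push Not at hc
    exact hcon (H.scalar_of_comm h3 (hc a H.ha) (hc b H.hb))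
  obtain ⟨v, hv, huv⟩ := hex
  set w := v * (e * v * e⁻¹) with hw
  have hwR : w ∈ R := R.mul_mem hv (mem_normalizer hen hv)
  have hew := hprod v hv
  rw [← hw] at hew
  obtain ⟨ζ, hζ⟩ : ∃ ζ : GL (Fin 3) F, ζ = u * v * u⁻¹ * v⁻¹ := ⟨_, rfl⟩
  have hζs : ζ ∈ scalars (Fin 3) F := by rw [hζ]; exact hcen u huR v hv
  have hζR : ζ ∈ R := by
    rw [hζ]; exact R.mul_mem (R.mul_mem (R.mul_mem huR hv) (R.inv_mem huR)) (R.inv_mem hv)
  have huvζ : u * v = ζ * (v * u) := by rw [hζ]; group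
  have huv' : u * (e * v * e⁻¹) = ζ * ((e * v * e⁻¹) * u) := by
    calc u * (e * v * e⁻¹) = (e * u * e⁻¹) * (e * v * e⁻¹) := by rw [heu]
      _ = e * (u * v) * e⁻¹ := by group
      _ = e * (ζ * (v * u)) * e⁻¹ := by rw [huvζ]
      _ = ζ * (e * (v * u) * e⁻¹) := by rw [← mul_assoc e ζ, ← scalar_comm hζs e]; group
      _ = ζ * ((e * v * e⁻¹) * (e * u * e⁻¹)) := by group
      _ = _ := by rw [heu]
  have huw : u * w = ζ * ζ * (w * u) := by
    calc u * w = (u * v) * (e * v * e⁻¹) := (mul_assoc u v (e * v * e⁻¹)).symm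
      _ = ζ * (v * (u * (e * v * e⁻¹))) := by rw [huvζ]; group
      _ = ζ * (v * (ζ * ((e * v * e⁻¹) * u))) := by rw [huv']
      _ = ζ * (ζ * (v * ((e * v * e⁻¹) * u))) := by rw [← mul_assoc v ζ, ← scalar_comm hζs v, mul_assoc]
      _ = ζ * ζ * (w * u) := by rw [hw]; group
  have hnc : u * w ≠ w * u := by
    intro h
    rw [h] at huw
    have h5 : ζ * ζ = 1 := by
      have := mul_right_cancel (a := 1) (b := w * u) (c := ζ * ζ) (by rw [one_mul]; exact huw)
      exact this.symm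
    have h6 := he ζ hζR
    have h7 : ζ = 1 := by
      calc ζ = ζ ^ 3 * (ζ * ζ)⁻¹ := by group
        _ = 1 := by rw [h6, h5]; group
    rw [h7, one_mul] at huvζ
    exact huv huvζ
  have hgen := closure_of_noncomm hR huR hwR hnc
  have hce : ∀ k ∈ R, e * k = k * e := by
    intro k hk
    have hle : Subgroup.closure {u, w} ≤ Subgroup.centralizer {e} := by
      rw [Subgroup.closure_le]
      rintro m (rfl | hm)
      · rw [SetLike.mem_coe, Subgroup.mem_centralizer_singleton_iff]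
        exact (mul_inv_eq_iff_eq_mul.1 heu).symm
      · rw [Set.mem_singleton_iff] at hm
        rw [hm, SetLike.mem_coe, Subgroup.mem_centralizer_singleton_iff]
        exact (mul_inv_eq_iff_eq_mul.1 hew).symm
    have := hle (hgen k hk)
    rw [Subgroup.mem_centralizer_singleton_iff] at this
    exact this.symm
  have hes := H.scalar_of_comm h3 (hce a H.ha) (hce b H.hb)
  have h5 := scalar_pow_three hes hS
  apply h1
  calc e = e ^ 3 * (e * e)⁻¹ := by group
    _ = 1 := by rw [h5, h2]; group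

/-- no two commuting involutions -/
theorem norm_four [Finite F] (h3 : (3 : F) ≠ 0) {R : Subgroup (GL (Fin 3) F)}
    (hR : Nat.card R = 27) (he : ∀ g ∈ R, g ^ 3 = 1) {Q a b : GL (Fin 3) F} {ω : F} (H : Heis R Q a b ω)
    {e f : GL (Fin 3) F} (hen : e ∈ subgroupNormalizer R) (hS : e ∈ S3 F) (h2 : e * e = 1) (h1 : e ≠ 1)
    (hfn : f ∈ subgroupNormalizer R) (hfS : f ∈ S3 F) (f2 : f * f = 1) (f1 : f ≠ 1) (hef : e * f = f * e)
    (hne : e ≠ f) : False := by
  have hfi : f⁻¹ = f := inv_eq_of_mul_eq_one_left f2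
  have hei : e⁻¹ = e := inv_eq_of_mul_eq_one_left h2
  have k2 : (e * f) * (e * f) = 1 := by
    calc (e * f) * (e * f) = e * (f * e) * f := by group
      _ = e * (e * f) * f := by rw [hef]
      _ = (e * e) * (f * f) := by group
      _ = 1 := by rw [h2, f2, one_mul]
  have k1 : e * f ≠ 1 := by
    intro h
    apply hne
    rw [← hfi]
    exact eq_inv_of_mul_eq_one_left h
  -- `a` is inverted by each
  have i1 := norm_inv h3 hR he H hfn hfS f2 f1 H.ha
  have hfa : f * a * f⁻¹ ∈ R := mem_normalizer hfn H.ha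
  have i2 := norm_inv h3 hR he H hen hS h2 h1 hfa
  have i3 := norm_inv h3 hR he H (Subgroup.mul_mem _ hen hfn) ((S3 F).mul_mem hS hfS) k2 k1 H.ha
  have e3 : e * f * a * (e * f)⁻¹ = e * (f * a * f⁻¹) * e⁻¹ := by group
  rw [e3] at i3
  -- a * (f a f⁻¹), (f a f⁻¹) * k, a * k scalars
  set m := f * a * f⁻¹ with hm
  set k := e * m * e⁻¹ with hk
  have j : a * a ∈ scalars (Fin 3) F := by
    have h5 : (a * k) * (m * k)⁻¹ * (a * m) ∈ scalars (Fin 3) F :=
      (scalars (Fin 3) F).mul_mem ((scalars (Fin 3) F).mul_mem i3 ((scalars (Fin 3) F).inv_mem i2)) i1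
    have h6 : (a * k) * (m * k)⁻¹ * (a * m) = a * m⁻¹ * (a * m) := by group
    rw [h6] at h5
    -- `a m` is scalar, so `m⁻¹ = a z`
    have h7 : a * m⁻¹ * (a * m) = a * (a * m) * m⁻¹ := by
      rw [mul_assoc a, ← scalar_comm i1 m⁻¹, ← mul_assoc]
    rw [h7] at h5
    have h8 : a * (a * m) * m⁻¹ = a * a := by group
    rwa [h8] at h5
  have h4 : a * a * (a * a) ∈ scalars (Fin 3) F := (scalars (Fin 3) F).mul_mem j j
  have h5 : a * a * (a * a) = a := by
    calc a * a * (a * a) = a ^ 3 * a := by simp only [pow_succ, pow_zero, one_mul, mul_assoc]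
      _ = a := by rw [he a H.ha, one_mul]
  rw [h5] at h4
  exact a_not_scalar h3 H h4

end Cfsg.Agent.H895.SLT
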