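import Cfsg.Agent.H895.SLT.Anti
import Cfsg.Agent.H895.SLT.NormPrime
import Cfsg.Agent.H956.OrthSim

/-!
# Maximality of the groups of similarities of a quadratic form in `SL_3(q)` (helper895)
-/

set_option autoImplicit false
set_option linter.unusedSimpArgs false

namespace Cfsg.Agent.H895.SLT

open Cfsg Cfsg.Geo
open scoped MatrixGroups Matrix
open Cfsg.Agent.H908 (cj mem_cj)
open Cfsg.Agent.H956.OrthSim (gram polar_eq gram_transpose det_gram_ne_zero exists_congr)

variable {F : Type*} [Field F]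

theorem quad_eq_sim (h2 : (2 : F) ≠ 0) {Q : (Fin 3 → F) → F} (hQ : IsNondegenerateQuadraticForm Q) :
    quadSimilarityGroup Q = similarityGroup (QuadraticMap.polar Q) := by
  apply le_antisymm quad_le_sim
  rintro g ⟨c, hc⟩
  refine ⟨c, fun v => ?_⟩
  have key : ∀ v, QuadraticMap.polar Q v v = 2 * Q v := by
    intro v
    unfold QuadraticMap.polar
    rw [← two_smul F v, hQ.smul]
    ring
  have h1 := hc v v
  rw [key, key] at h1
  apply mul_left_cancel₀ h2
  rw [h1]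
  ring

theorem quad_std [Fintype F] (h2 : (2 : F) ≠ 0) {Q : (Fin 3 → F) → F} (hQ : IsNondegenerateQuadraticForm Q) :
    ∃ P : GL (Fin 3) F, quadSimilarityGroup Q = cj P (similarityGroup (aform (RingHom.id F))) := by
  set G := gram Q with hG
  have hG0 : G.det ≠ 0 := det_gram_ne_zero hQ
  obtain ⟨m, hm⟩ : ∃ m, m = G.det ^ 2 := ⟨_, rfl⟩
  have hm0 : m ≠ 0 := by rw [hm]; exact pow_ne_zero 2 hG0
  obtain ⟨P, -, hP⟩ := exists_congr h2 ((-G.det) • G) (!![0, 0, m; 0, 1, 0; m, 0, 0])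
    (by rw [Matrix.transpose_smul, gram_transpose])
    (by rw [Matrix.det_smul, Fintype.card_fin]; exact mul_ne_zero (pow_ne_zero 3 (neg_ne_zero.2 hG0)) hG0)
    (by ext i j; fin_cases i <;> fin_cases j <;> simp)
    (by
      rw [Matrix.det_smul, Fintype.card_fin, Matrix.det_fin_three]
      simp [hm]
      ring)
  obtain ⟨D, hD⟩ : ∃ D : GL (Fin 3) F, (D : Matrix (Fin 3) (Fin 3) F) = !![m⁻¹, 0, 0; 0, 1, 0; 0, 0, 1] :=
    ⟨Matrix.GeneralLinearGroup.mkOfDetNeZero (!![m⁻¹, 0, 0; 0, 1, 0; 0, 0, 1]) (by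
      rw [Matrix.det_fin_three]; simp [hm0]), rfl⟩
  refine ⟨P * D, ?_⟩
  rw [quad_eq_sim h2 hQ]
  apply sim_cj (l := (-G.det)⁻¹) (inv_ne_zero (neg_ne_zero.2 hG0))
  intro u v
  rw [polar_eq hQ, ← hG, Matrix.mulVec_mulVec, Matrix.dotProduct_mulVec, Matrix.vecMul_mulVec]
  have e1 : G = (-G.det)⁻¹ • ((-G.det) • G) := by
    rw [smul_smul, inv_mul_cancel₀ (neg_ne_zero.2 hG0), one_smul]
  have e2 : ((P * D : GL (Fin 3) F) : Matrix (Fin 3) (Fin 3) F)ᵀ * (G * ((P * D : GL (Fin 3) F) :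
      Matrix (Fin 3) (Fin 3) F)) = (-G.det)⁻¹ • !![0, 0, 1; 0, 1, 0; 1, 0, 0] := by
    calc ((P * D : GL (Fin 3) F) : Matrix (Fin 3) (Fin 3) F)ᵀ * (G * ((P * D : GL (Fin 3) F) :
          Matrix (Fin 3) (Fin 3) F))
        = (D : Matrix (Fin 3) (Fin 3) F)ᵀ * ((P : Matrix (Fin 3) (Fin 3) F)ᵀ * G * (P : Matrix (Fin 3) (Fin 3) F)) *
          (D : Matrix (Fin 3) (Fin 3) F) := by
            rw [Units.val_mul, Matrix.transpose_mul]; simp only [mul_assoc]
      _ = (-G.det)⁻¹ • ((D : Matrix (Fin 3) (Fin 3) F)ᵀ * ((P : Matrix (Fin 3) (Fin 3) F)ᵀ * ((-G.det) • G) *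
          (P : Matrix (Fin 3) (Fin 3) F)) * (D : Matrix (Fin 3) (Fin 3) F)) := by
            conv_lhs => rw [e1]
            simp only [Matrix.mul_smul, Matrix.smul_mul]
      _ = _ := by
            rw [hP, hD]
            congr 1
            ext i j
            fin_cases i <;> fin_cases j <;> simp [Matrix.mul_apply, Fin.sum_univ_three, hm0]
  rw [e2]
  unfold aform
  simp [Matrix.vecMul, dotProduct, Fin.sum_univ_three]
  ring

/-- **Row 6.** -/
theorem row_six [Fintype F] (hodd : Odd (Fintype.card F)) {Q : (Fin 3 → F) → F}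
    (hQ : IsNondegenerateQuadraticForm Q) : IsMaximalIn (S3 F) (quadSimilarityGroup Q ⊓ S3 F) := by
  classical
  have hfin : Finite (GL (Fin 3) F) := inferInstance
  obtain ⟨p, n, hchar, hp, hn, hpn⟩ : ∃ p n : ℕ, CharP F p ∧ p.Prime ∧ 0 < n ∧ Fintype.card F = p ^ n := by
    obtain ⟨p, hc, n, hp, h⟩ := FiniteField.card' F
    exact ⟨p, n, hc, hp, n.pos, h⟩
  have hpf : Fact p.Prime := ⟨hp⟩
  have hp2 : p ≠ 2 := by
    rintro rfl
    rw [hpn] at hodd
    exact (Nat.not_even_iff_odd.2 hodd) ((Nat.even_pow.2 ⟨even_two, hn.ne'⟩))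
  have hcast : ∀ l : ℕ, l.Prime → l ≠ p → (l : F) ≠ 0 := by
    intro l hl hlp h
    rw [CharP.cast_eq_zero_iff F p] at h
    exact hlp ((Nat.prime_dvd_prime_iff_eq hp hl).1 h).symm
  have h2 : (2 : F) ≠ 0 := by exact_mod_cast hcast 2 Nat.prime_two hp2.symm
  obtain ⟨P, hP⟩ := quad_std h2 hQ
  rw [hP]
  apply maximal_cj
  obtain ⟨σ, hσ⟩ : ∃ σ : F →+* F, σ = RingHom.id F := ⟨_, rfl⟩
  rw [← hσ] at hP ⊢
  have hσσ : ∀ x, σ (σ x) = x := fun x => by rw [hσ]; rfl
  have hsx : ∀ x, σ x = x := fun x => by rw [hσ]; rfl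
  have hadm : ∀ a : F, (-(a * a) / 2) + σ (-(a * a) / 2) + a * σ a = 0 := by
    intro a
    rw [hsx, hsx]
    field_simp
    ring
  apply maximal_of
  · intro h
    have h1 := quad_le_sim (Q := Q) (show cg (0 : F) 1 ∈ quadSimilarityGroup Q by
      rw [hP, mem_cj]
      apply h
      rw [H905.mem_sl_iff, Units.val_mul, Units.val_mul, Matrix.det_mul, Matrix.det_mul,
        (H905.mem_sl_iff _).1 (cg_mem 0 1), mul_one, ← Matrix.det_mul, Units.inv_mul, Matrix.det_one])
    exact cg_not_sim (Sesq.of_quad hQ) h1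
  intro M hM hle
  have hb : ∀ a, bg σ a (-(a * a) / 2) ∈ M := fun a => hle ⟨bg_mem hσσ (hadm a), bg_S _ _ _⟩
  have hw : (wg : GL (Fin 3) F) ∈ M := hle ⟨wg_mem, wg_S⟩
  have hA : agrp σ hσσ ≤ M := by
    rintro _ ⟨a, b, h, rfl⟩
    exact hle ⟨bg_mem hσσ h, bg_S _ _ _⟩
  have hpM : p ∣ Nat.card M := by
    have hPg : IsPGroup p (agrp σ hσσ) := by
      rintro ⟨_, a, b, h, rfl⟩
      exact ⟨2, Subtype.ext (bg_pow σ p a b)⟩
    obtain ⟨k, hk⟩ := IsPGroup.iff_card.1 hPg
    have hne : k ≠ 0 := by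
      rintro rfl
      rw [pow_zero, Subgroup.card_eq_one] at hk
      have h1 : bg σ 1 (-(1 * 1) / 2) ∈ agrp σ hσσ := ⟨1, _, hadm 1, rfl⟩
      rw [hk, Subgroup.mem_bot, ← bg_one σ] at h1
      exact one_ne_zero (bg_inj h1).1
    exact ((dvd_pow_self p hne).trans hk.symm.dvd).trans (Subgroup.card_dvd_of_le hA)
  -- all squares in a subfield or fixed by an automorphism
  rcases S5775.result M hM with ⟨W, h0, h1, rfl⟩ | ⟨h5, D, hD, rfl⟩ | ⟨-, K, hK, rfl⟩ | ⟨F₁, s, P', hs, hcard', rfl⟩ |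
    ⟨p', R', hp', hF', hp3', hR', rfl⟩ | ⟨-, Q', hQ', rfl⟩ | ⟨τ, f, hf, rfl⟩ | hres
  · exact absurd (irr_excl (anti_irr (hb 1) hw) h0 h1 inf_le_left) id
  · exact absurd (agrp_not_decomp σ hσσ p (fun a => ⟨_, hadm a⟩) (by rw [Nat.card_eq_fintype_card]; omega) hD
      (hA.trans inf_le_left)) id
  · exact absurd (wg_ne (no_involution hK hw.1 wg_S wg_sq)) id
  · exfalso
    apply H905.subfield_ne_top_of_card hs hcard'
    rw [eq_top_iff]
    have h2' : (2 : F) ∈ F₁ := by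
      rw [← one_add_one_eq_two]
      exact F₁.add_mem F₁.one_mem F₁.one_mem
    have h12 : (2 : F)⁻¹ ∈ F₁ := F₁.inv_mem h2'
    have hsq : ∀ a : F, a * a ∈ F₁ := by
      intro a
      have h3 := subfield_trace_mem (mul_mem (hb a).1 hw.1) ((S3 F).mul_mem (bg_S σ _ _) wg_S) (by
        rw [tr_bw_inv (hadm a), tr_bw, hsx])
      rw [tr_bw] at h3
      have h4 := F₁.mul_mem h2' (F₁.neg_mem (F₁.add_mem h3 F₁.one_mem))
      have e : 2 * -(-(a * a) / 2 - 1 + 1) = a * a := by field_simp; ring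
      rwa [e] at h4
    intro a _
    have h3 := F₁.sub_mem (F₁.sub_mem (hsq (a + 1)) (hsq a)) F₁.one_mem
    have h4 := F₁.mul_mem h12 h3
    have e : 2⁻¹ * ((a + 1) * (a + 1) - a * a - 1) = a := by field_simp; ring
    rwa [e] at h4
  · exfalso
    have hpp : p' = p := by
      have h1 : p ∣ p' := by rw [← hF', hpn]; exact dvd_pow_self p hn.ne'
      exact ((Nat.prime_dvd_prime_iff_eq hp hp').1 h1).symm
    subst hpp
    have h3 : (3 : F) ≠ 0 := by exact_mod_cast hcast 3 Nat.prime_three (by rintro rfl; omega)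
    obtain ⟨ω, hω⟩ : ∃ ω : F, ω * ω + ω + 1 = 0 := H960.exists_omega (by rw [hF']; omega)
    obtain ⟨hc, he, hn'⟩ := data_card hR'
    obtain ⟨Q, a, b, ω', HH⟩ := H960.exists_heis h3 hω hc he hn'
    -- an element of order `p`
    obtain ⟨g, hg⟩ := exists_prime_orderOf_dvd_card' p' hpM
    have hgp : (g : GL (Fin 3) F) ^ p' = 1 := by
      have : g ^ p' = 1 := by rw [← hg, pow_orderOf_eq_one]
      exact congrArg Subtype.val this
    have h1 := norm_prime h3 hc HH hp2 (by rintro rfl; omega) g.2.1 g.2.2 hgp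
    have h5 : g = 1 := Subtype.ext h1
    rw [h5, orderOf_one] at hg
    exact hp.one_lt.ne hg
  · obtain ⟨P', hP'⟩ := quad_std h2 hQ'
    exact eq_of_le_cj hle (P := P') (by rw [hP', hσ])
  · exfalso
    have hτ : ∀ a : F, τ (a * a) = a * a := by
      intro a
      have h1 := bw_other (Sesq.of_unitary hf) p (hadm a) (hb a).1 hw.1
      rw [hsx] at h1
      have h3 : τ (-(a * a) / 2) = -(a * a) / 2 := h1
      rw [map_div₀, map_neg, map_ofNat] at h3
      have h4 : -(τ (a * a)) = -(a * a) := by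
        have := congrArg (fun t => t * 2) h3
        beta_reduce at this
        rwa [div_mul_cancel₀ _ h2, div_mul_cancel₀ _ h2] at this
      exact neg_injective h4
    apply hf.ne_refl
    ext a
    have h1 := hτ (a + 1)
    have h3 := hτ a
    have e : (a + 1) * (a + 1) = a * a + 2 * a + 1 := by ring
    rw [e, map_add, map_add, h3, map_mul, map_ofNat, map_one] at h1
    have h4 : 2 * τ a = 2 * a := by linear_combination h1
    rw [RingEquiv.refl_apply]
    exact mul_left_cancel₀ h2 h4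
  · exfalso
    obtain ⟨P', p', hcore, hp', hchar', h | ⟨⟨e⟩, h⟩⟩ := S5776.result M hM hres
    · have hpp : p' = p := CharP.eq F hchar' hchar
      subst hpp
      obtain ⟨⟨e⟩, hFp, -, h7⟩ := h
      have h1 := hpM.trans (card_of_l hcore hM.1.le e)
      have h3 : p' ∣ 2 ^ 4 * (3 ^ 2 * 7) := by norm_num; exact h1
      rcases (Nat.Prime.dvd_mul hp').1 h3 with h | h
      · exact hp2 ((Nat.prime_dvd_prime_iff_eq hp' Nat.prime_two).1 (hp'.dvd_of_dvd_pow h))
      · rcases (Nat.Prime.dvd_mul hp').1 h with h | h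
        · have := (Nat.prime_dvd_prime_iff_eq hp' Nat.prime_three).1 (hp'.dvd_of_dvd_pow h)
          rw [this] at h7; omega
        · have := (Nat.prime_dvd_prime_iff_eq hp' (by norm_num : Nat.Prime 7)).1 h
          rw [this] at h7; omega
    · have hpp : p' = p := CharP.eq F hchar' hchar
      subst hpp
      have h1 := hpM.trans (card_of_a hcore hM.1.le e)
      have h3 : p' ∣ 2 ^ 5 * (3 ^ 3 * 5) := by norm_num; exact h1
      rcases (Nat.Prime.dvd_mul hp').1 h3 with h' | h'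
      · exact hp2 ((Nat.prime_dvd_prime_iff_eq hp' Nat.prime_two).1 (hp'.dvd_of_dvd_pow h'))
      · rcases (Nat.Prime.dvd_mul hp').1 h' with h' | h'
        · have := (Nat.prime_dvd_prime_iff_eq hp' Nat.prime_three).1 (hp'.dvd_of_dvd_pow h')
          rw [this] at h; omega
        · have := (Nat.prime_dvd_prime_iff_eq hp' Nat.prime_five).1 h'
          rw [this] at h; omega

end Cfsg.Agent.H895.SLT
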