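import Cfsg.Agent.H895.SLT.Trace

/-!
# Similarities of sesquilinear forms in `SL_3` (helper895)
-/

set_option autoImplicit false

namespace Cfsg.Agent.H895.SLT

open Cfsg Cfsg.Geo
open scoped MatrixGroups Matrix

variable {F : Type*} [Field F]

/-- a non-degenerate sesquilinear form -/
structure Sesq (σ : F →+* F) (f : (Fin 3 → F) → (Fin 3 → F) → F) : Prop where
  add_left : ∀ x y v, f (x + y) v = f x v + f y v
  smul_left : ∀ (c : F) (x v : Fin 3 → F), f (c • x) v = c * f x v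
  add_right : ∀ v x y, f v (x + y) = f v x + f v y
  smul_right : ∀ (c : F) (v x : Fin 3 → F), f v (c • x) = σ c * f v x
  nondeg : ∀ v, (∀ x, f v x = 0) → v = 0

theorem Sesq.of_unitary {σ : F ≃+* F} {f : (Fin 3 → F) → (Fin 3 → F) → F} (hf : IsUnitaryForm σ f) :
    Sesq (σ : F →+* F) f where
  add_left := hf.add_left
  smul_left := hf.smul_left
  add_right v x y := by rw [hf.herm v (x + y), hf.add_left, map_add, ← hf.herm, ← hf.herm]
  smul_right c v x := by
    rw [hf.herm v (c • x), hf.smul_left, map_mul, ← hf.herm]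
    rfl
  nondeg v hv := by
    by_contra h
    obtain ⟨-, x, hx⟩ := hf.nondegenerate v h
    exact hx (hv x)

theorem Sesq.of_quad {Q : (Fin 3 → F) → F} (hQ : IsNondegenerateQuadraticForm Q) :
    Sesq (RingHom.id F) (QuadraticMap.polar Q) where
  add_left := hQ.polar_bilinear.add_left
  smul_left := hQ.polar_bilinear.smul_left
  add_right := hQ.polar_bilinear.add_right
  smul_right := hQ.polar_bilinear.smul_right
  nondeg v hv := by
    by_contra h
    obtain ⟨-, x, hx⟩ := hQ.nondegenerate v h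
    exact hx (hv x)

variable {σ : F →+* F} {f : (Fin 3 → F) → (Fin 3 → F) → F}

/-- the Gram matrix -/
def gramM (f : (Fin 3 → F) → (Fin 3 → F) → F) : Matrix (Fin 3) (Fin 3) F :=
  Matrix.of fun i j => f (Pi.single i 1) (Pi.single j 1)

theorem vec_eq (v : Fin 3 → F) : v = v 0 • Pi.single 0 1 + v 1 • Pi.single 1 1 + v 2 • Pi.single 2 (1 : F) := by
  funext i
  fin_cases i <;> simp

theorem Sesq.eq_sum (h : Sesq σ f) (u v : Fin 3 → F) :
    f u v = ∑ i, ∑ j, u i * gramM f i j * σ (v j) := by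
  conv_lhs => rw [vec_eq u, vec_eq v]
  simp only [h.add_left, h.add_right, h.smul_left, h.smul_right, Fin.sum_univ_three, gramM, Matrix.of_apply]
  ring

theorem Sesq.det_ne_zero (h : Sesq σ f) : (gramM f).det ≠ 0 := by
  intro h0
  obtain ⟨v, hv, hv'⟩ := Matrix.exists_vecMul_eq_zero_iff.2 h0
  apply hv
  apply h.nondeg
  intro x
  rw [h.eq_sum, Finset.sum_comm]
  have h1 : ∀ j, ∑ i, v i * gramM f i j = 0 := fun j => congrFun hv' j
  simp_rw [← Finset.sum_mul, h1, zero_mul, Finset.sum_const_zero]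

theorem Sesq.gram_eq (h : Sesq σ f) {g : Matrix (Fin 3) (Fin 3) F} {c : F}
    (hg : ∀ u v, f (g *ᵥ u) (g *ᵥ v) = c * f u v) : gᵀ * gramM f * g.map σ = c • gramM f := by
  ext i j
  have h1 := hg (Pi.single i 1) (Pi.single j 1)
  rw [h.eq_sum] at h1
  have e : ∀ (k l : Fin 3), (g *ᵥ Pi.single l 1) k = g k l := by
    intro k l
    simp
  simp only [e] at h1
  rw [Matrix.smul_apply, smul_eq_mul]
  have h2 : gramM f i j = f (Pi.single i 1) (Pi.single j 1) := rfl
  rw [h2, ← h1]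
  simp only [Matrix.mul_apply, Matrix.transpose_apply, Matrix.map_apply, Fin.sum_univ_three]
  ring

/-- the multiplier and the traces -/
theorem Sesq.sim (h : Sesq σ f) {g : GL (Fin 3) F} (hS : g ∈ S3 F) {c : F}
    (hg : ∀ u v, f ((g : Matrix (Fin 3) (Fin 3) F) *ᵥ u) ((g : Matrix (Fin 3) (Fin 3) F) *ᵥ v) = c * f u v) :
    c ^ 3 = 1 ∧ σ (tr g) = c * tr g⁻¹ := by
  have h1 := h.gram_eq hg
  have hJ := h.det_ne_zero
  have hdet := det_eq_one hS
  constructor
  · have h2 := congrArg Matrix.det h1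
    rw [Matrix.det_mul, Matrix.det_mul, Matrix.det_transpose, hdet, Matrix.det_smul, Fintype.card_fin, one_mul] at h2
    have h3 : ((g : Matrix (Fin 3) (Fin 3) F).map σ).det = 1 := by
      have : ((g : Matrix (Fin 3) (Fin 3) F).map σ).det = σ (g : Matrix (Fin 3) (Fin 3) F).det := by
        rw [RingHom.map_det]; rfl
      rw [this, hdet, map_one]
    rw [h3, mul_one] at h2
    have h4 : (gramM f).det * (c ^ 3 - 1) = 0 := by linear_combination -h2
    exact sub_eq_zero.1 ((mul_eq_zero.1 h4).resolve_left hJ)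
  · have hu : IsUnit (gramM f).det := isUnit_iff_ne_zero.2 hJ
    have h2 : (g : Matrix (Fin 3) (Fin 3) F).map σ =
        (gramM f)⁻¹ * ((((g⁻¹ : GL (Fin 3) F) : Matrix (Fin 3) (Fin 3) F)ᵀ) * (c • gramM f)) := by
      rw [← h1, ← mul_assoc, ← mul_assoc, ← mul_assoc, mul_assoc (gramM f)⁻¹, ← Matrix.transpose_mul,
        Units.mul_inv, Matrix.transpose_one, mul_one, Matrix.nonsing_inv_mul _ hu, one_mul]
    have h3 : σ (tr g) = ((g : Matrix (Fin 3) (Fin 3) F).map σ).trace := by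
      unfold tr
      simp [Matrix.trace_fin_three]
    rw [h3, h2, Matrix.trace_mul_comm, mul_assoc, Matrix.smul_mul, Matrix.mul_nonsing_inv _ hu, Matrix.mul_smul,
      mul_one, Matrix.trace_smul, Matrix.trace_transpose]
    rfl

/-- multiplier of a power -/
theorem pow_sim {g : GL (Fin 3) F} {c : F}
    (hg : ∀ u v, f ((g : Matrix (Fin 3) (Fin 3) F) *ᵥ u) ((g : Matrix (Fin 3) (Fin 3) F) *ᵥ v) = c * f u v) (m : ℕ)
    (u v : Fin 3 → F) :
    f (((g ^ m : GL (Fin 3) F) : Matrix (Fin 3) (Fin 3) F) *ᵥ u)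
      (((g ^ m : GL (Fin 3) F) : Matrix (Fin 3) (Fin 3) F) *ᵥ v) = c ^ m * f u v := by
  induction m generalizing u v with
  | zero => simp
  | succ m ih =>
    rw [pow_succ, Units.val_mul, ← Matrix.mulVec_mulVec, ← Matrix.mulVec_mulVec, ih, hg, pow_succ, mul_assoc]

theorem Sesq.exists_ne (h : Sesq σ f) : ∃ u v, f u v ≠ 0 := by
  by_contra hcon
  push Not at hcon
  have h1 := h.nondeg (Pi.single 0 1) (hcon _)
  have := congrFun h1 0
  simp at this

theorem Sesq.pow_eq_one (h : Sesq σ f) {g : GL (Fin 3) F} {c : F} {m : ℕ} (hm : g ^ m = 1)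
    (hg : ∀ u v, f ((g : Matrix (Fin 3) (Fin 3) F) *ᵥ u) ((g : Matrix (Fin 3) (Fin 3) F) *ᵥ v) = c * f u v) :
    c ^ m = 1 := by
  obtain ⟨u, v, huv⟩ := h.exists_ne
  have h1 := pow_sim hg m u v
  rw [hm, Units.val_one, Matrix.one_mulVec, Matrix.one_mulVec] at h1
  have h2 : (c ^ m - 1) * f u v = 0 := by linear_combination -h1
  exact sub_eq_zero.1 ((mul_eq_zero.1 h2).resolve_right huv)

/-- An element of `SL_3` of order prime to three (or equal to the characteristic) is an isometry. -/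
theorem Sesq.fix (h : Sesq σ f) {g : GL (Fin 3) F} (hS : g ∈ S3 F) (hg : g ∈ similarityGroup f) {m : ℕ}
    (hm : g ^ m = 1) (h3 : ¬ 3 ∣ m ∨ (3 : F) = 0) :
    ∀ u v, f ((g : Matrix (Fin 3) (Fin 3) F) *ᵥ u) ((g : Matrix (Fin 3) (Fin 3) F) *ᵥ v) = f u v := by
  obtain ⟨c, hc⟩ := hg
  have hc3 := (h.sim hS hc).1
  have hcm := h.pow_eq_one hm hc
  have hc1 : (c : F) = 1 := by
    rcases h3 with h3 | h3
    · have hcop : Nat.Coprime 3 m := (Nat.Prime.coprime_iff_not_dvd Nat.prime_three).2 h3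
      have h1 : orderOf (c : F) ∣ 3 := orderOf_dvd_of_pow_eq_one hc3
      have h2 : orderOf (c : F) ∣ m := orderOf_dvd_of_pow_eq_one hcm
      have h4 := Nat.dvd_gcd h1 h2
      rw [hcop] at h4
      exact orderOf_eq_one_iff.1 (Nat.dvd_one.1 h4)
    · have : ((c : F) - 1) ^ 3 = 0 := by
        linear_combination hc3 - ((c : F) ^ 2 - c) * h3
      exact sub_eq_zero.1 (pow_eq_zero_iff (by norm_num) |>.1 this)
  intro u v
  rw [hc, hc1, one_mul]

/-- isometries: the traces -/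
theorem Sesq.tr_of_fix (h : Sesq σ f) {g : GL (Fin 3) F} (hS : g ∈ S3 F)
    (hg : ∀ u v, f ((g : Matrix (Fin 3) (Fin 3) F) *ᵥ u) ((g : Matrix (Fin 3) (Fin 3) F) *ᵥ v) = f u v) :
    σ (tr g) = tr g⁻¹ := by
  have := (h.sim hS (c := 1) (fun u v => by rw [hg, one_mul])).2
  rwa [one_mul] at this

theorem fix_mul {a b : GL (Fin 3) F}
    (ha : ∀ u v, f ((a : Matrix (Fin 3) (Fin 3) F) *ᵥ u) ((a : Matrix (Fin 3) (Fin 3) F) *ᵥ v) = f u v)
    (hb : ∀ u v, f ((b : Matrix (Fin 3) (Fin 3) F) *ᵥ u) ((b : Matrix (Fin 3) (Fin 3) F) *ᵥ v) = f u v) :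
    ∀ u v, f (((a * b : GL (Fin 3) F) : Matrix (Fin 3) (Fin 3) F) *ᵥ u)
      (((a * b : GL (Fin 3) F) : Matrix (Fin 3) (Fin 3) F) *ᵥ v) = f u v := by
  intro u v
  rw [Units.val_mul, ← Matrix.mulVec_mulVec, ← Matrix.mulVec_mulVec, ha, hb]

end Cfsg.Agent.H895.SLT
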