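import Cfsg.Agent.H895.SLT.Trace

/-!
# Elements of subfield groups of `SL_3` (helper895)
-/

set_option autoImplicit false

namespace Cfsg.Agent.H895.SLT

open Cfsg Cfsg.Geo
open scoped MatrixGroups Matrix

variable {F : Type*} [Field F]

/-- an element of the subfield group is a scalar times a conjugate of a matrix over the subfield -/
theorem mem_subfield {F₀ : Subfield F} {P g : GL (Fin 3) F} (hg : g ∈ subfieldSubgroup F₀ P) :
    ∃ (a : GL (Fin 3) F₀) (c : Fˣ), (g : Matrix (Fin 3) (Fin 3) F) = (c : F) •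
      ((P * Matrix.GeneralLinearGroup.map (F₀.subtype : F₀ →+* F) a * P⁻¹ : GL (Fin 3) F) :
        Matrix (Fin 3) (Fin 3) F) := by
  obtain ⟨x, hx, rfl⟩ := hg
  obtain ⟨y, hy, z, hz, rfl⟩ := Subgroup.mem_sup_of_normal_right.1 hx
  obtain ⟨a, rfl⟩ := hy
  obtain ⟨c, hc⟩ := (mem_scalars_iff z).1 hz
  refine ⟨a, c, ?_⟩
  show ((P * (Matrix.GeneralLinearGroup.map (F₀.subtype : F₀ →+* F) a * z) * P⁻¹ : GL (Fin 3) F) :
    Matrix (Fin 3) (Fin 3) F) = _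
  rw [Units.val_mul, Units.val_mul, Units.val_mul, hc, Units.val_mul, Units.val_mul]
  simp

theorem tr_map (F₀ : Subfield F) (a : GL (Fin 3) F₀) :
    tr (Matrix.GeneralLinearGroup.map (F₀.subtype : F₀ →+* F) a) ∈ F₀ := by
  unfold tr
  rw [Matrix.trace_fin_three]
  exact F₀.add_mem (F₀.add_mem (a.val 0 0).2 (a.val 1 1).2) (a.val 2 2).2

theorem det_map_mem (F₀ : Subfield F) (a : GL (Fin 3) F₀) :
    ((Matrix.GeneralLinearGroup.map (F₀.subtype : F₀ →+* F) a : GL (Fin 3) F) :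
      Matrix (Fin 3) (Fin 3) F).det ∈ F₀ := by
  have : ((Matrix.GeneralLinearGroup.map (F₀.subtype : F₀ →+* F) a : GL (Fin 3) F) :
      Matrix (Fin 3) (Fin 3) F).det = F₀.subtype (a : Matrix (Fin 3) (Fin 3) F₀).det := by
    rw [RingHom.map_det]; rfl
  rw [this]
  exact ((a : Matrix (Fin 3) (Fin 3) F₀).det).2

/-- The traces of an element of a subfield group. -/
theorem subfield_traces {F₀ : Subfield F} {P g : GL (Fin 3) F} (hg : g ∈ subfieldSubgroup F₀ P)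
    (hS : g ∈ S3 F) : tr g * tr g⁻¹ ∈ F₀ ∧ tr g ^ 3 ∈ F₀ ∧ tr g⁻¹ ^ 3 ∈ F₀ := by
  obtain ⟨a, c, hc⟩ := mem_subfield hg
  set b : GL (Fin 3) F := Matrix.GeneralLinearGroup.map (F₀.subtype : F₀ →+* F) a with hb
  have hb' : b⁻¹ = Matrix.GeneralLinearGroup.map (F₀.subtype : F₀ →+* F) a⁻¹ := by rw [hb, map_inv]
  have h1 : tr g = c * tr b := by rw [tr_smul hc, tr_conj]
  have h2 : (((g⁻¹ : GL (Fin 3) F)) : Matrix (Fin 3) (Fin 3) F) = ((c⁻¹ : Fˣ) : F) •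
      ((P * b⁻¹ * P⁻¹ : GL (Fin 3) F) : Matrix (Fin 3) (Fin 3) F) := by
    have h4 : g * (g⁻¹) = 1 := mul_inv_cancel g
    have h5 : (g : Matrix (Fin 3) (Fin 3) F) * (((c⁻¹ : Fˣ) : F) •
      ((P * b⁻¹ * P⁻¹ : GL (Fin 3) F) : Matrix (Fin 3) (Fin 3) F)) = 1 := by
      rw [hc, Matrix.smul_mul, Matrix.mul_smul, smul_smul, ← Units.val_mul, ← Units.val_mul, mul_inv_cancel,
        Units.val_one, one_smul]
      have : P * b * P⁻¹ * (P * b⁻¹ * P⁻¹) = 1 := by group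
      rw [this, Units.val_one]
    calc (((g⁻¹ : GL (Fin 3) F)) : Matrix (Fin 3) (Fin 3) F)
        = (((g⁻¹ : GL (Fin 3) F)) : Matrix (Fin 3) (Fin 3) F) * ((g : Matrix (Fin 3) (Fin 3) F) * (((c⁻¹ : Fˣ) : F) •
      ((P * b⁻¹ * P⁻¹ : GL (Fin 3) F) : Matrix (Fin 3) (Fin 3) F))) := by rw [h5, mul_one]
      _ = _ := by rw [← mul_assoc, Units.inv_mul, one_mul]
  have h3 : tr g⁻¹ = ((c⁻¹ : Fˣ) : F) * tr b⁻¹ := by rw [tr_smul h2, tr_conj]
  have hdet : (c : F) ^ 3 * (b : Matrix (Fin 3) (Fin 3) F).det = 1 := by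
    have h4 := det_eq_one hS
    rw [hc, Matrix.det_smul, Fintype.card_fin, Units.val_mul, Units.val_mul, Matrix.det_mul, Matrix.det_mul] at h4
    have h5 : (P : Matrix (Fin 3) (Fin 3) F).det * ((P⁻¹ : GL (Fin 3) F) : Matrix (Fin 3) (Fin 3) F).det = 1 := by
      rw [← Matrix.det_mul, Units.mul_inv, Matrix.det_one]
    linear_combination h4 - (c : F) ^ 3 * (b : Matrix (Fin 3) (Fin 3) F).det * h5
  have hc3 : (c : F) ^ 3 ∈ F₀ := by
    have h6 : (c : F) ^ 3 = ((b : Matrix (Fin 3) (Fin 3) F).det)⁻¹ := eq_inv_of_mul_eq_one_left hdet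
    rw [h6]
    exact F₀.inv_mem (det_map_mem F₀ a)
  have hb1 : tr b ∈ F₀ := tr_map F₀ a
  have hb2 : tr b⁻¹ ∈ F₀ := by rw [hb']; exact tr_map F₀ a⁻¹
  have hcc : (c : F) * ((c⁻¹ : Fˣ) : F) = 1 := by rw [← Units.val_mul, mul_inv_cancel, Units.val_one]
  refine ⟨?_, ?_, ?_⟩
  · have : tr g * tr g⁻¹ = tr b * tr b⁻¹ := by
      rw [h1, h3]
      linear_combination (tr b * tr b⁻¹) * hcc
    rw [this]
    exact F₀.mul_mem hb1 hb2
  · rw [h1, mul_pow]
    exact F₀.mul_mem hc3 (F₀.pow_mem hb1 3)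
  · rw [h3, mul_pow]
    refine F₀.mul_mem ?_ (F₀.pow_mem hb2 3)
    have : ((c⁻¹ : Fˣ) : F) ^ 3 = ((c : F) ^ 3)⁻¹ := by
      rw [Units.val_inv_eq_inv_val, inv_pow]
    rw [this]
    exact F₀.inv_mem hc3

/-- if the traces of `g` and its inverse agree, they lie in the subfield -/
theorem subfield_trace_mem {F₀ : Subfield F} {P g : GL (Fin 3) F} (hg : g ∈ subfieldSubgroup F₀ P)
    (hS : g ∈ S3 F) (h : tr g⁻¹ = tr g) : tr g ∈ F₀ := by
  obtain ⟨h1, h2, -⟩ := subfield_traces hg hS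
  rw [h, ← pow_two] at h1
  by_cases h0 : tr g = 0
  · rw [h0]; exact F₀.zero_mem
  · have : tr g = tr g ^ 3 * (tr g ^ 2)⁻¹ := by field_simp
    rw [this]
    exact F₀.mul_mem h2 (F₀.inv_mem h1)

/-- matrices over the subfield of determinant one lie in the standard subfield group -/
theorem mem_std {F₀ : Subfield F} {g : GL (Fin 3) F} (h : ∀ i j, (g : Matrix (Fin 3) (Fin 3) F) i j ∈ F₀)
    (hd : g ∈ S3 F) : g ∈ subfieldSubgroup F₀ 1 := by
  let A : Matrix (Fin 3) (Fin 3) F₀ := Matrix.of fun i j => ⟨(g : Matrix (Fin 3) (Fin 3) F) i j, h i j⟩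
  have hA : A.map F₀.subtype = (g : Matrix (Fin 3) (Fin 3) F) := by
    ext i j; rfl
  have hdet : A.det = 1 := by
    apply F₀.subtype.injective
    rw [RingHom.map_det, map_one]
    show (A.map F₀.subtype).det = 1
    rw [hA]
    exact det_eq_one hd
  let a : GL (Fin 3) F₀ := Matrix.GeneralLinearGroup.mkOfDetNeZero A (by rw [hdet]; exact one_ne_zero)
  refine ⟨g, Subgroup.mem_sup_left ⟨a, ?_⟩, ?_⟩
  · apply Units.ext
    ext i j
    rfl
  · show 1 * g * 1⁻¹ = g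
    group

end Cfsg.Agent.H895.SLT
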