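import Cfsg.Agent.H895.SLT.Field
import Cfsg.Agent.H895.SLT.Form
import Cfsg.Agent.H895.SLT.Sub

/-!
# Conjugates of an element of a cubic field (helper895)
-/

set_option autoImplicit false

namespace Cfsg.Agent.H895.SLT

open Cfsg Cfsg.Geo Cfsg.Agent.H907 Polynomial
open scoped MatrixGroups Matrix

variable {F : Type*} [Field F] [Fintype F] {K : Subalgebra F (Matrix (Fin 3) (Fin 3) F)}

omit [Fintype F] in
theorem aeval_val (x : K) (f : F[X]) : ((aeval x f : K) : Matrix (Fin 3) (Fin 3) F) =
    aeval (x : Matrix (Fin 3) (Fin 3) F) f := by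
  have := Polynomial.aeval_algHom_apply K.val x f
  exact this.symm

theorem pow_q_three (hK : IsFieldSubalgebra 3 K) (x : K) : x ^ Fintype.card F ^ 3 = x := by
  classical
  let _ := (isField_of hK).toField
  have : Finite K := inferInstance
  have : Fintype K := Fintype.ofFinite K
  have h := FiniteField.pow_card x
  rwa [← Nat.card_eq_fintype_card, card_K hK] at h

/-- the roots in `K` of the characteristic polynomial -/
theorem root_cases (hK : IsFieldSubalgebra 3 K) {x y : K}
    (h01 : x ^ Fintype.card F ≠ x) (hy : aeval y (x : Matrix (Fin 3) (Fin 3) F).charpoly = 0) :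
    y = x ∨ y = x ^ Fintype.card F ∨ y = x ^ Fintype.card F ^ 2 := by
  classical
  have h03 := pow_q_three hK x
  have h02 : x ^ Fintype.card F ^ 2 ≠ x := by
    intro h
    apply h01
    rw [pow_succ, pow_mul, h] at h03
    exact h03
  have h12 : x ^ Fintype.card F ^ 2 ≠ x ^ Fintype.card F := by
    intro h
    apply h02
    have h4 := congrArg (fun z => z ^ Fintype.card F) h
    simp only [← pow_mul] at h4
    rw [← pow_succ, h03, ← pow_two] at h4
    exact h4.symm
  let _ := (isField_of hK).toField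
  set f := (x : Matrix (Fin 3) (Fin 3) F).charpoly with hf
  have hx : aeval x f = 0 := by
    apply Subtype.ext
    rw [aeval_val, hf, Matrix.aeval_self_charpoly]
    rfl
  have hfrob : ∀ z : K, aeval z f = 0 → aeval (z ^ Fintype.card F) f = 0 := by
    intro z hz
    rw [← Polynomial.expand_aeval, FiniteField.expand_card, map_pow, hz, zero_pow Fintype.card_ne_zero]
  have hx1 := hfrob x hx
  have hx2 := hfrob _ hx1
  rw [← pow_mul, ← pow_two] at hx2
  by_contra hcon
  push Not at hcon
  obtain ⟨h1, h2, h3⟩ := hcon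
  have hmon : f.Monic := Matrix.charpoly_monic _
  have hdeg : f.natDegree = 3 := by rw [hf, Matrix.charpoly_natDegree_eq_dim, Fintype.card_fin]
  set g := f.map (algebraMap F K) with hg
  have hg0 : g ≠ 0 := (hmon.map _).ne_zero
  have hgd : g.natDegree = 3 := by rw [hg, hmon.natDegree_map, hdeg]
  have hmem : ∀ z : K, aeval z f = 0 → z ∈ g.roots.toFinset := by
    intro z hz
    rw [Multiset.mem_toFinset, Polynomial.mem_roots hg0, Polynomial.IsRoot.def, hg, Polynomial.eval_map]
    exact hz
  have hsub : ({x, x ^ Fintype.card F, x ^ Fintype.card F ^ 2, y} : Finset K) ⊆ g.roots.toFinset := by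
    intro z hz
    simp only [Finset.mem_insert, Finset.mem_singleton] at hz
    rcases hz with rfl | rfl | rfl | rfl
    · exact hmem _ hx
    · exact hmem _ hx1
    · exact hmem _ hx2
    · exact hmem _ hy
  have hcard : ({x, x ^ Fintype.card F, x ^ Fintype.card F ^ 2, y} : Finset K).card = 4 := by
    rw [Finset.card_insert_of_notMem, Finset.card_insert_of_notMem, Finset.card_insert_of_notMem,
      Finset.card_singleton]
    · simp only [Finset.mem_singleton]; exact fun h => h3 h.symm
    · simp only [Finset.mem_insert, Finset.mem_singleton, not_or]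
      exact ⟨fun h => h12 h.symm, fun h => h2 h.symm⟩
    · simp only [Finset.mem_insert, Finset.mem_singleton, not_or]
      exact ⟨fun h => h01 h.symm, fun h => h02 h.symm, fun h => h1 h.symm⟩
  have h4 := Finset.card_le_card hsub
  have h5 := Multiset.toFinset_card_le g.roots
  have h6 := Polynomial.card_roots' g
  omega

omit [Fintype F] in
theorem three_mul_of_pow {c : GL (Fin 3) F} {m : ℕ} (hc : c ∈ S3 F) {a : F}
    (h : (c : Matrix (Fin 3) (Fin 3) F) ^ m = a • (1 : Matrix (Fin 3) (Fin 3) F)) : orderOf c ∣ 3 * m := by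
  have h1 : a ^ 3 = 1 := by
    have h2 := congrArg Matrix.det h
    rw [Matrix.det_pow, det_eq_one hc, one_pow, Matrix.det_smul, Matrix.det_one, Fintype.card_fin, mul_one] at h2
    exact h2.symm
  apply orderOf_dvd_of_pow_eq_one
  apply Units.ext
  rw [Units.val_pow_eq_pow_val, mul_comm, pow_mul, h, _root_.smul_pow, one_pow, h1, one_smul, Units.val_one]

/-- the group of norm one elements of a cubic field and forms -/
theorem form_root (hK : IsFieldSubalgebra 3 K) (p k : ℕ) [Fact p.Prime] [CharP F p] {σ : F →+* F}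
    (hσ : ∀ x, σ x = x ^ p ^ k) {f : (Fin 3 → F) → (Fin 3 → F) → F} (h : Sesq σ f) {c : GL (Fin 3) F}
    (hcK : (c : Matrix (Fin 3) (Fin 3) F) ∈ K) (hc : c ∈ S3 F)
    (hord : orderOf c = Fintype.card F ^ 2 + Fintype.card F + 1) (hs : c ∈ similarityGroup f) :
    Fintype.card F ^ 2 + Fintype.card F + 1 ∣ 3 * (p ^ k + 1) ∨
    Fintype.card F ^ 2 + Fintype.card F + 1 ∣ 3 * (p ^ k + Fintype.card F) ∨
    Fintype.card F ^ 2 + Fintype.card F + 1 ∣ 3 * (p ^ k + Fintype.card F ^ 2) := by
  set q := Fintype.card F with hq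
  have hq1 : 1 < q := Fintype.one_lt_card
  obtain ⟨μ, hμ⟩ := hs
  have h1 := h.gram_eq hμ
  have hJ := h.det_ne_zero
  have hu : IsUnit (gramM f).det := isUnit_iff_ne_zero.2 hJ
  set C : Matrix (Fin 3) (Fin 3) F := (c : Matrix (Fin 3) (Fin 3) F) with hC
  set Ci : Matrix (Fin 3) (Fin 3) F := ((c⁻¹ : GL (Fin 3) F) : Matrix (Fin 3) (Fin 3) F) with hCi
  have hCC : C * Ci = 1 := Units.mul_inv c
  have hCC' : Ci * C = 1 := Units.inv_mul c
  have h2 : C.map σ = (gramM f)⁻¹ * (Ciᵀ * ((μ : F) • gramM f)) := by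
    rw [← h1, ← mul_assoc, ← mul_assoc, ← mul_assoc, mul_assoc (gramM f)⁻¹, ← Matrix.transpose_mul,
      hCC, Matrix.transpose_one, mul_one, Matrix.nonsing_inv_mul _ hu, one_mul]
  have h3 : (C.map σ).charpoly = ((μ : F) • Ci).charpoly := by
    rw [h2, Matrix.charpoly_mul_comm, mul_assoc, Matrix.smul_mul, Matrix.mul_nonsing_inv _ hu, Matrix.mul_smul,
      mul_one, ← Matrix.transpose_smul, Matrix.charpoly_transpose]
  have hCiK : Ci ∈ K := (KU hK).inv_mem (x := c) hcK
  let x : K := ⟨C, hcK⟩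
  let x' : K := ⟨(μ : F) • Ci, K.smul_mem hCiK _⟩
  have hy : aeval (x ^ p ^ k) (x' : Matrix (Fin 3) (Fin 3) F).charpoly = 0 := by
    show aeval (x ^ p ^ k) ((μ : F) • Ci).charpoly = 0
    rw [← h3]
    have e1 : (C.map σ).charpoly = C.charpoly.map (iterateFrobenius F p k) := by
      have : σ = iterateFrobenius F p k := by
        ext a; rw [hσ, iterateFrobenius_def]
      rw [this]
      exact Matrix.charpoly_map C (iterateFrobenius F p k)
    rw [← Polynomial.expand_aeval, e1, ← Polynomial.map_expand, Polynomial.map_iterateFrobenius_expand, map_pow]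
    have : aeval x C.charpoly = 0 := by
      apply Subtype.ext
      rw [aeval_val]
      exact Matrix.aeval_self_charpoly C
    rw [this, zero_pow (pow_ne_zero _ (Nat.Prime.ne_zero Fact.out))]
  have hμq : ∀ i : ℕ, (μ : F) ^ q ^ i = μ := by
    intro i
    induction i with
    | zero => simp
    | succ i ih => rw [pow_succ, pow_mul, ih, FiniteField.pow_card]
  have hpow : ∀ i : ℕ, ((x' ^ q ^ i : K) : Matrix (Fin 3) (Fin 3) F) = (μ : F) • Ci ^ q ^ i := by
    intro i
    show ((μ : F) • Ci) ^ q ^ i = _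
    rw [_root_.smul_pow, hμq]
  have hne : ∀ i j : ℕ, i < j → q ^ j - q ^ i < q ^ 2 + q + 1 → x' ^ q ^ j ≠ x' ^ q ^ i := by
    intro i j hij hlt heq
    have h4 : ((x' ^ q ^ j : K) : Matrix (Fin 3) (Fin 3) F) = ((x' ^ q ^ i : K) : Matrix (Fin 3) (Fin 3) F) :=
      congrArg Subtype.val heq
    rw [hpow, hpow] at h4
    have h5 : Ci ^ q ^ j = Ci ^ q ^ i := by
      have := congrArg (fun M => ((μ⁻¹ : Fˣ) : F) • M) h4
      simpa [smul_smul] using this
    have h6 : (c⁻¹) ^ (q ^ j) = (c⁻¹) ^ (q ^ i) := Units.ext (by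
      rw [Units.val_pow_eq_pow_val, Units.val_pow_eq_pow_val]; exact h5)
    have hlt' : q ^ i < q ^ j := Nat.pow_lt_pow_right hq1 hij
    have h7 : (c⁻¹) ^ (q ^ j - q ^ i) = 1 := by
      rw [pow_sub _ hlt'.le, h6, mul_inv_cancel]
    have h8 := orderOf_dvd_of_pow_eq_one h7
    rw [orderOf_inv, hord] at h8
    have := Nat.le_of_dvd (by omega) h8
    omega
  have hqq : q < q ^ 2 := by nlinarith
  have h01 : x' ^ q ≠ x' := by
    have := hne 0 1 (by norm_num) (by rw [pow_one, pow_zero]; omega)
    simpa using this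
  have hfin : ∀ i : ℕ, x ^ p ^ k = x' ^ q ^ i → q ^ 2 + q + 1 ∣ 3 * (p ^ k + q ^ i) := by
    intro i hi
    have h4 : ((x ^ p ^ k : K) : Matrix (Fin 3) (Fin 3) F) = ((x' ^ q ^ i : K) : Matrix (Fin 3) (Fin 3) F) :=
      congrArg Subtype.val hi
    rw [hpow] at h4
    have h5 : C ^ p ^ k = (μ : F) • Ci ^ q ^ i := h4
    rw [← hord]
    apply three_mul_of_pow hc (a := (μ : F))
    rw [← hC, pow_add, h5, Matrix.smul_mul]
    have h6 : Ci ^ q ^ i * C ^ q ^ i = 1 := by
      rw [← (show Commute Ci C from by rw [commute_iff_eq, hCC, hCC']).mul_pow, hCC', one_pow]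
    rw [h6]
  rcases root_cases hK h01 hy with h4 | h4 | h4
  · left
    have := hfin 0 (by rw [pow_zero, pow_one]; exact h4)
    simpa using this
  · right; left
    have := hfin 1 (by rw [pow_one]; exact h4)
    simpa using this
  · right; right
    exact hfin 2 h4

/-- the group of norm one elements of a cubic field and subfield groups -/
theorem sub_root (hK : IsFieldSubalgebra 3 K) {F₁ : Subfield F} {P c : GL (Fin 3) F}
    (hlt : Nat.card F₁ < Fintype.card F)
    (hcK : (c : Matrix (Fin 3) (Fin 3) F) ∈ K) (hc : c ∈ S3 F)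
    (hord : orderOf c = Fintype.card F ^ 2 + Fintype.card F + 1) (hs : c ∈ subfieldSubgroup F₁ P) :
    Fintype.card F ^ 2 + Fintype.card F + 1 ∣ 3 * (Nat.card F₁ - 1) ∨
    Fintype.card F ^ 2 + Fintype.card F + 1 ∣ 3 * (Fintype.card F - Nat.card F₁) ∨
    Fintype.card F ^ 2 + Fintype.card F + 1 ∣ 3 * (Fintype.card F ^ 2 - Nat.card F₁) := by
  classical
  set q := Fintype.card F with hq
  set q₁ := Nat.card F₁ with hq₁
  have hq1 : 1 < q := Fintype.one_lt_card
  have hq11 : 1 < q₁ := Finite.one_lt_card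
  obtain ⟨a, l, hl⟩ := mem_subfield hs
  set b : GL (Fin 3) F := Matrix.GeneralLinearGroup.map (F₁.subtype : F₁ →+* F) a with hb
  set C : Matrix (Fin 3) (Fin 3) F := (c : Matrix (Fin 3) (Fin 3) F) with hC
  set B : Matrix (Fin 3) (Fin 3) F := ((P * b * P⁻¹ : GL (Fin 3) F) : Matrix (Fin 3) (Fin 3) F) with hB
  have hBC : B = (l : F)⁻¹ • C := by
    rw [hl, smul_smul, inv_mul_cancel₀ l.ne_zero, one_smul]
  let x : K := ⟨B, by rw [hBC]; exact K.smul_mem hcK _⟩
  have hch : B.charpoly = (a : Matrix (Fin 3) (Fin 3) F₁).charpoly.map F₁.subtype := by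
    rw [← Matrix.charpoly_map, hB, Units.val_mul, Matrix.charpoly_mul_comm, Units.val_mul, ← mul_assoc,
      Units.inv_mul, one_mul]
    rfl
  have hy : aeval (x ^ q₁) (x : Matrix (Fin 3) (Fin 3) F).charpoly = 0 := by
    show aeval (x ^ q₁) B.charpoly = 0
    have hx0 : aeval x B.charpoly = 0 := by
      apply Subtype.ext
      rw [aeval_val]
      exact Matrix.aeval_self_charpoly B
    have h1 : expand F q₁ B.charpoly = B.charpoly ^ q₁ := by
      have h2 := FiniteField.expand_card (K := F₁) (a : Matrix (Fin 3) (Fin 3) F₁).charpoly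
      rw [hch, ← Polynomial.map_expand, hq₁, Nat.card_eq_fintype_card, h2, Polynomial.map_pow]
    rw [← Polynomial.expand_aeval, h1, map_pow, hx0, zero_pow (by omega)]
  have hpow : ∀ i : ℕ, B ^ i = ((l : F)⁻¹) ^ i • C ^ i := by
    intro i
    rw [hBC, _root_.smul_pow]
  have key : ∀ i j : ℕ, i < j → B ^ j = B ^ i → q ^ 2 + q + 1 ∣ 3 * (j - i) := by
    intro i j hij h4
    rw [← hord]
    apply three_mul_of_pow hc (a := (l : F) ^ (j - i))
    rw [hpow, hpow] at h4
    have h5 : C ^ j = (l : F) ^ (j - i) • C ^ i := by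
      have h6 := congrArg (fun M => (l : F) ^ j • M) h4
      simp only [smul_smul] at h6
      rw [← mul_pow, mul_inv_cancel₀ l.ne_zero, one_pow, one_smul] at h6
      rw [h6]
      congr 1
      have : j = (j - i) + i := by omega
      rw [this, pow_add, mul_assoc, ← mul_pow, mul_inv_cancel₀ l.ne_zero, one_pow, mul_one]
      congr 1
      omega
    have h6 : C ^ j = C ^ (j - i) * C ^ i := by
      rw [← pow_add]; congr 1; omega
    rw [h6] at h5
    have h7 : IsUnit (C ^ i) := ⟨c ^ i, by rw [Units.val_pow_eq_pow_val]⟩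
    have h8 : C ^ (j - i) * C ^ i = ((l : F) ^ (j - i) • (1 : Matrix (Fin 3) (Fin 3) F)) * C ^ i := by
      rw [h5, Matrix.smul_mul, one_mul]
    exact h7.mul_right_cancel h8
  have h01 : x ^ q ≠ x := by
    intro heq
    have h4 : B ^ q = B ^ 1 := by
      rw [pow_one]; exact congrArg Subtype.val heq
    have h5 := key _ _ hq1 h4
    have h6 := Nat.le_of_dvd (by omega) h5
    have h7 : 3 * (q - 1) < q ^ 2 + q + 1 := by
      have : q ^ 2 + 1 ≥ 2 * q := by nlinarith
      omega
    omega
  have hqq : q < q ^ 2 := by nlinarith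
  rcases root_cases hK h01 hy with h4 | h4 | h4
  · left
    have h5 : B ^ q₁ = B ^ 1 := by
      rw [pow_one]; exact congrArg Subtype.val h4
    exact key _ _ hq11 h5
  · right; left
    have h5 : B ^ q₁ = B ^ q := congrArg Subtype.val h4
    exact key _ _ hlt h5.symm
  · right; right
    have h5 : B ^ q₁ = B ^ q ^ 2 := congrArg Subtype.val h4
    exact key _ _ (by omega) h5.symm

end Cfsg.Agent.H895.SLT
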