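import Cfsg.Agent.H895.SLT.RowFive
import Cfsg.Agent.H895.SLT.Root
import Cfsg.Agent.H895.SLT.NormPrime

/-!
# Maximality of the normaliser of a field in `SL_3(q)` (helper895)
-/

set_option autoImplicit false

namespace Cfsg.Agent.H895.SLT

open Cfsg Cfsg.Geo
open scoped MatrixGroups Matrix
open Cfsg.Agent.H908 (cj mem_cj)

variable {F : Type*} [Field F] {K : Subalgebra F (Matrix (Fin 3) (Fin 3) F)}

/-- a scalar power of the generator -/
theorem not_scalar_pow [Fintype F] {c : GL (Fin 3) F} (hc : c ∈ S3 F)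
    (hord : orderOf c = Fintype.card F ^ 2 + Fintype.card F + 1) {m : ℕ} (hm : 0 < m)
    (hlt : 3 * m < Fintype.card F ^ 2 + Fintype.card F + 1) :
    ¬ ∃ a : F, (c : Matrix (Fin 3) (Fin 3) F) ^ m = a • (1 : Matrix (Fin 3) (Fin 3) F) := by
  rintro ⟨a, h⟩
  have h1 := three_mul_of_pow hc h
  rw [hord] at h1
  have := Nat.le_of_dvd (by omega) h1
  omega

theorem field_irr [Fintype F] (hK : IsFieldSubalgebra 3 K) {c : GL (Fin 3) F} (hcK : (c : Matrix (Fin 3) (Fin 3) F) ∈ K)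
    (hns : ¬ ∃ a : F, (c : Matrix (Fin 3) (Fin 3) F) = a • (1 : Matrix (Fin 3) (Fin 3) F))
    {H : Subgroup (GL (Fin 3) F)} (hc : c ∈ H) : ActsIrreducibly (matrixSet H) := by
  intro W hW
  by_cases h0 : W = ⊥
  · exact Or.inl h0
  right
  obtain ⟨v, hv, hv0⟩ := Submodule.exists_mem_ne_zero_of_ne_bot h0
  have hcW : ∀ w ∈ W, (c : Matrix (Fin 3) (Fin 3) F) *ᵥ w ∈ W := fun w hw => by
    have := hW _ ⟨c, hc, rfl⟩ ⟨w, hw, rfl⟩
    rwa [Matrix.toLin'_apply] at this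
  have hKW : ∀ k ∈ K, ∀ w ∈ W, k *ᵥ w ∈ W := by
    intro k hk
    rw [← adjoin_eq hK hcK hns] at hk
    induction hk using Algebra.adjoin_induction with
    | mem x hx => rw [Set.mem_singleton_iff] at hx; rw [hx]; exact hcW
    | algebraMap r =>
      intro w hw
      rw [Algebra.algebraMap_eq_smul_one, Matrix.smul_mulVec, Matrix.one_mulVec]
      exact W.smul_mem r hw
    | add x y _ _ hx hy => intro w hw; rw [Matrix.add_mulVec]; exact W.add_mem (hx w hw) (hy w hw)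
    | mul x y _ _ hx hy => intro w hw; rw [← Matrix.mulVec_mulVec]; exact hx _ (hy w hw)
  -- the map `k ↦ k v`
  let φ : K →ₗ[F] (Fin 3 → F) :=
    { toFun := fun k => (k : Matrix (Fin 3) (Fin 3) F) *ᵥ v
      map_add' := fun a b => by
        show ((a : Matrix (Fin 3) (Fin 3) F) + (b : Matrix (Fin 3) (Fin 3) F)) *ᵥ v = _
        rw [Matrix.add_mulVec]
      map_smul' := fun a b => by
        show (a • (b : Matrix (Fin 3) (Fin 3) F)) *ᵥ v = _
        rw [Matrix.smul_mulVec]; rfl }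
  have hφ : Function.Injective φ := by
    rw [injective_iff_map_eq_zero]
    intro k hk
    by_contra hk0
    obtain ⟨u, hu⟩ := isUnit_of_mem hK k k.2 (fun h => hk0 (Subtype.ext h))
    apply hv0
    have hk' : (k : Matrix (Fin 3) (Fin 3) F) *ᵥ v = 0 := hk
    calc v = ((u⁻¹ : (Matrix (Fin 3) (Fin 3) F)ˣ) : Matrix (Fin 3) (Fin 3) F) *ᵥ ((u : Matrix (Fin 3) (Fin 3) F) *ᵥ v) := by
          rw [Matrix.mulVec_mulVec, Units.inv_mul, Matrix.one_mulVec]
      _ = 0 := by rw [hu, hk', Matrix.mulVec_zero]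
  have hsurj : Function.Surjective φ := by
    have hfd : FiniteDimensional F K := Module.finite_of_finrank_pos (by rw [hK.finrank_eq]; norm_num)
    exact (LinearMap.injective_iff_surjective_of_finrank_eq_finrank (by
      rw [hK.finrank_eq, Module.finrank_fin_fun])).1 hφ
  rw [eq_top_iff]
  intro w _
  obtain ⟨k, hk⟩ := hsurj w
  rw [← hk]
  exact hKW k k.2 v hv

/-- the trivial similarity factor of powers -/
theorem exists_prime_factor {q : ℕ} (hq : 4 ≤ q) (h3 : q % 3 = 1) :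
    ∃ r : ℕ, r.Prime ∧ r ≠ 2 ∧ r ≠ 3 ∧ r ∣ q ^ 2 + q + 1 := by
  by_contra hcon
  push Not at hcon
  set m := q ^ 2 + q + 1 with hm
  have hodd : ¬ 2 ∣ m := by
    rw [hm]
    intro h
    rcases Nat.even_or_odd q with ⟨k, hk⟩ | ⟨k, hk⟩
    · have : q ^ 2 + q + 1 = 2 * (2 * k ^ 2 + k) + 1 := by rw [hk]; ring
      omega
    · have : q ^ 2 + q + 1 = 2 * (2 * k ^ 2 + 3 * k + 1) + 1 := by rw [hk]; ring
      omega
  have hpow := Nat.eq_prime_pow_of_unique_prime_dvd (n := m) (p := 3) (by omega) (by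
    intro d hd hdm
    by_contra hd3
    have hd2 : d ≠ 2 := by rintro rfl; exact hodd hdm
    exact hcon d hd hd2 hd3 hdm)
  have h9 : ¬ 9 ∣ m := by
    rw [hm]
    obtain ⟨k, hk⟩ : ∃ k, q = 3 * k + 1 := ⟨q / 3, by omega⟩
    have : q ^ 2 + q + 1 = 9 * (k ^ 2 + k) + 3 := by rw [hk]; ring
    omega
  set l := m.primeFactorsList.length with hl
  rcases Nat.lt_or_ge l 2 with h2 | h2
  · have h4 : m ≤ 3 := by
      rw [hpow]
      calc 3 ^ l ≤ 3 ^ 1 := Nat.pow_le_pow_right (by norm_num) (by omega)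
        _ = 3 := by norm_num
    have : 16 ≤ q ^ 2 := by nlinarith
    omega
  · apply h9
    rw [hpow]
    exact (show (9 : ℕ) = 3 ^ 2 by norm_num) ▸ pow_dvd_pow 3 h2

theorem arith_sub {q q₁ : ℕ} (h1 : 2 ≤ q₁) (h2 : q₁ ^ 2 ≤ q) (h4 : q ≠ 4)
    (h : q ^ 2 + q + 1 ∣ 3 * (q₁ - 1) ∨ q ^ 2 + q + 1 ∣ 3 * (q - q₁) ∨ q ^ 2 + q + 1 ∣ 3 * (q ^ 2 - q₁)) :
    False := by
  have h5 : 4 ≤ q := by nlinarith
  have h6 : 5 ≤ q := by omega
  have h7 : 2 * q₁ ≤ q := by nlinarith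
  rcases h with h | h | h
  · have := Nat.le_of_dvd (by omega) h
    have h8 : 3 * (q₁ - 1) ≤ 3 * q := by omega
    nlinarith
  · have := Nat.le_of_dvd (by omega) h
    have h8 : 3 * (q - q₁) ≤ 3 * q := by omega
    nlinarith
  · have h8 : q ^ 2 + q + 1 ∣ 3 * (q + 1 + q₁) := by
      have h9 : 3 * (q ^ 2 - q₁) + 3 * (q + 1 + q₁) = 3 * (q ^ 2 + q + 1) := by
        have : q₁ ≤ q ^ 2 := by nlinarith
        omega
      have h10 : q ^ 2 + q + 1 ∣ 3 * (q ^ 2 - q₁) + 3 * (q + 1 + q₁) := by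
        rw [h9]; exact dvd_mul_left _ _
      exact (Nat.dvd_add_right h).1 h10
    have := Nat.le_of_dvd (by omega) h8
    nlinarith

theorem arith_quad {q : ℕ} (hq : 3 ≤ q)
    (h : q ^ 2 + q + 1 ∣ 3 * (1 + 1) ∨ q ^ 2 + q + 1 ∣ 3 * (1 + q) ∨ q ^ 2 + q + 1 ∣ 3 * (1 + q ^ 2)) : False := by
  rcases h with h | h | h
  · have := Nat.le_of_dvd (by omega) h
    nlinarith
  · have := Nat.le_of_dvd (by omega) h
    nlinarith
  · have h8 : q ^ 2 + q + 1 ∣ 3 * q := by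
      have h9 : 3 * (1 + q ^ 2) + 3 * q = 3 * (q ^ 2 + q + 1) := by ring
      have h10 : q ^ 2 + q + 1 ∣ 3 * (1 + q ^ 2) + 3 * q := by
        rw [h9]; exact dvd_mul_left _ _
      exact (Nat.dvd_add_right h).1 h10
    have := Nat.le_of_dvd (by omega) h8
    nlinarith

theorem arith_unit {q q₁ : ℕ} (h1 : 2 ≤ q₁) (h2 : q = q₁ ^ 2)
    (h : q ^ 2 + q + 1 ∣ 3 * (q₁ + 1) ∨ q ^ 2 + q + 1 ∣ 3 * (q₁ + q) ∨ q ^ 2 + q + 1 ∣ 3 * (q₁ + q ^ 2)) :
    False := by
  have h5 : 2 * q₁ ≤ q := by nlinarith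
  have h4 : 4 ≤ q := by omega
  rcases h with h | h | h
  · have := Nat.le_of_dvd (by omega) h
    nlinarith
  · have := Nat.le_of_dvd (by omega) h
    nlinarith
  · have h8 : q ^ 2 + q + 1 ∣ 3 * (q + 1 - q₁) := by
      have h9 : 3 * (q₁ + q ^ 2) + 3 * (q + 1 - q₁) = 3 * (q ^ 2 + q + 1) := by omega
      have h10 : q ^ 2 + q + 1 ∣ 3 * (q₁ + q ^ 2) + 3 * (q + 1 - q₁) := by
        rw [h9]; exact dvd_mul_left _ _
      exact (Nat.dvd_add_right h).1 h10
    have := Nat.le_of_dvd (by omega) h8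
    have h11 : 3 * (q + 1 - q₁) ≤ 3 * q := by omega
    nlinarith

theorem arith_l {q : ℕ} (hq : 2 ≤ q) (h : q ^ 2 + q + 1 ∣ 1008) : q = 2 ∨ q = 4 := by
  have h1 := Nat.le_of_dvd (by norm_num) h
  have h2 : q ≤ 31 := by nlinarith
  interval_cases q <;> revert h <;> decide

theorem arith_a {q : ℕ} (hq : 2 ≤ q) (h : q ^ 2 + q + 1 ∣ 4320) : False := by
  have h1 := Nat.le_of_dvd (by norm_num) h
  have h2 : q ≤ 65 := by nlinarith
  interval_cases q <;> revert h <;> decide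

/-- **Row 3.** -/
theorem row_three [Fintype F] (h4 : Fintype.card F ≠ 4) (hK : IsFieldSubalgebra 3 K) :
    IsMaximalIn (S3 F) (subalgebraNormalizer K ⊓ S3 F) := by
  classical
  have hfin : Finite (GL (Fin 3) F) := inferInstance
  obtain ⟨c, hcK, hcS, hord⟩ := exists_c hK
  obtain ⟨q, hq⟩ : ∃ q, q = Fintype.card F := ⟨_, rfl⟩
  have hq2 : 2 ≤ q := by rw [hq]; exact Fintype.one_lt_card
  obtain ⟨p, n, hchar, hp, hn, hpn⟩ : ∃ p n : ℕ, CharP F p ∧ p.Prime ∧ 0 < n ∧ Fintype.card F = p ^ n := by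
    obtain ⟨p, hc, n, hp, h⟩ := FiniteField.card' F
    exact ⟨p, n, hc, hp, n.pos, h⟩
  have hpf : Fact p.Prime := ⟨hp⟩
  have hcN : c ∈ subalgebraNormalizer K := by
    intro k
    have hci : ((c⁻¹ : GL (Fin 3) F) : Matrix (Fin 3) (Fin 3) F) ∈ K := by
      apply mem_of_comm_all hK
      intro x hx
      have h1 := hK.comm _ hcK x hx
      calc ((c⁻¹ : GL (Fin 3) F) : Matrix (Fin 3) (Fin 3) F) * x
          = ((c⁻¹ : GL (Fin 3) F) : Matrix (Fin 3) (Fin 3) F) * (x * (c : Matrix (Fin 3) (Fin 3) F)) *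
            ((c⁻¹ : GL (Fin 3) F) : Matrix (Fin 3) (Fin 3) F) := by
              rw [← mul_assoc, mul_assoc, Units.mul_inv, mul_one]
        _ = x * ((c⁻¹ : GL (Fin 3) F) : Matrix (Fin 3) (Fin 3) F) := by
              rw [← h1, ← mul_assoc, Units.inv_mul, one_mul]
    constructor
    · intro hk
      exact K.mul_mem (K.mul_mem hcK hk) hci
    · intro hk
      have h1 := K.mul_mem (K.mul_mem hci hk) hcK
      have e : ((c⁻¹ : GL (Fin 3) F) : Matrix (Fin 3) (Fin 3) F) * ((c : Matrix (Fin 3) (Fin 3) F) * k *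
          ((c⁻¹ : GL (Fin 3) F) : Matrix (Fin 3) (Fin 3) F)) * (c : Matrix (Fin 3) (Fin 3) F) = k := by
        rw [mul_assoc, mul_assoc, mul_assoc, Units.inv_mul, mul_one, ← mul_assoc, Units.inv_mul, one_mul]
      rwa [e] at h1
  apply maximal_of (H905.not_sl_le_subalgebraNormalizer (by simp) (by norm_num) hK)
  intro M hM hle
  have hcM : c ∈ M := hle ⟨hcN, hcS⟩
  have hm7 : 7 ≤ q ^ 2 + q + 1 := by nlinarith
  have hdvd : q ^ 2 + q + 1 ∣ Nat.card M := by
    rw [hq, ← hord, ← Subgroup.orderOf_mk c hcM]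
    exact orderOf_dvd_natCard _
  have hns1 : ¬ ∃ a : F, (c : Matrix (Fin 3) (Fin 3) F) = a • (1 : Matrix (Fin 3) (Fin 3) F) := by
    have := not_scalar_pow hcS hord (m := 1) (by norm_num) (by rw [← hq]; omega)
    simpa using this
  rcases S5775.result M hM with ⟨W, h0, h1, rfl⟩ | ⟨h5, D, hD, rfl⟩ | ⟨-, K', hK', rfl⟩ | ⟨F₀, r, P, hr, hcard, rfl⟩ |
    ⟨p', R', hp', hF', hp3', hR', rfl⟩ | ⟨hodd, Q', hQ', rfl⟩ | ⟨σ, f, hf, rfl⟩ | hres
  · exact absurd (irr_excl (field_irr hK hcK hns1 hcM) h0 h1 inf_le_left) id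
  · exfalso
    obtain ⟨v, hv, a, hva⟩ := decomp_six hD hcM.1
    -- `c ^ 6` is scalar
    have h6K : (c : Matrix (Fin 3) (Fin 3) F) ^ 6 - a • (1 : Matrix (Fin 3) (Fin 3) F) ∈ K :=
      K.sub_mem (K.pow_mem hcK 6) (K.smul_mem K.one_mem a)
    have h6 : (c : Matrix (Fin 3) (Fin 3) F) ^ 6 - a • (1 : Matrix (Fin 3) (Fin 3) F) = 0 := by
      by_contra hne
      obtain ⟨u, hu⟩ := isUnit_of_mem hK _ h6K hne
      apply hv
      have hz : (u : Matrix (Fin 3) (Fin 3) F) *ᵥ v = 0 := by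
        rw [hu, Matrix.sub_mulVec, Matrix.smul_mulVec, Matrix.one_mulVec, ← Units.val_pow_eq_pow_val, hva, sub_self]
      calc v = ((u⁻¹ : (Matrix (Fin 3) (Fin 3) F)ˣ) : Matrix (Fin 3) (Fin 3) F) *ᵥ
            ((u : Matrix (Fin 3) (Fin 3) F) *ᵥ v) := by
            rw [Matrix.mulVec_mulVec, Units.inv_mul, Matrix.one_mulVec]
        _ = 0 := by rw [hz, Matrix.mulVec_zero]
    refine not_scalar_pow hcS hord (m := 6) (by norm_num) ?_ ⟨a, sub_eq_zero.1 h6⟩
    nlinarith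
  · have h3K : ((c ^ 3 : GL (Fin 3) F) : Matrix (Fin 3) (Fin 3) F) ∈ K' := cube_mem hK' hcM.1
    have h3K' : ((c ^ 3 : GL (Fin 3) F) : Matrix (Fin 3) (Fin 3) F) ∈ K := by
      rw [Units.val_pow_eq_pow_val]; exact K.pow_mem hcK 3
    have hns : ¬ ∃ a : F, ((c ^ 3 : GL (Fin 3) F) : Matrix (Fin 3) (Fin 3) F) = a • (1 : Matrix (Fin 3) (Fin 3) F) := by
      rintro ⟨a, h⟩
      rw [Units.val_pow_eq_pow_val] at h
      have h1 := three_mul_of_pow hcS h
      rw [hord, ← hq] at h1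
      have h2 := Nat.le_of_dvd (by norm_num) h1
      have h3 : q = 2 := by
        have : q < 3 := by nlinarith
        omega
      rw [h3] at h1
      norm_num at h1
    have : K' = K := by rw [← adjoin_eq hK' h3K hns, adjoin_eq hK h3K' hns]
    rw [this]
  · exfalso
    have hc1 : 2 ≤ Nat.card F₀ := by
      have : Finite F₀ := inferInstance
      exact Finite.one_lt_card
    have hc2 : Nat.card F₀ ^ 2 ≤ q := pow_two_le hr (by rw [hq, hcard]) (by omega)
    apply arith_sub hc1 hc2 (by rw [hq]; exact h4)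
    rw [hq]
    exact sub_root hK (by nlinarith [hq]) hcK hcS hord hcM.1
  · exfalso
    have h3 : (3 : F) ≠ 0 := by
      intro h
      have h5 : ((3 : ℕ) : F) = 0 := by exact_mod_cast h
      rw [CharP.cast_eq_zero_iff F p] at h5
      have h6 : p = 3 := (Nat.prime_dvd_prime_iff_eq hp Nat.prime_three).1 h5
      have h7 : p ∣ p' := by rw [← hF', hpn]; exact dvd_pow_self p hn.ne'
      rw [h6] at h7
      omega
    obtain ⟨ω, hω⟩ : ∃ ω : F, ω * ω + ω + 1 = 0 := H960.exists_omega (by rw [hF']; omega)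
    obtain ⟨hc, he, hn'⟩ := data_card hR'
    obtain ⟨Q, a, b, ω', HH⟩ := H960.exists_heis h3 hω hc he hn'
    have hqp : q = p' := by rw [hq, hF']
    have hp'1 : 4 ≤ p' := by
      have := hp'.two_le
      omega
    obtain ⟨r, hr, hr2, hr3, hrd⟩ := exists_prime_factor (q := q) (by omega) (by omega)
    have : Fact r.Prime := ⟨hr⟩
    obtain ⟨k, hk⟩ := hrd
    have hk' : orderOf c = r * k := by rw [hord, ← hq, hk]
    have hk0 : k ≠ 0 := by
      rintro rfl
      rw [mul_zero] at hk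
      omega
    have hck : (c ^ k) ^ r = 1 := by
      rw [← pow_mul, mul_comm, ← hk', pow_orderOf_eq_one]
    have h1 := norm_prime h3 hc HH hr2 hr3 (y := c ^ k) (Subgroup.pow_mem _ hcM.1 k)
      ((S3 F).pow_mem hcS k) hck
    have h2 := orderOf_dvd_of_pow_eq_one h1
    rw [hk'] at h2
    have h5 := Nat.le_of_dvd (Nat.pos_of_ne_zero hk0) h2
    have h6 := hr.two_le
    nlinarith [Nat.pos_of_ne_zero hk0]
  · exfalso
    have hq3 : 3 ≤ q := by
      rcases Nat.lt_or_ge q 3 with h | h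
      · have : q = 2 := by omega
        rw [← hq, this] at hodd
        exact absurd hodd (by decide)
      · exact h
    apply arith_quad hq3
    have := form_root hK p 0 (σ := RingHom.id F) (fun x => by simp) (Sesq.of_quad hQ') hcK hcS hord
      (quad_le_sim hcM.1)
    rw [pow_zero, ← hq] at this
    exact this
  · exfalso
    obtain ⟨q₁, hq₁, hσ⟩ := unit_card hf
    have hk : ∃ k, q₁ = p ^ k := by
      have h1 : q₁ ∣ p ^ n := by
        rw [← hpn, hq₁]; exact dvd_pow_self q₁ two_ne_zero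
      obtain ⟨k, -, hk⟩ := (Nat.dvd_prime_pow hp).1 h1
      exact ⟨k, hk⟩
    obtain ⟨k, hk⟩ := hk
    have h2 : 2 ≤ q₁ := by
      rcases Nat.lt_or_ge q₁ 2 with h | h
      · have h1 : q₁ ^ 2 ≤ 1 := by nlinarith
        omega
      · exact h
    apply arith_unit h2 (hq.trans hq₁)
    have := form_root hK p k (σ := (σ : F →+* F)) (fun x => by
      rw [← hk]; exact hσ x) (Sesq.of_unitary hf) hcK hcS hord hcM.1
    rw [← hk, ← hq] at this
    exact this
  · exfalso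
    obtain ⟨P, p', hcore, hp', hchar', h | ⟨⟨e⟩, h⟩⟩ := S5776.result M hM hres
    · obtain ⟨⟨e⟩, hFp, hp2, -⟩ := h
      rcases arith_l hq2 (hdvd.trans (card_of_l hcore hM.1.le e)) with h | h
      · rw [← hq, h] at hFp; exact hp2 hFp.symm
      · rw [← hq, h] at hFp; rw [← hFp] at hp'; norm_num at hp'
    · exact arith_a hq2 (hdvd.trans (card_of_a hcore hM.1.le e))

end Cfsg.Agent.H895.SLT
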