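import Cfsg.Agent.H895.SLT.RowSeven
import Cfsg.Agent.H960.Frames

/-!
# Maximality of the monomial groups in `SL_3(q)` (helper895)
-/

set_option autoImplicit false
set_option linter.unusedSimpArgs false

namespace Cfsg.Agent.H895.SLT

open Cfsg Cfsg.Geo
open scoped MatrixGroups Matrix
open Cfsg.Agent.H908 (cj mem_cj)
open Cfsg.Agent.H960 (A0 C0 T0 P0 A0_eq A0_C0 omega_ne)

variable {F : Type*} [Field F]

/-- the coordinate lines -/
def DD (F : Type*) [Field F] (i : Fin 3) : Submodule F (Fin 3 → F) := F ∙ (Pi.single i 1 : Fin 3 → F)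

theorem dec_cj {D D' : Fin 3 → Submodule F (Fin 3 → F)} {P : GL (Fin 3) F}
    (h : ∀ i, D i = (D' i).map (Matrix.toLin' (P : Matrix (Fin 3) (Fin 3) F))) :
    decompositionStabilizer D = cj P (decompositionStabilizer D') := by
  have hinj : Function.Injective (Submodule.map (Matrix.toLin' (P : Matrix (Fin 3) (Fin 3) F))) := by
    apply Submodule.map_injective_of_injective
    intro u v huv
    rw [Matrix.toLin'_apply, Matrix.toLin'_apply] at huv
    have := congrArg (fun w => ((P⁻¹ : GL (Fin 3) F) : Matrix (Fin 3) (Fin 3) F) *ᵥ w) huv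
    beta_reduce at this
    rwa [Matrix.mulVec_mulVec, Matrix.mulVec_mulVec, Units.inv_mul, Matrix.one_mulVec, Matrix.one_mulVec] at this
  have key : ∀ (g : GL (Fin 3) F) i, (D i).map (Matrix.toLin' (g : Matrix (Fin 3) (Fin 3) F)) =
      ((D' i).map (Matrix.toLin' ((P⁻¹ * g * P : GL (Fin 3) F) : Matrix (Fin 3) (Fin 3) F))).map
        (Matrix.toLin' (P : Matrix (Fin 3) (Fin 3) F)) := by
    intro g i
    rw [h, ← Submodule.map_comp, ← Submodule.map_comp, ← Matrix.toLin'_mul, ← Matrix.toLin'_mul, ← Units.val_mul,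
      ← Units.val_mul]
    have : P * (P⁻¹ * g * P) = g * P := by group
    rw [this]
  ext g
  rw [mem_cj]
  constructor
  · rintro ⟨σ, hσ⟩
    refine ⟨σ, fun i => hinj ?_⟩
    rw [← key, hσ, h]
  · rintro ⟨σ, hσ⟩
    refine ⟨σ, fun i => ?_⟩
    rw [key, hσ, ← h]

theorem dec_std {D : Fin 3 → Submodule F (Fin 3 → F)} (hD : IsMDecomposition 1 D) :
    ∃ P : GL (Fin 3) F, decompositionStabilizer D = cj P (decompositionStabilizer (DD F)) := by
  obtain ⟨b, hb⟩ := H905.exists_basis_of_frame hD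
  obtain ⟨P, hP⟩ := H960.exists_GL_of_li b.linearIndependent
  refine ⟨P, dec_cj fun i => ?_⟩
  rw [hb, DD, Submodule.map_span, Set.image_singleton, Matrix.toLin'_apply, hP]

theorem DD_isM : IsMDecomposition 1 (DD F) := by
  refine ⟨by norm_num, by norm_num, ?_, ?_, ?_⟩
  · intro i
    exact finrank_span_singleton (by
      intro h
      have := congrFun h i
      simp at this)
  · have h := (Pi.basisFun F (Fin 3)).linearIndependent.iSupIndep_span_singleton
    have e : (fun i => Submodule.span F {(Pi.basisFun F (Fin 3)) i}) = DD F := by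
      funext i
      rw [Pi.basisFun_apply]
      rfl
    rwa [e] at h
  · rw [eq_top_iff]
    intro v _
    have e : v = v 0 • Pi.single 0 1 + v 1 • Pi.single 1 1 + v 2 • Pi.single 2 (1 : F) := by
      funext i
      fin_cases i <;> simp
    rw [e]
    have hm : ∀ i, (v i • Pi.single i 1 : Fin 3 → F) ∈ iSup (DD F) := fun i =>
      Submodule.smul_mem _ _ (Submodule.mem_iSup_of_mem i (Submodule.mem_span_singleton_self _))
    exact Submodule.add_mem _ (Submodule.add_mem _ (hm 0) (hm 1)) (hm 2)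

/-- monomial matrices stabilise the coordinate lines -/
theorem mem_dec {g : GL (Fin 3) F} (σ : Equiv.Perm (Fin 3)) (c : Fin 3 → F) (hc : ∀ i, c i ≠ 0)
    (h : ∀ i, (g : Matrix (Fin 3) (Fin 3) F) *ᵥ Pi.single i 1 = c i • Pi.single (σ i) 1) :
    g ∈ decompositionStabilizer (DD F) := by
  refine ⟨σ, fun i => ?_⟩
  rw [DD, Submodule.map_span, Set.image_singleton, Matrix.toLin'_apply, h]
  exact Submodule.span_singleton_smul_eq (IsUnit.mk0 _ (hc i)) _

/-- the torus -/
def tg (a b : Fˣ) : GL (Fin 3) F := gl (Matrix.diagonal ![(a : F), (b : F), (((a * b)⁻¹ : Fˣ) : F)]) (by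
  rw [Matrix.det_diagonal, Fin.prod_univ_three]
  simp
  field_simp)

theorem tg_val (a b : Fˣ) : (tg a b : Matrix (Fin 3) (Fin 3) F) =
    Matrix.diagonal ![(a : F), (b : F), (((a * b)⁻¹ : Fˣ) : F)] := rfl

theorem tg_S (a b : Fˣ) : tg a b ∈ S3 F := gl_mem _ _

theorem tg_mulVec (a b : Fˣ) (v : Fin 3 → F) : (tg a b : Matrix (Fin 3) (Fin 3) F) *ᵥ v =
    ![(a : F) * v 0, (b : F) * v 1, (((a * b)⁻¹ : Fˣ) : F) * v 2] := by
  rw [tg_val]
  ext k
  rw [Matrix.mulVec_diagonal]
  fin_cases k <;> rfl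

theorem tg_mem (a b : Fˣ) : tg a b ∈ decompositionStabilizer (DD F) := by
  apply mem_dec 1 ![(a : F), (b : F), (((a * b)⁻¹ : Fˣ) : F)]
  · intro i
    fin_cases i
    · exact a.ne_zero
    · exact b.ne_zero
    · exact ((a * b)⁻¹ : Fˣ).ne_zero
  · intro i
    rw [tg_mulVec, Equiv.Perm.one_apply]
    ext k
    fin_cases i <;> fin_cases k <;> simp

/-- the cyclic permutation -/
def yg : GL (Fin 3) F := gl C0 C0_det

theorem yg_val : ((yg : GL (Fin 3) F) : Matrix (Fin 3) (Fin 3) F) = C0 := rfl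
theorem yg_S : (yg : GL (Fin 3) F) ∈ S3 F := gl_mem _ _

theorem yg_mem : (yg : GL (Fin 3) F) ∈ decompositionStabilizer (DD F) := by
  apply mem_dec (finRotate 3) (fun _ => 1) (fun _ => one_ne_zero)
  intro i
  rw [yg_val, H960.C0_mulVec]
  ext k
  fin_cases i <;> fin_cases k <;> simp [Pi.single_apply]

theorem ng_mem_dec : (ng : GL (Fin 3) F) ∈ decompositionStabilizer (DD F) := by
  apply mem_dec (Equiv.swap 0 1) ![1, 1, -1]
  · intro i
    fin_cases i <;> simp
  · intro i
    ext k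
    unfold ng
    rw [gl_val]
    fin_cases i <;> fin_cases k <;> simp [nmat, Pi.single_apply, Equiv.swap_apply_def]

/-- irreducibility -/
theorem mono_irr {K : Subgroup (GL (Fin 3) F)} (ht : ∀ a b : Fˣ, tg a b ∈ K) (hy : yg ∈ K) {a : Fˣ} (ha : a ≠ 1) :
    ActsIrreducibly (matrixSet K) := by
  have hstep : ∀ W : Submodule F (Fin 3 → F), (∀ s ∈ matrixSet K, ∀ w ∈ W, s *ᵥ w ∈ W) → ∀ v ∈ W,
      (![v 2, v 0, v 1] : Fin 3 → F) ∈ W := by
    intro W hW v hv
    have h1 : ((yg : GL (Fin 3) F) : Matrix (Fin 3) (Fin 3) F) *ᵥ v ∈ W := hW _ ⟨_, hy, rfl⟩ v hv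
    rwa [yg_val, H960.C0_mulVec] at h1
  have htor : ∀ W : Submodule F (Fin 3 → F), (∀ s ∈ matrixSet K, ∀ w ∈ W, s *ᵥ w ∈ W) → ∀ a b : Fˣ, ∀ v ∈ W,
      (![(a : F) * v 0, (b : F) * v 1, (((a * b)⁻¹ : Fˣ) : F) * v 2] : Fin 3 → F) ∈ W := by
    intro W hW a b v hv
    have h1 : (tg a b : Matrix (Fin 3) (Fin 3) F) *ᵥ v ∈ W := hW _ ⟨_, ht a b, rfl⟩ v hv
    rwa [tg_mulVec] at h1
  have h2 : ∀ W : Submodule F (Fin 3 → F), (∀ s ∈ matrixSet K, ∀ w ∈ W, s *ᵥ w ∈ W) → ∀ v ∈ W, v 2 ≠ 0 →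
      (Pi.single 2 1 : Fin 3 → F) ∈ W := by
    intro W hW v hv hv2
    have k1 := W.sub_mem (htor W hW 1 a v hv) hv
    have k2 := W.sub_mem (htor W hW a 1 _ k1) k1
    have ha' : (a : F)⁻¹ - 1 ≠ 0 := by
      intro h
      apply ha
      apply Units.ext
      rw [Units.val_one, ← inv_inj, inv_one]
      exact sub_eq_zero.1 h
    have e : (![(a : F) * ((![((1 : Fˣ) : F) * v 0, (a : F) * v 1, (((1 * a)⁻¹ : Fˣ) : F) * v 2] : Fin 3 → F) - v) 0,
        ((1 : Fˣ) : F) * ((![((1 : Fˣ) : F) * v 0, (a : F) * v 1, (((1 * a)⁻¹ : Fˣ) : F) * v 2] : Fin 3 → F) - v) 1,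
        (((a * 1)⁻¹ : Fˣ) : F) * ((![((1 : Fˣ) : F) * v 0, (a : F) * v 1, (((1 * a)⁻¹ : Fˣ) : F) * v 2] :
          Fin 3 → F) - v) 2] : Fin 3 → F) - (![((1 : Fˣ) : F) * v 0, (a : F) * v 1, (((1 * a)⁻¹ : Fˣ) : F) * v 2] - v)
        = (((a : F)⁻¹ - 1) ^ 2 * v 2) • (Pi.single 2 1 : Fin 3 → F) := by
      ext k
      fin_cases k
      · simp [Matrix.vecHead, Matrix.vecTail]
      · simp [Matrix.vecHead, Matrix.vecTail]
      · simp [Matrix.vecHead, Matrix.vecTail]
        ring
    rw [e] at k2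
    have k3 := W.smul_mem (((a : F)⁻¹ - 1) ^ 2 * v 2)⁻¹ k2
    rwa [smul_smul, inv_mul_cancel₀ (mul_ne_zero (pow_ne_zero 2 ha') hv2), one_smul] at k3
  apply irr_of
  · intro W hW h0
    obtain ⟨v, hv, hv0⟩ := Submodule.exists_mem_ne_zero_of_ne_bot h0
    refine ⟨2, ?_⟩
    by_cases k2 : v 2 = 0
    · by_cases k1 : v 1 = 0
      · have k0 : v 0 ≠ 0 := by
          intro h
          apply hv0
          ext k
          fin_cases k
          · exact h
          · exact k1
          · exact k2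
        exact h2 W hW _ (hstep W hW _ (hstep W hW v hv)) (by simpa using k0)
      · exact h2 W hW _ (hstep W hW v hv) (by simpa using k1)
    · exact h2 W hW v hv k2
  · rintro W hW ⟨i, hi⟩
    have e1 : (![(Pi.single 0 1 : Fin 3 → F) 2, (Pi.single 0 1 : Fin 3 → F) 0, (Pi.single 0 1 : Fin 3 → F) 1]
        : Fin 3 → F) = Pi.single 1 1 := by
      ext k; fin_cases k <;> simp
    have e2 : (![(Pi.single 1 1 : Fin 3 → F) 2, (Pi.single 1 1 : Fin 3 → F) 0, (Pi.single 1 1 : Fin 3 → F) 1]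
        : Fin 3 → F) = Pi.single 2 1 := by
      ext k; fin_cases k <;> simp
    have e3 : (![(Pi.single 2 1 : Fin 3 → F) 2, (Pi.single 2 1 : Fin 3 → F) 0, (Pi.single 2 1 : Fin 3 → F) 1]
        : Fin 3 → F) = Pi.single 0 1 := by
      ext k; fin_cases k <;> simp
    have k1 : Pi.single 0 1 ∈ W → (Pi.single 1 1 : Fin 3 → F) ∈ W := fun h => by
      have := hstep W hW _ h; rwa [e1] at this
    have k2 : Pi.single 1 1 ∈ W → (Pi.single 2 1 : Fin 3 → F) ∈ W := fun h => by
      have := hstep W hW _ h; rwa [e2] at this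
    have k3 : Pi.single 2 1 ∈ W → (Pi.single 0 1 : Fin 3 → F) ∈ W := fun h => by
      have := hstep W hW _ h; rwa [e3] at this
    have h0 : (Pi.single 0 1 : Fin 3 → F) ∈ W := by
      fin_cases i
      · exact hi
      · exact k3 (k2 hi)
      · exact k3 hi
    intro j
    fin_cases j
    · exact h0
    · exact k1 h0
    · exact k2 (k1 h0)

theorem tr_tg (a b : Fˣ) : tr (tg a b) = a + b + (((a * b)⁻¹ : Fˣ) : F) := by
  unfold tr
  rw [tg_val, Matrix.trace_diagonal, Fin.sum_univ_three]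
  rfl

theorem tg_inv (a b : Fˣ) : (tg a b)⁻¹ = tg a⁻¹ b⁻¹ := by
  rw [inv_eq_iff_mul_eq_one]
  apply Units.ext
  rw [Units.val_mul, tg_val, tg_val, Matrix.diagonal_mul_diagonal, Units.val_one, ← Matrix.diagonal_one]
  congr 1
  ext k
  fin_cases k <;> simp
  field_simp

/-- a bound on the order from traces -/
theorem card_le_of_trace [Fintype F] {F₁ : Subfield F} (h : ∀ a : Fˣ, (a : F) + (a : F)⁻¹ ∈ F₁) :
    Fintype.card F - 1 ≤ 2 * Nat.card F₁ := by
  classical
  have hf1 : Fintype F₁ := Fintype.ofFinite F₁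
  have h1 := Finset.card_le_mul_card_image_of_maps_to (s := (Finset.univ : Finset Fˣ))
    (t := (F₁ : Set F).toFinset) (f := fun a : Fˣ => (a : F) + (a : F)⁻¹)
    (fun a _ => by rw [Set.mem_toFinset]; exact h a) 2 (by
      intro c _
      by_cases hemp : ({a ∈ (Finset.univ : Finset Fˣ) | (a : F) + (a : F)⁻¹ = c} : Finset Fˣ) = ∅
      · rw [hemp]; simp
      · obtain ⟨u, hu⟩ := Finset.nonempty_iff_ne_empty.2 hemp
        have hu' : (u : F) + (u : F)⁻¹ = c := (Finset.mem_filter.1 hu).2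
        have hsub : ({a ∈ (Finset.univ : Finset Fˣ) | (a : F) + (a : F)⁻¹ = c} : Finset Fˣ) ⊆ {u, u⁻¹} := by
          intro v hv
          have hv' : (v : F) + (v : F)⁻¹ = c := (Finset.mem_filter.1 hv).2
          rw [Finset.mem_insert, Finset.mem_singleton]
          have hu0 := u.ne_zero
          have hv0 := v.ne_zero
          have h2 : ((v : F) - u) * ((v : F) * u - 1) = 0 := by
            have h3 : (v : F) + (v : F)⁻¹ = u + (u : F)⁻¹ := by rw [hv', hu']
            field_simp at h3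
            linear_combination h3
          rcases mul_eq_zero.1 h2 with h3 | h3
          · exact Or.inl (Units.ext (sub_eq_zero.1 h3))
          · right
            rw [eq_inv_iff_mul_eq_one]
            exact Units.ext (sub_eq_zero.1 h3)
        exact (Finset.card_le_card hsub).trans Finset.card_le_two)
  have h2 : (F₁ : Set F).toFinset.card = Nat.card F₁ := by
    rw [Set.toFinset_card, Nat.card_eq_fintype_card]
    rfl
  rw [h2, Finset.card_univ, Fintype.card_units] at h1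
  exact h1

/-- no form -/
theorem mono_no_form [Fintype F] (h5 : 5 ≤ Fintype.card F) {σ : F →+* F} {f : (Fin 3 → F) → (Fin 3 → F) → F}
    (hf : Sesq σ f) (ht : ∀ a b : Fˣ, tg a b ∈ similarityGroup f) (hy : yg ∈ similarityGroup f) : False := by
  classical
  obtain ⟨g, hg⟩ := IsCyclic.exists_generator (α := Fˣ)
  have hgo : orderOf g = Fintype.card F - 1 := by
    rw [orderOf_eq_card_of_forall_mem_zpowers hg, Nat.card_eq_fintype_card, Fintype.card_units]
  have hg0 := g.ne_zero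
  have hfin : ¬ g ^ 3 = 1 := by
    intro h
    have := orderOf_dvd_of_pow_eq_one h
    rw [hgo] at this
    have := Nat.le_of_dvd (by norm_num) this
    omega
  have hg1 : (g : F) + 1 ≠ 0 := by
    intro h
    have h1 : (g : F) = -1 := eq_neg_of_add_eq_zero_left h
    have h2 : g ^ 2 = 1 := Units.ext (by
      rw [Units.val_pow_eq_pow_val, h1, Units.val_one]; ring)
    have := orderOf_dvd_of_pow_eq_one h2
    rw [hgo] at this
    have := Nat.le_of_dvd (by norm_num) this
    omega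
  -- the Gram matrix
  have hG : ∀ a b : Fˣ, ∃ c : Fˣ, ∀ i j : Fin 3,
      (![(a : F), (b : F), (((a * b)⁻¹ : Fˣ) : F)] : Fin 3 → F) i *
      σ ((![(a : F), (b : F), (((a * b)⁻¹ : Fˣ) : F)] : Fin 3 → F) j) * gramM f i j = c * gramM f i j := by
    intro a b
    obtain ⟨c, hc⟩ := ht a b
    refine ⟨c, fun i j => ?_⟩
    have h1 := hc (Pi.single i 1) (Pi.single j 1)
    have e : ∀ k : Fin 3, (tg a b : Matrix (Fin 3) (Fin 3) F) *ᵥ Pi.single k 1 =
        (![(a : F), (b : F), (((a * b)⁻¹ : Fˣ) : F)] : Fin 3 → F) k • (Pi.single k 1 : Fin 3 → F) := by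
      intro k
      rw [tg_mulVec]
      ext l
      fin_cases k <;> fin_cases l <;> simp
    rw [e, e, hf.smul_left, hf.smul_right] at h1
    show _ * f (Pi.single i 1) (Pi.single j 1) = c * f (Pi.single i 1) (Pi.single j 1)
    rw [← h1]; ring
  obtain ⟨c', hc'⟩ := hy
  have hrot : ∀ i j : Fin 3, gramM f (i + 1) (j + 1) = c' * gramM f i j := by
    intro i j
    have h1 := hc' (Pi.single i 1) (Pi.single j 1)
    have e : ∀ k : Fin 3, ((yg : GL (Fin 3) F) : Matrix (Fin 3) (Fin 3) F) *ᵥ Pi.single k 1 =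
        (Pi.single (k + 1) 1 : Fin 3 → F) := by
      intro k
      rw [yg_val, H960.C0_mulVec]
      ext l
      fin_cases k <;> fin_cases l <;> simp [Pi.single_apply]
    rw [e, e] at h1
    exact h1
  have hne : ∀ i j : Fin 3, gramM f i j ≠ 0 → gramM f (i + 1) (j + 1) ≠ 0 := fun i j h => by
    rw [hrot]; exact mul_ne_zero c'.ne_zero h
  obtain ⟨i, j, hij⟩ : ∃ i j, gramM f i j ≠ 0 := by
    by_contra hcon
    push Not at hcon
    apply hf.det_ne_zero
    have : gramM f = 0 := by ext i j; exact hcon i j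
    rw [this, Matrix.det_zero]
  -- reduce to the first row
  obtain ⟨k, hk⟩ : ∃ k, gramM f 0 k ≠ 0 := by
    fin_cases i
    · exact ⟨j, hij⟩
    · exact ⟨j + 1 + 1, hne _ _ (hne _ _ hij)⟩
    · exact ⟨j + 1, hne _ _ hij⟩
  have hσ1 : σ 1 = 1 := map_one σ
  have k1 := hne _ _ hk
  have k2 := hne _ _ k1
  have get : ∀ (a b : Fˣ) (c : Fˣ), (∀ i j : Fin 3,
      (![(a : F), (b : F), (((a * b)⁻¹ : Fˣ) : F)] : Fin 3 → F) i *
      σ ((![(a : F), (b : F), (((a * b)⁻¹ : Fˣ) : F)] : Fin 3 → F) j) * gramM f i j = c * gramM f i j) →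
      ∀ i j, gramM f i j ≠ 0 → (![(a : F), (b : F), (((a * b)⁻¹ : Fˣ) : F)] : Fin 3 → F) i *
      σ ((![(a : F), (b : F), (((a * b)⁻¹ : Fˣ) : F)] : Fin 3 → F) j) = c := fun a b c h i j hij =>
    mul_right_cancel₀ hij (h i j)
  fin_cases k
  · -- diagonal
    have hall : ∀ a : Fˣ, (a : F) * σ a = 1 := by
      intro a
      obtain ⟨c, hc⟩ := hG a 1
      have e0 := get a 1 c hc 0 0 hk
      have e1 := get a 1 c hc 1 1 k1
      simp only [Matrix.cons_val_zero, Matrix.cons_val_one, Matrix.cons_val, Units.val_one, hσ1, mul_one] at e0 e1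
      rw [e0, ← e1]
    have h1 := hall g
    have h2 := hall (Units.mk0 _ hg1)
    rw [Units.val_mk0, map_add, hσ1] at h2
    apply hfin
    apply Units.ext
    rw [Units.val_pow_eq_pow_val, Units.val_one]
    have h3 : (g : F) ^ 2 + g + 1 = 0 := by
      have h4 : (g : F) * (((g : F) + 1) * (σ g + 1)) = g * 1 := by rw [h2]
      linear_combination h4 - (g + 1) * h1
    linear_combination ((g : F) - 1) * h3
  · obtain ⟨c, hc⟩ := hG g 1
    have e0 := get g 1 c hc 0 1 hk
    have e1 := get g 1 c hc 1 2 k1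
    have e2 := get g 1 c hc 2 0 k2
    simp only [Matrix.cons_val_zero, Matrix.cons_val_one, Matrix.cons_val, Units.val_one, hσ1, mul_one, one_mul] at e0 e1 e2
    apply hfin
    have hs : σ ((g⁻¹ : Fˣ) : F) * σ g = 1 := by
      rw [← map_mul, Units.inv_mul, hσ1]
    have hi : ((g⁻¹ : Fˣ) : F) * g = 1 := Units.inv_mul g
    -- g = c, σ g⁻¹ = c, g⁻¹ σ g = c
    have h3 : (g : F) * σ g = 1 := by
      have h := hs
      rw [e1, ← e0] at h
      exact h
    have h4 : σ g = g * g := by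
      calc σ g = g * (((g⁻¹ : Fˣ) : F) * σ g) := by rw [← mul_assoc, Units.mul_inv, one_mul]
        _ = g * g := by rw [e2, e0]
    apply Units.ext
    rw [Units.val_pow_eq_pow_val, Units.val_one]
    rw [h4] at h3
    linear_combination h3
  · obtain ⟨c, hc⟩ := hG g 1
    have e0 := get g 1 c hc 0 2 hk
    have e1 := get g 1 c hc 1 0 k1
    have e2 := get g 1 c hc 2 1 k2
    simp only [Matrix.cons_val_zero, Matrix.cons_val_one, Matrix.cons_val, Units.val_one, hσ1, mul_one, one_mul] at e0 e1 e2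
    apply hfin
    have hs : σ ((g⁻¹ : Fˣ) : F) * σ g = 1 := by
      rw [← map_mul, Units.inv_mul, hσ1]
    -- g σ g⁻¹ = c, σ g = c, g⁻¹ = c
    have h3 : σ g = ((g⁻¹ : Fˣ) : F) := by rw [e1, e2]
    have h6 := hs
    rw [h3] at h6
    have h5 : σ ((g⁻¹ : Fˣ) : F) = g := by
      calc σ ((g⁻¹ : Fˣ) : F) = σ ((g⁻¹ : Fˣ) : F) * (((g⁻¹ : Fˣ) : F) * g) := by rw [Units.inv_mul, mul_one]
        _ = g := by rw [← mul_assoc, h6, one_mul]
    rw [h5, ← e2] at e0
    apply Units.ext
    rw [Units.val_pow_eq_pow_val, Units.val_one]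
    calc (g : F) ^ 3 = g * g * g := by ring
      _ = 1 := by rw [e0, Units.inv_mul]

/-- the torus has order `(q - 1)²` -/
theorem torus_dvd [Fintype F] {M : Subgroup (GL (Fin 3) F)} (ht : ∀ a b : Fˣ, tg a b ∈ M) :
    (Fintype.card F - 1) ^ 2 ∣ Nat.card M := by
  classical
  have hfin : Finite (GL (Fin 3) F) := inferInstance
  let φ : Fˣ × Fˣ →* M := MonoidHom.mk' (fun x => ⟨tg x.1 x.2, ht x.1 x.2⟩) (by
    intro x y
    apply Subtype.ext
    apply Units.ext
    show (tg (x.1 * y.1) (x.2 * y.2) : Matrix (Fin 3) (Fin 3) F) = (tg x.1 x.2 * tg y.1 y.2 : GL (Fin 3) F)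
    rw [Units.val_mul, tg_val, tg_val, tg_val, Matrix.diagonal_mul_diagonal]
    congr 1
    ext k
    fin_cases k <;> simp
    ring)
  have hinj : Function.Injective φ := by
    intro x y hxy
    have h1 := congrArg (fun g : M => ((g : GL (Fin 3) F) : Matrix (Fin 3) (Fin 3) F)) hxy
    have h2 : Matrix.diagonal ![(x.1 : F), (x.2 : F), (((x.1 * x.2)⁻¹ : Fˣ) : F)] =
      Matrix.diagonal ![(y.1 : F), (y.2 : F), (((y.1 * y.2)⁻¹ : Fˣ) : F)] := h1
    have h3 := Matrix.diagonal_injective h2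
    exact Prod.ext (Units.ext (congrFun h3 0)) (Units.ext (congrFun h3 1))
  have h1 := Subgroup.card_dvd_of_injective φ hinj
  rwa [Nat.card_prod, Nat.card_eq_fintype_card, Fintype.card_units, ← pow_two] at h1

theorem arith_tl {q : ℕ} (hq : 5 ≤ q) (h : (q - 1) ^ 2 ∣ 1008) : q = 5 ∨ q = 7 ∨ q = 13 := by
  have h1 := Nat.le_of_dvd (by norm_num) h
  have h2 : q ≤ 33 := by
    by_contra hc
    push Not at hc
    have : 33 ^ 2 ≤ (q - 1) ^ 2 := Nat.pow_le_pow_left (by omega) 2
    omega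
  interval_cases q <;> revert h <;> decide

theorem arith_ta {q : ℕ} (hq : 5 ≤ q) (h : (q - 1) ^ 2 ∣ 4320) : q = 5 ∨ q = 7 ∨ q = 13 := by
  have h1 := Nat.le_of_dvd (by norm_num) h
  have h2 : q ≤ 67 := by
    by_contra hc
    push Not at hc
    have : 67 ^ 2 ≤ (q - 1) ^ 2 := Nat.pow_le_pow_left (by omega) 2
    omega
  interval_cases q <;> revert h <;> decide

/-- **Row 2.** -/
theorem row_two [Fintype F] (h5 : 5 ≤ Fintype.card F) {D : Fin 3 → Submodule F (Fin 3 → F)}
    (hD : IsMDecomposition 1 D) : IsMaximalIn (S3 F) (decompositionStabilizer D ⊓ S3 F) := by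
  classical
  have hfin : Finite (GL (Fin 3) F) := inferInstance
  obtain ⟨P, hP⟩ := dec_std hD
  rw [hP]
  apply maximal_cj
  apply maximal_of (H905.not_sl_le_decompositionStabilizer DD_isM)
  intro M hM hle
  have ht : ∀ a b : Fˣ, tg a b ∈ M := fun a b => hle ⟨tg_mem a b, tg_S a b⟩
  have hy : (yg : GL (Fin 3) F) ∈ M := hle ⟨yg_mem, yg_S⟩
  have hn : (ng : GL (Fin 3) F) ∈ M := hle ⟨ng_mem_dec, ng_mem⟩
  obtain ⟨g, hg⟩ := IsCyclic.exists_generator (α := Fˣ)
  have hgo : orderOf g = Fintype.card F - 1 := by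
    rw [orderOf_eq_card_of_forall_mem_zpowers hg, Nat.card_eq_fintype_card, Fintype.card_units]
  have hg1 : g ≠ 1 := by
    rintro rfl
    rw [orderOf_one] at hgo
    omega
  rcases S5775.result M hM with ⟨W, h0, h1, rfl⟩ | ⟨-, D', hD', rfl⟩ | ⟨-, K, hK, rfl⟩ | ⟨F₁, s, P', hs, hcard', rfl⟩ |
    ⟨p', R', hp', hF', hp3', hR', rfl⟩ | ⟨-, Q', hQ', rfl⟩ | ⟨τ, f, hf, rfl⟩ | hres
  · exact absurd (irr_excl (mono_irr ht hy hg1) h0 h1 inf_le_left) id
  · obtain ⟨P', hP'⟩ := dec_std hD'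
    exact eq_of_le_cj hle (P := P') (by rw [hP'])
  · exact absurd (ng_ne (no_involution hK hn.1 ng_mem ng_sq)) id
  · exfalso
    have hf1 : Finite F₁ := inferInstance
    have hc1 : 1 < Nat.card F₁ := Finite.one_lt_card
    have hc2 : Nat.card F₁ ^ 2 ≤ Fintype.card F := pow_two_le hs hcard' (by omega)
    have htr : ∀ a : Fˣ, (a : F) + (a : F)⁻¹ ∈ F₁ := by
      intro a
      have e1 : tr (tg a 1) = a + 1 + (a : F)⁻¹ := by rw [tr_tg]; simp
      have e2 : tr (tg a 1)⁻¹ = a + 1 + (a : F)⁻¹ := by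
        rw [tg_inv, tr_tg]; simp; ring
      have h3 := subfield_trace_mem (ht a 1).1 (tg_S a 1) (by rw [e1, e2])
      rw [e1] at h3
      have h4 := F₁.sub_mem h3 F₁.one_mem
      have e3 : (a : F) + 1 + (a : F)⁻¹ - 1 = a + (a : F)⁻¹ := by ring
      rwa [e3] at h4
    have hcount := card_le_of_trace htr
    obtain ⟨c, hc⟩ : ∃ c, Nat.card F₁ = c := ⟨_, rfl⟩
    rw [hc] at hcount hc1 hc2 hcard'
    have hc3 : c = 2 := by
      have : c ^ 2 ≤ 2 * c + 1 := by omega
      nlinarith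
    subst hc3
    have hq5 : Fintype.card F = 5 := by omega
    rw [hq5] at hcard'
    have : 2 ∣ 5 := by
      rw [hcard']; exact dvd_pow_self 2 hs.ne_zero
    omega
  · exfalso
    have hchar : CharP F p' := by
      have : Fact p'.Prime := ⟨hp'⟩
      exact charP_of_card_eq_prime (by rw [hF'])
    have hcast : ∀ l : ℕ, l.Prime → l ≠ p' → (l : F) ≠ 0 := by
      intro l hl hlp h
      rw [CharP.cast_eq_zero_iff F p'] at h
      exact hlp ((Nat.prime_dvd_prime_iff_eq hp' hl).1 h).symm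
    have h3 : (3 : F) ≠ 0 := by exact_mod_cast hcast 3 Nat.prime_three (by rintro rfl; omega)
    have h2 : (2 : F) ≠ 0 := by exact_mod_cast hcast 2 Nat.prime_two (by rintro rfl; omega)
    obtain ⟨ω, hω⟩ : ∃ ω : F, ω * ω + ω + 1 = 0 := H960.exists_omega (by rw [hF']; omega)
    obtain ⟨hc, he, hn'⟩ := data_card hR'
    obtain ⟨Q, a, b, ω', HH⟩ := H960.exists_heis h3 hω hc he hn'
    have hm1 : (-1 : Fˣ) ≠ 1 := by
      intro h
      have h4 : (-1 : F) = 1 := by
        have := congrArg Units.val h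
        simpa using this
      exact h2 (by linear_combination -h4)
    have hinj : ∀ {a b c d : Fˣ}, tg a b = tg c d → a = c ∧ b = d := by
      intro a b c d h
      have h1 := congrArg (fun g : GL (Fin 3) F => (g : Matrix (Fin 3) (Fin 3) F)) h
      have h2' := Matrix.diagonal_injective (show Matrix.diagonal ![(a : F), (b : F), (((a * b)⁻¹ : Fˣ) : F)] =
        Matrix.diagonal ![(c : F), (d : F), (((c * d)⁻¹ : Fˣ) : F)] from h1)
      exact ⟨Units.ext (congrFun h2' 0), Units.ext (congrFun h2' 1)⟩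
    have hmul : ∀ a b c d : Fˣ, tg a b * tg c d = tg (a * c) (b * d) := by
      intro a b c d
      apply Units.ext
      rw [Units.val_mul, tg_val, tg_val, tg_val, Matrix.diagonal_mul_diagonal]
      congr 1
      ext k
      fin_cases k <;> simp
      ring
    have hone : tg (1 : Fˣ) 1 = 1 := by
      have := tg_inv (1 : Fˣ) 1
      rw [inv_one] at this
      have h6 := hmul 1 1 1 1
      rw [mul_one] at h6
      exact mul_eq_left.1 h6
    refine norm_four h3 hc he HH (e := tg 1 (-1)) (f := tg (-1) 1) (ht _ _).1 (tg_S _ _) ?_ ?_ (ht _ _).1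
      (tg_S _ _) ?_ ?_ ?_ ?_
    · rw [hmul, mul_one, neg_mul_neg, mul_one, hone]
    · intro h
      rw [← hone] at h
      exact hm1 (hinj h).2
    · rw [hmul, mul_one, neg_mul_neg, mul_one, hone]
    · intro h
      rw [← hone] at h
      exact hm1 (hinj h).1
    · rw [hmul, hmul, mul_comm 1 (-1 : Fˣ), mul_comm (-1 : Fˣ) 1]
    · intro h
      exact hm1 (hinj h).2
  · exact absurd (mono_no_form h5 (Sesq.of_quad hQ') (fun a b => quad_le_sim (ht a b).1) (quad_le_sim hy.1)) id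
  · exact absurd (mono_no_form h5 (Sesq.of_unitary hf) (fun a b => (ht a b).1) hy.1) id
  · exfalso
    have hd := torus_dvd ht
    obtain ⟨P', p', hcore, hp', hchar', h | ⟨⟨e⟩, h⟩⟩ := S5776.result M hM hres
    · obtain ⟨⟨e⟩, hFp, -, h7⟩ := h
      rcases arith_tl h5 (hd.trans (card_of_l hcore hM.1.le e)) with h | h | h <;> rw [← hFp, h] at h7 <;> omega
    · rcases arith_ta h5 (hd.trans (card_of_a hcore hM.1.le e)) with h' | h' | h'
      · rw [h'] at h
        rcases h with ⟨h, h6⟩ | ⟨h, -⟩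
        · omega
        · have : p' * p' = 5 := by rw [← pow_two, ← h]
          have : p' < 3 := by nlinarith
          interval_cases p' <;> omega
      · rw [h'] at h
        rcases h with ⟨h, h6⟩ | ⟨h, -⟩
        · omega
        · have : p' * p' = 7 := by rw [← pow_two, ← h]
          have : p' < 3 := by nlinarith
          interval_cases p' <;> omega
      · rw [h'] at h
        rcases h with ⟨h, h6⟩ | ⟨h, -⟩
        · omega
        · have : p' * p' = 13 := by rw [← pow_two, ← h]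
          have : p' < 4 := by nlinarith
          interval_cases p' <;> omega

end Cfsg.Agent.H895.SLT
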