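import Cfsg.Agent.H895.SLT.RowFour

/-!
# Similarities of an antidiagonal form in dimension three (helper895)
-/

set_option autoImplicit false
set_option linter.unusedSimpArgs false

namespace Cfsg.Agent.H895.SLT

open Cfsg Cfsg.Geo
open scoped MatrixGroups Matrix
open Cfsg.Agent.H908 (cj mem_cj)

variable {F : Type*} [Field F]

/-- the antidiagonal form -/
def aform (σ : F →+* F) (u v : Fin 3 → F) : F := u 0 * σ (v 2) + u 1 * σ (v 1) + u 2 * σ (v 0)

/-- similarity groups of proportional forms -/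
theorem sim_cj {f g : (Fin 3 → F) → (Fin 3 → F) → F} {P : GL (Fin 3) F} {l : F} (hl : l ≠ 0)
    (h : ∀ u v, f ((P : Matrix (Fin 3) (Fin 3) F) *ᵥ u) ((P : Matrix (Fin 3) (Fin 3) F) *ᵥ v) = l * g u v) :
    similarityGroup f = cj P (similarityGroup g) := by
  have hP : ∀ v : Fin 3 → F, (P : Matrix (Fin 3) (Fin 3) F) *ᵥ (((P⁻¹ : GL (Fin 3) F) : Matrix (Fin 3) (Fin 3) F) *ᵥ v) = v :=
    fun v => by rw [Matrix.mulVec_mulVec, Units.mul_inv, Matrix.one_mulVec]
  have e : ∀ (x : GL (Fin 3) F) (u : Fin 3 → F), (P : Matrix (Fin 3) (Fin 3) F) *ᵥ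
      (((P⁻¹ * x * P : GL (Fin 3) F) : Matrix (Fin 3) (Fin 3) F) *ᵥ u) =
      (x : Matrix (Fin 3) (Fin 3) F) *ᵥ ((P : Matrix (Fin 3) (Fin 3) F) *ᵥ u) := by
    intro x u
    rw [Units.val_mul, Units.val_mul, ← Matrix.mulVec_mulVec, ← Matrix.mulVec_mulVec, hP]
  ext x
  rw [mem_cj]
  constructor
  · rintro ⟨c, hc⟩
    refine ⟨c, fun u v => mul_left_cancel₀ hl ?_⟩
    rw [← h, e, e, hc, h]
    ring
  · rintro ⟨c, hc⟩
    refine ⟨c, fun u v => ?_⟩
    have h1 := hc (((P⁻¹ : GL (Fin 3) F) : Matrix (Fin 3) (Fin 3) F) *ᵥ u)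
      (((P⁻¹ : GL (Fin 3) F) : Matrix (Fin 3) (Fin 3) F) *ᵥ v)
    have h2 := congrArg (fun t => l * t) h1
    beta_reduce at h2
    rw [← h, e, e, hP, hP] at h2
    rw [h2, mul_left_comm, ← h, hP, hP]

/-- the unipotent matrix -/
def bmat (σ : F →+* F) (a b : F) : Matrix (Fin 3) (Fin 3) F := !![1, a, b; 0, 1, -σ a; 0, 0, 1]

/-- the involution -/
def wmat : Matrix (Fin 3) (Fin 3) F := !![0, 0, 1; 0, -1, 0; 1, 0, 0]

theorem bmat_det (σ : F →+* F) (a b : F) : (bmat σ a b).det = 1 := by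
  rw [Matrix.det_fin_three]
  simp [bmat]

theorem wmat_det : (wmat : Matrix (Fin 3) (Fin 3) F).det = 1 := by
  rw [Matrix.det_fin_three]
  simp [wmat]

def bg (σ : F →+* F) (a b : F) : GL (Fin 3) F := gl (bmat σ a b) (bmat_det σ a b)
def wg : GL (Fin 3) F := gl wmat wmat_det

theorem bg_val (σ : F →+* F) (a b : F) : (bg σ a b : Matrix (Fin 3) (Fin 3) F) = bmat σ a b := rfl
theorem wg_val : ((wg : GL (Fin 3) F) : Matrix (Fin 3) (Fin 3) F) = wmat := rfl

theorem bg_S (σ : F →+* F) (a b : F) : bg σ a b ∈ S3 F := gl_mem _ _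
theorem wg_S : (wg : GL (Fin 3) F) ∈ S3 F := gl_mem _ _

theorem bmat_mulVec (σ : F →+* F) (a b : F) (v : Fin 3 → F) :
    bmat σ a b *ᵥ v = ![v 0 + a * v 1 + b * v 2, v 1 - σ a * v 2, v 2] := by
  ext k
  fin_cases k <;> simp [bmat, Matrix.mulVec, dotProduct, Fin.sum_univ_three, Matrix.vecHead, Matrix.vecTail]
  ring

theorem wmat_mulVec (v : Fin 3 → F) : wmat *ᵥ v = ![v 2, -v 1, v 0] := by
  ext k
  fin_cases k <;> simp [wmat, Matrix.mulVec, dotProduct, Fin.sum_univ_three, Matrix.vecHead, Matrix.vecTail]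

theorem bg_iso {σ : F →+* F} (hσ : ∀ x, σ (σ x) = x) {a b : F} (h : b + σ b + a * σ a = 0) (u v : Fin 3 → F) :
    aform σ ((bg σ a b : Matrix (Fin 3) (Fin 3) F) *ᵥ u) ((bg σ a b : Matrix (Fin 3) (Fin 3) F) *ᵥ v) =
      aform σ u v := by
  rw [bg_val, bmat_mulVec, bmat_mulVec]
  unfold aform
  simp only [Matrix.cons_val_zero, Matrix.cons_val_one, Matrix.cons_val, map_add, map_sub, map_mul, hσ]
  linear_combination (u 2 * σ (v 2)) * h

theorem wg_iso {σ : F →+* F} (u v : Fin 3 → F) :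
    aform σ (((wg : GL (Fin 3) F) : Matrix (Fin 3) (Fin 3) F) *ᵥ u)
      (((wg : GL (Fin 3) F) : Matrix (Fin 3) (Fin 3) F) *ᵥ v) = aform σ u v := by
  rw [wg_val, wmat_mulVec, wmat_mulVec]
  unfold aform
  simp only [Matrix.cons_val_zero, Matrix.cons_val_one, Matrix.cons_val, map_neg]
  ring

theorem bg_mem {σ : F →+* F} (hσ : ∀ x, σ (σ x) = x) {a b : F} (h : b + σ b + a * σ a = 0) :
    bg σ a b ∈ similarityGroup (aform σ) := ⟨1, fun u v => by rw [bg_iso hσ h, Units.val_one, one_mul]⟩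

theorem wg_mem {σ : F →+* F} : (wg : GL (Fin 3) F) ∈ similarityGroup (aform σ) :=
  ⟨1, fun u v => by rw [wg_iso, Units.val_one, one_mul]⟩

theorem wg_sq : (wg : GL (Fin 3) F) * wg = 1 := by
  apply Units.ext
  rw [Units.val_mul, wg_val, Units.val_one]
  ext i j
  fin_cases i <;> fin_cases j <;> simp [wmat, Matrix.mul_apply, Fin.sum_univ_three]

theorem wg_ne : (wg : GL (Fin 3) F) ≠ 1 := by
  intro h
  have h1 := congrFun (congrFun (congrArg (fun g : GL (Fin 3) F => (g : Matrix (Fin 3) (Fin 3) F)) h) 0) 0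
  simp [wg_val, wmat] at h1

theorem bg_inj {σ : F →+* F} {a b c d : F} (h : bg σ a b = bg σ c d) : a = c ∧ b = d := by
  have h1 := congrArg (fun g : GL (Fin 3) F => (g : Matrix (Fin 3) (Fin 3) F)) h
  simp only [bg_val] at h1
  exact ⟨by simpa [bmat] using congrFun (congrFun h1 0) 1, by simpa [bmat] using congrFun (congrFun h1 0) 2⟩

theorem bg_one (σ : F →+* F) : bg σ 0 0 = 1 := by
  apply Units.ext
  rw [bg_val, Units.val_one]
  ext i j
  fin_cases i <;> fin_cases j <;> simp [bmat]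

theorem bg_mul (σ : F →+* F) (a b c d : F) : bg σ a b * bg σ c d = bg σ (a + c) (b + d - a * σ c) := by
  apply Units.ext
  rw [Units.val_mul, bg_val, bg_val, bg_val]
  ext i j
  fin_cases i <;> fin_cases j <;> simp [bmat, Matrix.mul_apply, Fin.sum_univ_three] <;> ring

/-- the unipotent group -/
def agrp (σ : F →+* F) (hσ : ∀ x, σ (σ x) = x) : Subgroup (GL (Fin 3) F) where
  carrier := {g | ∃ a b, b + σ b + a * σ a = 0 ∧ g = bg σ a b}
  mul_mem' := by
    rintro _ _ ⟨a, b, h, rfl⟩ ⟨c, d, h', rfl⟩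
    refine ⟨a + c, b + d - a * σ c, ?_, bg_mul _ _ _ _ _⟩
    simp only [map_add, map_sub, map_mul, hσ]
    linear_combination h + h'
  one_mem' := ⟨0, 0, by simp, (bg_one σ).symm⟩
  inv_mem' := by
    rintro _ ⟨a, b, h, rfl⟩
    refine ⟨-a, σ b, ?_, ?_⟩
    · simp only [map_neg, hσ]
      linear_combination h
    · rw [inv_eq_iff_mul_eq_one, bg_mul, map_neg]
      have : b + σ b - a * -σ a = 0 := by linear_combination h
      rw [this, add_neg_cancel, bg_one]

/-- the unipotent elements have order dividing `p²` -/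
theorem bg_pow (σ : F →+* F) (p : ℕ) [Fact p.Prime] [CharP F p] (a b : F) : bg σ a b ^ p ^ 2 = 1 := by
  have hp : p.Prime := Fact.out
  apply Units.ext
  rw [Units.val_pow_eq_pow_val, Units.val_one, bg_val, ← sub_eq_zero]
  have hc : CharP (Matrix (Fin 3) (Fin 3) F) p := inferInstance
  have h1 : (bmat σ a b - 1) ^ 3 = 0 := by
    have e : bmat σ a b - 1 = !![0, a, b; 0, 0, -σ a; 0, 0, 0] := by
      ext i j
      fin_cases i <;> fin_cases j <;> simp [bmat]
    rw [e, pow_succ, pow_two]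
    ext i j
    fin_cases i <;> fin_cases j <;> simp [Matrix.mul_apply, Fin.sum_univ_three]
  have h2 : (bmat σ a b - 1) ^ p ^ 2 = bmat σ a b ^ p ^ 2 - 1 := by
    have := sub_pow_char_pow_of_commute (p := p) (n := 2) (R := Matrix (Fin 3) (Fin 3) F)
      (x := bmat σ a b) (y := 1) (Commute.one_right _)
    rw [one_pow] at this
    exact this
  rw [← h2]
  obtain ⟨k, hk⟩ : ∃ k, p ^ 2 = 3 + k := ⟨p ^ 2 - 3, by
    have : 2 ^ 2 ≤ p ^ 2 := Nat.pow_le_pow_left hp.two_le 2
    omega⟩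
  rw [hk, pow_add, h1, zero_mul]

/-- irreducibility -/
theorem anti_irr {σ : F →+* F} {b : F} {K : Subgroup (GL (Fin 3) F)} (hb : bg σ 1 b ∈ K) (hw : wg ∈ K) :
    ActsIrreducibly (matrixSet K) := by
  have hBW : ∀ W : Submodule F (Fin 3 → F), (∀ s ∈ matrixSet K, ∀ w ∈ W, s *ᵥ w ∈ W) → ∀ v ∈ W,
      (![v 1 + b * v 2, -v 2, 0] : Fin 3 → F) ∈ W := by
    intro W hW v hv
    have h1 : (bg σ 1 b : Matrix (Fin 3) (Fin 3) F) *ᵥ v ∈ W := hW _ ⟨_, hb, rfl⟩ v hv
    rw [bg_val, bmat_mulVec] at h1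
    have h2 := W.sub_mem h1 hv
    have e : (![v 0 + 1 * v 1 + b * v 2, v 1 - σ 1 * v 2, v 2] : Fin 3 → F) - v = ![v 1 + b * v 2, -v 2, 0] := by
      ext k
      fin_cases k <;> simp
      ring
    rwa [e] at h2
  have hwW : ∀ W : Submodule F (Fin 3 → F), (∀ s ∈ matrixSet K, ∀ w ∈ W, s *ᵥ w ∈ W) → ∀ v ∈ W,
      (![v 2, -v 1, v 0] : Fin 3 → F) ∈ W := by
    intro W hW v hv
    have h1 : ((wg : GL (Fin 3) F) : Matrix (Fin 3) (Fin 3) F) *ᵥ v ∈ W := hW _ ⟨_, hw, rfl⟩ v hv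
    rwa [wg_val, wmat_mulVec] at h1
  have key : ∀ W : Submodule F (Fin 3 → F), (∀ s ∈ matrixSet K, ∀ w ∈ W, s *ᵥ w ∈ W) → W ≠ ⊥ →
      (Pi.single 0 1 : Fin 3 → F) ∈ W := by
    intro W hW h0
    obtain ⟨v, hv, hv0⟩ := Submodule.exists_mem_ne_zero_of_ne_bot h0
    have hs : ∀ t : F, t ≠ 0 → (![t, 0, 0] : Fin 3 → F) ∈ W → (Pi.single 0 1 : Fin 3 → F) ∈ W := by
      intro t ht h
      have h1 := W.smul_mem t⁻¹ h
      have e : t⁻¹ • (![t, 0, 0] : Fin 3 → F) = Pi.single 0 1 := by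
        ext k
        fin_cases k <;> simp [ht]
      rwa [e] at h1
    have h1 := hBW W hW v hv
    have h2 := hBW W hW _ h1
    simp only [Matrix.cons_val_zero, Matrix.cons_val_one, Matrix.cons_val, mul_zero, add_zero, neg_zero] at h2
    by_cases hv2 : v 2 = 0
    · rw [hv2, mul_zero, add_zero, neg_zero] at h1
      by_cases hv1 : v 1 = 0
      · have hv00 : v 0 ≠ 0 := by
          intro h
          apply hv0
          ext k
          fin_cases k
          · exact h
          · exact hv1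
          · exact hv2
        apply hs _ hv00
        have e : (![v 0, 0, 0] : Fin 3 → F) = v := by
          ext k
          fin_cases k
          · rfl
          · exact hv1.symm
          · exact hv2.symm
        rwa [e]
      · exact hs _ hv1 h1
    · exact hs _ (neg_ne_zero.2 hv2) h2
  apply irr_of
  · intro W hW h0
    exact ⟨0, key W hW h0⟩
  · intro W hW hex
    have h0 : W ≠ ⊥ := by
      rintro rfl
      obtain ⟨i, hi⟩ := hex
      rw [Submodule.mem_bot] at hi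
      have := congrFun hi i
      simp at this
    have k0 := key W hW h0
    have k2 : (Pi.single 2 1 : Fin 3 → F) ∈ W := by
      have h1 := hwW W hW _ k0
      have e : (![(Pi.single 0 1 : Fin 3 → F) 2, -(Pi.single 0 1 : Fin 3 → F) 1, (Pi.single 0 1 : Fin 3 → F) 0] :
          Fin 3 → F) = Pi.single 2 1 := by
        ext k
        fin_cases k <;> simp
      rwa [e] at h1
    have k1 : (Pi.single 1 1 : Fin 3 → F) ∈ W := by
      have h1 := hBW W hW _ k2
      have h2 := W.sub_mem (W.smul_mem b k0) h1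
      have e : b • (Pi.single 0 1 : Fin 3 → F) - (![(Pi.single 2 1 : Fin 3 → F) 1 + b * (Pi.single 2 1 : Fin 3 → F) 2,
          -(Pi.single 2 1 : Fin 3 → F) 2, 0] : Fin 3 → F) = Pi.single 1 1 := by
        ext k
        fin_cases k <;> simp
      rwa [e] at h2
    intro i
    fin_cases i
    · exact k0
    · exact k1
    · exact k2

theorem tr_bw (σ : F →+* F) (a b : F) : tr (bg σ a b * wg) = b - 1 := by
  unfold tr
  rw [Units.val_mul, bg_val, wg_val, Matrix.trace_fin_three]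
  simp [bmat, wmat, Matrix.mul_apply, Fin.sum_univ_three]
  ring

theorem tr_bw_inv {σ : F →+* F} {a b : F} (h : b + σ b + a * σ a = 0) : tr (bg σ a b * wg)⁻¹ = σ b - 1 := by
  have hS : bg σ a b * wg ∈ S3 F := (S3 F).mul_mem (bg_S _ _ _) wg_S
  unfold tr
  rw [inv_val hS, Units.val_mul, bg_val, wg_val, Matrix.adjugate_fin_three, Matrix.trace_fin_three]
  simp [bmat, wmat, Matrix.mul_apply, Fin.sum_univ_three]
  linear_combination -h

/-- traces in another form -/
theorem bw_other {σ τ : F →+* F} {f : (Fin 3 → F) → (Fin 3 → F) → F} (hf : Sesq τ f) (p : ℕ) [Fact p.Prime]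
    [CharP F p] {a b : F} (h : b + σ b + a * σ a = 0) (hb : bg σ a b ∈ similarityGroup f)
    (hw : wg ∈ similarityGroup f) : τ b = σ b := by
  have hp : p.Prime := Fact.out
  have h1 := hf.fix (bg_S σ a b) hb (bg_pow σ p a b) (by
    by_cases h3 : p = 3
    · right
      subst h3
      exact_mod_cast CharP.cast_eq_zero F 3
    · left
      intro h
      exact h3 ((Nat.prime_dvd_prime_iff_eq Nat.prime_three hp).1 (Nat.prime_three.dvd_of_dvd_pow h)).symm)
  have h2 := hf.fix wg_S hw (m := 2) (by rw [pow_two, wg_sq]) (Or.inl (by norm_num))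
  have h3 := hf.tr_of_fix ((S3 F).mul_mem (bg_S σ a b) wg_S) (fix_mul h1 h2)
  rw [tr_bw, tr_bw_inv h, map_sub, map_one] at h3
  linear_combination h3

/-- order of the unipotent group -/
theorem agrp_not_decomp (σ : F →+* F) (hσ : ∀ x, σ (σ x) = x) [Finite F] (p : ℕ) [Fact p.Prime] [CharP F p]
    (hex : ∀ a : F, ∃ b : F, b + σ b + a * σ a = 0) (h4 : 4 ≤ Nat.card F) {D : Fin 3 → Submodule F (Fin 3 → F)}
    (hD : IsMDecomposition 1 D) (hle : agrp σ hσ ≤ decompositionStabilizer D) : False := by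
  have hp : p.Prime := Fact.out
  have hpg : ∀ g ∈ agrp σ hσ, ∃ k : ℕ, g ^ p ^ k = 1 := by
    rintro _ ⟨a, b, -, rfl⟩
    exact ⟨2, bg_pow σ p a b⟩
  have h6 := decomp_unip hD p hle hpg
  have hfin : Finite (GL (Fin 3) F) := inferInstance
  have hP : IsPGroup p (agrp σ hσ) := by
    intro g
    obtain ⟨k, hk⟩ := hpg g g.2
    exact ⟨k, Subtype.ext hk⟩
  obtain ⟨n, hn⟩ := IsPGroup.iff_card.1 hP
  have hge : 4 ≤ Nat.card (agrp σ hσ) := by
    refine h4.trans ?_
    choose f hf using hex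
    apply Nat.card_le_card_of_injective (fun a : F => (⟨bg σ a (f a), a, f a, hf a, rfl⟩ : agrp σ hσ))
    intro a c hac
    exact (bg_inj (congrArg Subtype.val hac)).1
  rw [hn] at h6 hge
  have hle6 := Nat.le_of_dvd (by norm_num) h6
  have hn2 : 2 ≤ n := by
    by_contra hc
    have hn1 : n = 0 ∨ n = 1 := by omega
    rcases hn1 with rfl | rfl
    · rw [pow_zero] at hge; omega
    · rw [pow_one] at hge h6 hle6
      have : p = 4 ∨ p = 5 ∨ p = 6 := by omega
      rcases this with rfl | rfl | rfl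
      · norm_num at hp
      · norm_num at h6
      · norm_num at hp
  have h7 : p ^ 2 ∣ 6 := (pow_dvd_pow p hn2).trans h6
  have h8 := Nat.le_of_dvd (by norm_num) h7
  have h9 : p = 2 := by
    have := hp.two_le
    nlinarith
  rw [h9] at h7
  norm_num at h7

end Cfsg.Agent.H895.SLT
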