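import Cfsg.Agent.H895.SLT.Trace
import Cfsg.Agent.H908.Conj
import Cfsg.Agent.H873.SubfieldMain
import Cfsg.Agent.H905.SLFrames
import Cfsg.Agent.H905.SLProper3

/-!
# Maximality in `SL_3`: transport, explicit elements, irreducibility (helper895)
-/

set_option autoImplicit false

namespace Cfsg.Agent.H895.SLT

open Cfsg Cfsg.Geo
open scoped MatrixGroups Matrix
open Cfsg.Agent.H908 (cj mem_cj)

variable {F : Type*} [Field F]

/-- an element of the special linear group -/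
def gl (M : Matrix (Fin 3) (Fin 3) F) (h : M.det = 1) : GL (Fin 3) F :=
  Matrix.SpecialLinearGroup.toGL (n := Fin 3) (R := F) ⟨M, h⟩

@[simp] theorem gl_val (M : Matrix (Fin 3) (Fin 3) F) (h : M.det = 1) :
    (gl M h : Matrix (Fin 3) (Fin 3) F) = M := rfl

theorem gl_mem (M : Matrix (Fin 3) (Fin 3) F) (h : M.det = 1) : gl M h ∈ S3 F :=
  (H905.mem_sl_iff _).2 h

/-- scalars are central -/
theorem scalar_comm {z : GL (Fin 3) F} (hz : z ∈ scalars (Fin 3) F) (g : GL (Fin 3) F) : z * g = g * z := by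
  obtain ⟨c, hc⟩ := (mem_scalars_iff _).1 hz
  apply Units.ext
  rw [Units.val_mul, Units.val_mul, hc, Matrix.smul_mul, Matrix.mul_smul, one_mul, mul_one]

theorem cj_inf (P : GL (Fin 3) F) (H : Subgroup (GL (Fin 3) F)) : cj P (H ⊓ S3 F) = cj P H ⊓ S3 F := by
  ext g
  rw [mem_cj, Subgroup.mem_inf, Subgroup.mem_inf, mem_cj]
  refine and_congr_right fun _ => ?_
  rw [H905.mem_sl_iff, H905.mem_sl_iff, Units.val_mul, Units.val_mul, Matrix.det_mul, Matrix.det_mul]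
  have h1 : ((P⁻¹ : GL (Fin 3) F) : Matrix (Fin 3) (Fin 3) F).det * (P : Matrix (Fin 3) (Fin 3) F).det = 1 := by
    rw [← Matrix.det_mul, ← Units.val_mul, inv_mul_cancel, Units.val_one, Matrix.det_one]
  constructor
  · intro h
    calc (g : Matrix (Fin 3) (Fin 3) F).det
        = (((P⁻¹ : GL (Fin 3) F) : Matrix (Fin 3) (Fin 3) F).det * (P : Matrix (Fin 3) (Fin 3) F).det) *
          (g : Matrix (Fin 3) (Fin 3) F).det := by rw [h1, one_mul]
      _ = _ := by rw [← h]; ring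
  · intro h
    rw [h, mul_one, h1]

theorem maximal_cj {P : GL (Fin 3) F} {H : Subgroup (GL (Fin 3) F)} (h : IsMaximalIn (S3 F) (H ⊓ S3 F)) :
    IsMaximalIn (S3 F) (cj P H ⊓ S3 F) := by
  rw [← cj_inf]
  exact H873.Sub.isMaximalIn_map (MulAut.conj P) (H873.Sub.map_conj_specialLinear P) h

theorem eq_of_le_cj [Finite F] {P : GL (Fin 3) F} {H M : Subgroup (GL (Fin 3) F)} (hle : H ⊓ S3 F ≤ M)
    (hM : M = cj P H ⊓ S3 F) : M = H ⊓ S3 F := by
  symm
  apply Subgroup.eq_of_le_of_card_ge hle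
  rw [hM, ← cj_inf, H908.card_cj]

theorem cj_one (H : Subgroup (GL (Fin 3) F)) : cj 1 H = H := by
  ext g
  rw [mem_cj]
  simp

theorem cj_cj (P Q : GL (Fin 3) F) (H : Subgroup (GL (Fin 3) F)) : cj P (cj Q H) = cj (P * Q) H := by
  ext g
  rw [mem_cj, mem_cj, mem_cj]
  have : Q⁻¹ * (P⁻¹ * g * P) * Q = (P * Q)⁻¹ * g * (P * Q) := by group
  rw [this]

theorem cj_inv_cj (P : GL (Fin 3) F) (H : Subgroup (GL (Fin 3) F)) : cj P (cj P⁻¹ H) = H := by
  rw [cj_cj, mul_inv_cancel, cj_one]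

theorem cj_cj_inv (P : GL (Fin 3) F) (H : Subgroup (GL (Fin 3) F)) : cj P⁻¹ (cj P H) = H := by
  rw [cj_cj, inv_mul_cancel, cj_one]

/-- maximality of an intersection with `SL_3` -/
theorem maximal_of [Finite F] {H : Subgroup (GL (Fin 3) F)} (hne : ¬ S3 F ≤ H)
    (h : ∀ M, IsMaximalIn (S3 F) M → H ⊓ S3 F ≤ M → M = H ⊓ S3 F) : IsMaximalIn (S3 F) (H ⊓ S3 F) := by
  apply H905.isMaximalIn_of_forall _ h
  refine lt_of_le_of_ne inf_le_right fun h1 => hne ?_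
  rw [← h1]
  exact inf_le_left

/-- irreducible groups are in no subspace stabiliser -/
theorem irr_excl {H : Subgroup (GL (Fin 3) F)} (hirr : ActsIrreducibly (matrixSet H)) {W : Submodule F (Fin 3 → F)}
    (h0 : W ≠ ⊥) (h1 : W ≠ ⊤) (hle : H ≤ subspaceStabilizer W) : False := by
  rcases hirr W (by
    rintro _ ⟨g, hg, rfl⟩
    rintro _ ⟨w, hw, rfl⟩
    rw [Matrix.toLin'_apply]
    exact (H905.mulVec_mem_iff_of_mem_subspaceStabilizer (hle hg) w).1 hw) with h | h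
  · exact h0 h
  · exact h1 h

/-- irreducibility from the basis vectors -/
theorem irr_of {S : Set (Matrix (Fin 3) (Fin 3) F)}
    (h1 : ∀ W : Submodule F (Fin 3 → F), (∀ s ∈ S, ∀ w ∈ W, s *ᵥ w ∈ W) → W ≠ ⊥ →
      ∃ i, Pi.single i 1 ∈ W)
    (h2 : ∀ W : Submodule F (Fin 3 → F), (∀ s ∈ S, ∀ w ∈ W, s *ᵥ w ∈ W) → (∃ i, Pi.single i 1 ∈ W) →
      ∀ i, Pi.single i 1 ∈ W) : ActsIrreducibly S := by
  intro W hW
  have hW' : ∀ s ∈ S, ∀ w ∈ W, s *ᵥ w ∈ W := fun s hs w hw => by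
    have := hW s hs ⟨w, hw, rfl⟩
    rwa [Matrix.toLin'_apply] at this
  by_cases h0 : W = ⊥
  · exact Or.inl h0
  right
  rw [eq_top_iff]
  intro v _
  have h3 := h2 W hW' (h1 W hW' h0)
  have e : v = v 0 • Pi.single 0 1 + v 1 • Pi.single 1 1 + v 2 • Pi.single 2 (1 : F) := by
    funext i
    fin_cases i <;> simp
  rw [e]
  exact W.add_mem (W.add_mem (W.smul_mem _ (h3 0)) (W.smul_mem _ (h3 1))) (W.smul_mem _ (h3 2))

theorem pow_two_le {q q₁ r : ℕ} (hr : r.Prime) (h : q = q₁ ^ r) (h1 : 1 ≤ q₁) : q₁ ^ 2 ≤ q := by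
  rw [h]
  exact Nat.pow_le_pow_right h1 hr.two_le

theorem not_prime_pow {p q₁ r : ℕ} (hp : p.Prime) (hr : r.Prime) (h : p = q₁ ^ r) : False := by
  rw [h] at hp
  exact (Nat.Prime.eq_one_of_pow hp) |> hr.one_lt.ne'

end Cfsg.Agent.H895.SLT
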