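import Cfsg.Agent.H895.SLT.Trace
import Cfsg.Agent.H871.DecompOne

/-!
# Stabilisers of three lines in `SL_3` (helper895)
-/

set_option autoImplicit false

namespace Cfsg.Agent.H895.SLT

open Cfsg Cfsg.Geo
open scoped MatrixGroups Matrix

variable {F : Type*} [Field F] {D : Fin 3 → Submodule F (Fin 3 → F)}

theorem dec_ne_bot (hD : IsMDecomposition 1 D) (i : Fin 3) : D i ≠ ⊥ := by
  intro h
  have h1 := hD.finrank_eq i
  rw [h, finrank_bot] at h1
  exact zero_ne_one h1

theorem dec_injective (hD : IsMDecomposition 1 D) : Function.Injective D :=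
  hD.indep.injective (dec_ne_bot hD)

/-- the permutation of the three lines -/
noncomputable def permHom (hD : IsMDecomposition 1 D) : decompositionStabilizer D →* Equiv.Perm (Fin 3) :=
  MonoidHom.mk' (fun g => Classical.choose g.2) (by
    intro a b
    apply Equiv.ext
    intro i
    apply dec_injective hD
    have h1 := Classical.choose_spec (a * b).2 i
    have h2 := Classical.choose_spec a.2
    have h3 := Classical.choose_spec b.2
    rw [← h1, Equiv.Perm.mul_apply, ← h2, ← h3, Subgroup.coe_mul, Units.val_mul, Matrix.toLin'_mul,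
      Submodule.map_comp])

theorem permHom_spec (hD : IsMDecomposition 1 D) (g : decompositionStabilizer D) (i : Fin 3) :
    (D i).map (Matrix.toLin' ((g : GL (Fin 3) F) : Matrix (Fin 3) (Fin 3) F)) = D (permHom hD g i) :=
  Classical.choose_spec g.2 i

theorem exists_gen (hD : IsMDecomposition 1 D) (i : Fin 3) : ∃ v : Fin 3 → F, v ≠ 0 ∧ D i = F ∙ v := by
  have h := hD.finrank_eq i
  obtain ⟨⟨v, hv⟩, hv0, hspan⟩ := finrank_eq_one_iff'.1 h
  refine ⟨v, fun h0 => hv0 (Subtype.ext h0), le_antisymm ?_ ?_⟩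
  · intro w hw
    obtain ⟨c, hc⟩ := hspan ⟨w, hw⟩
    exact Submodule.mem_span_singleton.2 ⟨c, congrArg Subtype.val hc⟩
  · rw [Submodule.span_singleton_le_iff_mem]
    exact hv

/-- an element fixing the lines has eigenvectors -/
theorem eig_of_ker (hD : IsMDecomposition 1 D) {g : decompositionStabilizer D} (hg : permHom hD g = 1) (i : Fin 3) :
    ∃ v : Fin 3 → F, v ≠ 0 ∧ D i = F ∙ v ∧ ∃ c : F, ((g : GL (Fin 3) F) : Matrix (Fin 3) (Fin 3) F) *ᵥ v = c • v := by
  obtain ⟨v, hv, hvD⟩ := exists_gen hD i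
  refine ⟨v, hv, hvD, ?_⟩
  have h1 := permHom_spec hD g i
  rw [hg, Equiv.Perm.one_apply] at h1
  have h2 : Matrix.toLin' ((g : GL (Fin 3) F) : Matrix (Fin 3) (Fin 3) F) v ∈ D i := by
    rw [← h1]
    apply Submodule.mem_map_of_mem
    rw [hvD]; exact Submodule.mem_span_singleton_self v
  rw [hvD] at h2
  obtain ⟨c, hc⟩ := Submodule.mem_span_singleton.1 h2
  refine ⟨c, ?_⟩
  rw [Matrix.toLin'_apply] at hc
  exact hc.symm

theorem pow_eig {g : Matrix (Fin 3) (Fin 3) F} {v : Fin 3 → F} {c : F} (h : g *ᵥ v = c • v) (m : ℕ) :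
    (g ^ m) *ᵥ v = c ^ m • v := by
  induction m with
  | zero => simp
  | succ m ih => rw [pow_succ, ← Matrix.mulVec_mulVec, h, Matrix.mulVec_smul, ih, smul_smul, pow_succ, mul_comm]

theorem ker_unip (hD : IsMDecomposition 1 D) {p : ℕ} [Fact p.Prime] [CharP F p] {g : decompositionStabilizer D}
    (hg : permHom hD g = 1) {k : ℕ} (hk : (g : GL (Fin 3) F) ^ (p ^ k) = 1) : (g : GL (Fin 3) F) = 1 := by
  have hle : (⊤ : Submodule F (Fin 3 → F)) ≤
      LinearMap.ker (Matrix.toLin' (((g : GL (Fin 3) F) : Matrix (Fin 3) (Fin 3) F) - 1)) := by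
    rw [← hD.iSup_eq_top]
    refine iSup_le fun i => ?_
    obtain ⟨v, hv, hvD, c, hc⟩ := eig_of_ker hD hg i
    rw [hvD, Submodule.span_singleton_le_iff_mem, LinearMap.mem_ker, Matrix.toLin'_apply, Matrix.sub_mulVec,
      Matrix.one_mulVec, hc]
    have h1 := pow_eig hc (p ^ k)
    rw [← Units.val_pow_eq_pow_val, hk, Units.val_one, Matrix.one_mulVec] at h1
    have h2 : (c ^ (p ^ k) - 1) • v = 0 := by rw [sub_smul, ← h1, one_smul, sub_self]
    have h3 : c ^ (p ^ k) = 1 := sub_eq_zero.1 ((smul_eq_zero.1 h2).resolve_right hv)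
    have h4 : c = 1 := by
      have h5 : c ^ (p ^ k) = 1 ^ (p ^ k) := by rw [h3, one_pow]
      exact iterateFrobenius_inj F p k h5
    rw [h4, one_smul, sub_self]
  apply Units.ext
  rw [Units.val_one, ← sub_eq_zero]
  apply Matrix.toLin'.injective
  rw [map_zero]
  exact LinearMap.ker_eq_top.1 (top_le_iff.1 hle)

/-- unipotent subgroups of the stabiliser have order dividing six -/
theorem decomp_unip (hD : IsMDecomposition 1 D) (p : ℕ) [Fact p.Prime] [CharP F p] {A : Subgroup (GL (Fin 3) F)}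
    (hA : A ≤ decompositionStabilizer D) (hp : ∀ g ∈ A, ∃ k : ℕ, g ^ (p ^ k) = 1) : Nat.card A ∣ 6 := by
  let φ : A →* Equiv.Perm (Fin 3) := (permHom hD).comp (Subgroup.inclusion hA)
  have hinj : Function.Injective φ := by
    rw [injective_iff_map_eq_one]
    intro a ha
    obtain ⟨k, hk⟩ := hp a a.2
    exact Subtype.ext (ker_unip hD (g := Subgroup.inclusion hA a) ha hk)
  have h1 := Subgroup.card_dvd_of_injective φ hinj
  have h2 : Nat.card (Equiv.Perm (Fin 3)) = 6 := by
    rw [Nat.card_perm, Nat.card_fin]; rfl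
  rwa [h2] at h1

/-- the sixth power of an element has three eigenlines -/
theorem decomp_six (hD : IsMDecomposition 1 D) {g : GL (Fin 3) F} (hg : g ∈ decompositionStabilizer D) :
    ∃ v : Fin 3 → F, v ≠ 0 ∧ ∃ c : F, ((g ^ 6 : GL (Fin 3) F) : Matrix (Fin 3) (Fin 3) F) *ᵥ v = c • v := by
  have h1 : permHom hD (⟨g, hg⟩ ^ 6) = 1 := by
    rw [map_pow]
    have h2 : Nat.card (Equiv.Perm (Fin 3)) = 6 := by
      rw [Nat.card_perm, Nat.card_fin]; rfl
    rw [← h2]
    exact pow_card_eq_one'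
  obtain ⟨v, hv, -, c, hc⟩ := eig_of_ker hD h1 0
  exact ⟨v, hv, c, hc⟩

end Cfsg.Agent.H895.SLT
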