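import Cfsg.Agent.H895.SLT.Trace
import Cfsg.Agent.H907.FieldSub

/-!
# Normalisers of cubic fields in `SL_3` (helper895)
-/

set_option autoImplicit false

namespace Cfsg.Agent.H895.SLT

open Cfsg Cfsg.Geo Cfsg.Agent.H907
open scoped MatrixGroups Matrix

variable {F : Type*} [Field F] {K : Subalgebra F (Matrix (Fin 3) (Fin 3) F)}

theorem isUnit_of_mem (hK : IsFieldSubalgebra 3 K) : ∀ x ∈ K, x ≠ 0 → IsUnit x := by
  intro x hx h0
  obtain ⟨y, hy, hxy⟩ := hK.inv x hx h0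
  exact ⟨⟨x, y, hxy, by rw [hK.comm _ hy _ hx]; exact hxy⟩, rfl⟩

theorem adjoin_eq (hK : IsFieldSubalgebra 3 K) {c : Matrix (Fin 3) (Fin 3) F} (hc : c ∈ K)
    (hns : ¬ ∃ a : F, c = a • (1 : Matrix (Fin 3) (Fin 3) F)) : Algebra.adjoin F {c} = K := by
  have hle : Algebra.adjoin F {c} ≤ K := Algebra.adjoin_le (by simpa using hc)
  apply Subalgebra.eq_of_le_of_finrank_eq hle
  rw [hK.finrank_eq]
  exact finrank_sub_eq Nat.prime_three (by simp) _ (fun x hx h0 => isUnit_of_mem hK x (hle hx) h0)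
    ⟨c, Algebra.self_mem_adjoin_singleton F c, hns⟩

theorem exists_ns (hK : IsFieldSubalgebra 3 K) : ∃ x ∈ K, ¬ ∃ c : F, x = c • (1 : Matrix (Fin 3) (Fin 3) F) := by
  by_contra hcon
  push Not at hcon
  have h1 : K = ⊥ := by
    rw [eq_bot_iff]
    intro x hx
    obtain ⟨c, hc⟩ := hcon x hx
    rw [Algebra.mem_bot]
    exact ⟨c, by rw [Algebra.algebraMap_eq_smul_one, hc]⟩
  have h2 := hK.finrank_eq
  rw [h1, Subalgebra.finrank_bot] at h2
  omega

theorem mem_of_comm (hK : IsFieldSubalgebra 3 K) {x M : Matrix (Fin 3) (Fin 3) F} (hx : x ∈ K)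
    (hns : ¬ ∃ a : F, x = a • (1 : Matrix (Fin 3) (Fin 3) F)) (h : M * x = x * M) : M ∈ K := by
  refine mem_of_commute Nat.prime_three (by simp) K hK.comm (isUnit_of_mem hK) (exists_ns hK) ?_
  intro y hy
  rw [← adjoin_eq hK hx hns] at hy
  exact adjoin_commute (S := {x}) (fun s hs => by rw [Set.mem_singleton_iff.1 hs]; exact h) y hy

theorem mem_of_comm_all (hK : IsFieldSubalgebra 3 K) {M : Matrix (Fin 3) (Fin 3) F}
    (h : ∀ x ∈ K, M * x = x * M) : M ∈ K :=
  mem_of_commute Nat.prime_three (by simp) K hK.comm (isUnit_of_mem hK) (exists_ns hK) h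

/-- conjugation as an algebra automorphism -/
def conjAlg {g : GL (Fin 3) F} (hg : g ∈ subalgebraNormalizer K) : K ≃ₐ[F] K where
  toFun k := ⟨(g : Matrix (Fin 3) (Fin 3) F) * k * ((g⁻¹ : GL (Fin 3) F) : Matrix (Fin 3) (Fin 3) F), (hg k).1 k.2⟩
  invFun k := ⟨((g⁻¹ : GL (Fin 3) F) : Matrix (Fin 3) (Fin 3) F) * k * (g : Matrix (Fin 3) (Fin 3) F), by
    have := ((subalgebraNormalizer K).inv_mem hg k).1 k.2
    rwa [inv_inv] at this⟩
  left_inv k := by
    apply Subtype.ext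
    show ((g⁻¹ : GL (Fin 3) F) : Matrix (Fin 3) (Fin 3) F) * ((g : Matrix (Fin 3) (Fin 3) F) * k *
      ((g⁻¹ : GL (Fin 3) F) : Matrix (Fin 3) (Fin 3) F)) * (g : Matrix (Fin 3) (Fin 3) F) = k
    rw [mul_assoc, mul_assoc, mul_assoc, Units.inv_mul, mul_one, ← mul_assoc, Units.inv_mul, one_mul]
  right_inv k := by
    apply Subtype.ext
    show (g : Matrix (Fin 3) (Fin 3) F) * (((g⁻¹ : GL (Fin 3) F) : Matrix (Fin 3) (Fin 3) F) * k *
      (g : Matrix (Fin 3) (Fin 3) F)) * ((g⁻¹ : GL (Fin 3) F) : Matrix (Fin 3) (Fin 3) F) = k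
    rw [mul_assoc, mul_assoc, mul_assoc, Units.mul_inv, mul_one, ← mul_assoc, Units.mul_inv, one_mul]
  map_mul' a b := by
    apply Subtype.ext
    show (g : Matrix (Fin 3) (Fin 3) F) * ((a : Matrix (Fin 3) (Fin 3) F) * b) * _ = _
    calc (g : Matrix (Fin 3) (Fin 3) F) * ((a : Matrix (Fin 3) (Fin 3) F) * b) *
          ((g⁻¹ : GL (Fin 3) F) : Matrix (Fin 3) (Fin 3) F)
        = (g : Matrix (Fin 3) (Fin 3) F) * ((a : Matrix (Fin 3) (Fin 3) F) *
          (((g⁻¹ : GL (Fin 3) F) : Matrix (Fin 3) (Fin 3) F) * (g : Matrix (Fin 3) (Fin 3) F)) * b) *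
          ((g⁻¹ : GL (Fin 3) F) : Matrix (Fin 3) (Fin 3) F) := by rw [Units.inv_mul, mul_one]
      _ = ((g : Matrix (Fin 3) (Fin 3) F) * a * ((g⁻¹ : GL (Fin 3) F) : Matrix (Fin 3) (Fin 3) F)) *
          ((g : Matrix (Fin 3) (Fin 3) F) * b * ((g⁻¹ : GL (Fin 3) F) : Matrix (Fin 3) (Fin 3) F)) := by
            simp only [mul_assoc]
  map_add' a b := by
    apply Subtype.ext
    show (g : Matrix (Fin 3) (Fin 3) F) * ((a : Matrix (Fin 3) (Fin 3) F) + b) * _ = _ + _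
    rw [mul_add, add_mul]
  commutes' r := by
    apply Subtype.ext
    show (g : Matrix (Fin 3) (Fin 3) F) * (algebraMap F (Matrix (Fin 3) (Fin 3) F) r) *
      ((g⁻¹ : GL (Fin 3) F) : Matrix (Fin 3) (Fin 3) F) = algebraMap F (Matrix (Fin 3) (Fin 3) F) r
    rw [← Algebra.commutes, mul_assoc, Units.mul_inv, mul_one]

theorem conjAlg_val {g : GL (Fin 3) F} (hg : g ∈ subalgebraNormalizer K) (k : K) :
    ((conjAlg hg k : K) : Matrix (Fin 3) (Fin 3) F) =
      (g : Matrix (Fin 3) (Fin 3) F) * k * ((g⁻¹ : GL (Fin 3) F) : Matrix (Fin 3) (Fin 3) F) := rfl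

theorem conjAlg_pow {g : GL (Fin 3) F} (hg : g ∈ subalgebraNormalizer K) (m : ℕ) (k : K) :
    (((conjAlg hg ^ m : K ≃ₐ[F] K) k : K) : Matrix (Fin 3) (Fin 3) F) =
      ((g ^ m : GL (Fin 3) F) : Matrix (Fin 3) (Fin 3) F) * k *
        (((g ^ m)⁻¹ : GL (Fin 3) F) : Matrix (Fin 3) (Fin 3) F) := by
  induction m generalizing k with
  | zero => simp
  | succ m ih =>
    rw [pow_succ', AlgEquiv.mul_apply, conjAlg_val, ih, pow_succ', _root_.mul_inv_rev, Units.val_mul, Units.val_mul]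
    simp only [mul_assoc]

theorem conjAlg_cube [Finite F] (hK : IsFieldSubalgebra 3 K) {g : GL (Fin 3) F} (hg : g ∈ subalgebraNormalizer K) :
    conjAlg hg ^ 3 = 1 := by
  let _ := (isField_of hK).toField
  have : Finite K := inferInstance
  have h1 : Nat.card (K ≃ₐ[F] K) = 3 := by
    rw [IsGalois.card_aut_eq_finrank, hK.finrank_eq]
  have h2 : (conjAlg hg) ^ Nat.card (K ≃ₐ[F] K) = 1 := pow_card_eq_one'
  rwa [h1] at h2

theorem comm_of_conj_eq {g : GL (Fin 3) F} {k : Matrix (Fin 3) (Fin 3) F}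
    (h : (g : Matrix (Fin 3) (Fin 3) F) * k * ((g⁻¹ : GL (Fin 3) F) : Matrix (Fin 3) (Fin 3) F) = k) :
    (g : Matrix (Fin 3) (Fin 3) F) * k = k * g := by
  calc (g : Matrix (Fin 3) (Fin 3) F) * k = (g : Matrix (Fin 3) (Fin 3) F) * k *
        (((g⁻¹ : GL (Fin 3) F) : Matrix (Fin 3) (Fin 3) F) * g) := by rw [Units.inv_mul, mul_one]
    _ = k * g := by rw [← mul_assoc, h]

theorem cube_mem [Finite F] (hK : IsFieldSubalgebra 3 K) {g : GL (Fin 3) F} (hg : g ∈ subalgebraNormalizer K) :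
    ((g ^ 3 : GL (Fin 3) F) : Matrix (Fin 3) (Fin 3) F) ∈ K := by
  apply mem_of_comm_all hK
  intro x hx
  apply comm_of_conj_eq
  have h1 := conjAlg_pow hg 3 ⟨x, hx⟩
  rw [conjAlg_cube hK hg, AlgEquiv.one_apply] at h1
  exact h1.symm

/-- The normaliser of a cubic field in `SL_3` has no involution. -/
theorem no_involution [Finite F] (hK : IsFieldSubalgebra 3 K) {t : GL (Fin 3) F} (ht : t ∈ subalgebraNormalizer K)
    (hS : t ∈ S3 F) (h2 : t * t = 1) : t = 1 := by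
  have h3 := cube_mem hK ht
  have h4 : t ^ 3 = t := by rw [pow_succ, pow_two, h2, one_mul]
  rw [h4] at h3
  set T : Matrix (Fin 3) (Fin 3) F := (t : Matrix (Fin 3) (Fin 3) F) with hT
  have hTT : T * T = 1 := by rw [hT, ← Units.val_mul, h2, Units.val_one]
  have h5 : (T - 1) * (T + 1) = 0 := by
    have : (T - 1) * (T + 1) = T * T - 1 := by noncomm_ring
    rw [this, hTT, sub_self]
  have h6 : T - 1 = 0 ∨ T + 1 = 0 := by
    by_contra hc
    push Not at hc
    obtain ⟨u, hu⟩ := isUnit_of_mem hK (T - 1) (K.sub_mem h3 K.one_mem) hc.1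
    apply hc.2
    rw [← hu] at h5
    simpa using h5
  rcases h6 with h | h
  · exact Units.ext (sub_eq_zero.1 h)
  · have hm : T = -1 := eq_neg_of_add_eq_zero_left h
    have hd := det_eq_one hS
    rw [← hT, hm, Matrix.det_neg, Matrix.det_one, Fintype.card_fin, mul_one] at hd
    have h7 : (-1 : F) = 1 := by
      have : (-1 : F) ^ 3 = -1 := by ring
      rwa [this] at hd
    apply Units.ext
    rw [← hT, hm, Units.val_one]
    ext i j
    rw [Matrix.neg_apply, Matrix.one_apply]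
    split_ifs
    · exact h7
    · exact neg_zero

variable [Fintype F]

/-- a generator of the group of elements of norm one -/
theorem exists_c (hK : IsFieldSubalgebra 3 K) : ∃ c : GL (Fin 3) F, (c : Matrix (Fin 3) (Fin 3) F) ∈ K ∧ c ∈ S3 F ∧
    orderOf c = Fintype.card F ^ 2 + Fintype.card F + 1 := by
  set q := Fintype.card F with hq
  have hq1 : 1 < q := Fintype.one_lt_card
  have hcyc := isCyclic_KU hK
  have hfin : Finite (KU hK) := inferInstance
  obtain ⟨g, hg⟩ := IsCyclic.exists_generator (α := KU hK)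
  have hord : orderOf g = q ^ 3 - 1 := by
    rw [orderOf_eq_card_of_forall_mem_zpowers hg, card_KU hK]
  have hfac : q ^ 3 - 1 = (q - 1) * (q ^ 2 + q + 1) := by
    obtain ⟨n, hn⟩ : ∃ n, q = n + 1 := ⟨q - 1, by omega⟩
    rw [hn]
    simp only [Nat.add_sub_cancel]
    apply Nat.sub_eq_of_eq_add
    ring
  refine ⟨((g ^ (q - 1) : KU hK) : GL (Fin 3) F), (g ^ (q - 1)).2, ?_, ?_⟩
  · rw [Subgroup.coe_pow]
    show Matrix.GeneralLinearGroup.det _ = 1
    rw [map_pow]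
    apply Units.ext
    rw [Units.val_pow_eq_pow_val, Units.val_one]
    exact FiniteField.pow_card_sub_one_eq_one _ (Units.ne_zero _)
  · rw [Subgroup.orderOf_coe, orderOf_pow' g (by omega : q - 1 ≠ 0), hord, hfac, Nat.gcd_mul_right_left,
      Nat.mul_div_cancel_left _ (by omega : 0 < q - 1)]

end Cfsg.Agent.H895.SLT
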