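import Cfsg.Agent.H895.SLT.Base
import Cfsg.Agent.H960.HeisCases

/-!
# The normaliser of the group of order 27 in `SL_3`: explicit matrices (helper895)
-/

set_option autoImplicit false
set_option linter.unusedSimpArgs false

namespace Cfsg.Agent.H895.SLT

open Cfsg Cfsg.Geo
open scoped MatrixGroups Matrix
open Cfsg.Agent.H960 (A0 C0 T0 P0 A0_eq A0_C0 omega_ne)

variable {F : Type*} [Field F] {ω : F}

/-- the Fourier matrix, unnormalised -/
def S1 (ω : F) : Matrix (Fin 3) (Fin 3) F := !![1, 1, 1; 1, ω * ω, ω; 1, ω, ω * ω]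

/-- its conjugate -/
def T1 (ω : F) : Matrix (Fin 3) (Fin 3) F := !![1, 1, ω * ω; 1, ω * ω, 1; ω, ω * ω, ω * ω]

theorem S1_A0 (hω : ω * ω + ω + 1 = 0) : S1 ω * A0 ω = C0 * S1 ω := by
  rw [A0_eq]
  ext i j
  fin_cases i <;> fin_cases j <;> simp [S1, C0, Matrix.mul_apply, Fin.sum_univ_three] <;> grind

theorem S1_C0 (hω : ω * ω + ω + 1 = 0) : S1 ω * C0 = A0 ω * A0 ω * S1 ω := by
  rw [A0_eq]
  ext i j
  fin_cases i <;> fin_cases j <;> simp [S1, C0, Matrix.mul_apply, Fin.sum_univ_three] <;> grind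

theorem T1_A0 (hω : ω * ω + ω + 1 = 0) : T1 ω * A0 ω = (ω * ω) • (A0 ω * C0 * T1 ω) := by
  rw [A0_eq]
  ext i j
  fin_cases i <;> fin_cases j <;> simp [T1, C0, Matrix.mul_apply, Fin.sum_univ_three] <;> grind

theorem T1_C0 (hω : ω * ω + ω + 1 = 0) : T1 ω * C0 = A0 ω * C0 * C0 * T1 ω := by
  rw [A0_eq]
  ext i j
  fin_cases i <;> fin_cases j <;> simp [T1, C0, Matrix.mul_apply, Fin.sum_univ_three] <;> grind

theorem S1_det (hω : ω * ω + ω + 1 = 0) : (S1 ω).det = (ω * ω - ω) ^ 3 := by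
  rw [Matrix.det_fin_three]
  simp [S1]
  grind

theorem T1_det (hω : ω * ω + ω + 1 = 0) : (T1 ω).det = (ω * ω - ω) ^ 3 := by
  rw [Matrix.det_fin_three]
  simp [T1]
  grind

theorem S1_S1 (hω : ω * ω + ω + 1 = 0) : S1 ω * S1 ω = (ω * ω - ω) ^ 2 • P0 := by
  ext i j
  fin_cases i <;> fin_cases j <;> simp [S1, P0, Matrix.mul_apply, Fin.sum_univ_three] <;> grind

theorem A0_cube (hω : ω * ω + ω + 1 = 0) : A0 ω * A0 ω * A0 ω = 1 := by
  rw [A0_eq]
  ext i j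
  fin_cases i <;> fin_cases j <;> simp [Matrix.mul_apply, Fin.sum_univ_three] <;> grind

theorem C0_cube : (C0 : Matrix (Fin 3) (Fin 3) F) * C0 * C0 = 1 := by
  ext i j
  fin_cases i <;> fin_cases j <;> simp [C0, Matrix.mul_apply, Fin.sum_univ_three]

theorem A0_det (hω : ω * ω + ω + 1 = 0) : (A0 ω).det = 1 := by
  rw [A0_eq, Matrix.det_fin_three]
  simp
  grind

theorem C0_det : (C0 : Matrix (Fin 3) (Fin 3) F).det = 1 := by
  rw [Matrix.det_fin_three]
  simp [C0]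

theorem kap_ne (h3 : (3 : F) ≠ 0) (hω : ω * ω + ω + 1 = 0) : ω * ω - ω ≠ 0 := by
  obtain ⟨hω1, hω2, hω12, hω0⟩ := omega_ne h3 hω
  exact sub_ne_zero.2 (Ne.symm hω12)

/-- a group containing the four standard elements -/
structure Four (ω : F) (x y s t : GL (Fin 3) F) : Prop where
  h3 : (3 : F) ≠ 0
  hω : ω * ω + ω + 1 = 0
  xe : (x : Matrix (Fin 3) (Fin 3) F) = A0 ω
  ye : (y : Matrix (Fin 3) (Fin 3) F) = C0
  se : (s : Matrix (Fin 3) (Fin 3) F) = (ω * ω - ω)⁻¹ • S1 ω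
  te : (t : Matrix (Fin 3) (Fin 3) F) = (ω * ω - ω)⁻¹ • T1 ω

theorem exists_four (h3 : (3 : F) ≠ 0) (hω : ω * ω + ω + 1 = 0) :
    ∃ x y s t : GL (Fin 3) F, Four ω x y s t := by
  have hk := kap_ne h3 hω
  refine ⟨gl (A0 ω) (A0_det hω), gl C0 C0_det, gl ((ω * ω - ω)⁻¹ • S1 ω) ?_, gl ((ω * ω - ω)⁻¹ • T1 ω) ?_,
    h3, hω, rfl, rfl, rfl, rfl⟩
  · rw [Matrix.det_smul, S1_det hω, Fintype.card_fin, ← mul_pow, inv_mul_cancel₀ hk, one_pow]
  · rw [Matrix.det_smul, T1_det hω, Fintype.card_fin, ← mul_pow, inv_mul_cancel₀ hk, one_pow]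

namespace Four

variable {x y s t : GL (Fin 3) F} (H : Four ω x y s t)
include H

theorem x_mem : x ∈ S3 F := (H905.mem_sl_iff _).2 (by rw [H.xe, A0_det H.hω])
theorem y_mem : y ∈ S3 F := (H905.mem_sl_iff _).2 (by rw [H.ye, C0_det])
theorem s_mem : s ∈ S3 F := (H905.mem_sl_iff _).2 (by
  rw [H.se, Matrix.det_smul, S1_det H.hω, Fintype.card_fin, ← mul_pow, inv_mul_cancel₀ (kap_ne H.h3 H.hω), one_pow])
theorem t_mem : t ∈ S3 F := (H905.mem_sl_iff _).2 (by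
  rw [H.te, Matrix.det_smul, T1_det H.hω, Fintype.card_fin, ← mul_pow, inv_mul_cancel₀ (kap_ne H.h3 H.hω), one_pow])

theorem x_cube : x * x * x = 1 := Units.ext (by
  rw [Units.val_mul, Units.val_mul, H.xe, A0_cube H.hω, Units.val_one])
theorem y_cube : y * y * y = 1 := Units.ext (by
  rw [Units.val_mul, Units.val_mul, H.ye, C0_cube, Units.val_one])

theorem sx : s * x = y * s := Units.ext (by
  rw [Units.val_mul, Units.val_mul, H.se, H.xe, H.ye, Matrix.smul_mul, Matrix.mul_smul, S1_A0 H.hω])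

theorem sy : s * y = x * x * s := Units.ext (by
  rw [Units.val_mul, Units.val_mul, Units.val_mul, H.se, H.xe, H.ye, Matrix.smul_mul, Matrix.mul_smul, S1_C0 H.hω])

theorem ty : t * y = x * y * y * t := Units.ext (by
  rw [Units.val_mul, Units.val_mul, Units.val_mul, Units.val_mul, H.te, H.xe, H.ye, Matrix.smul_mul,
    Matrix.mul_smul, T1_C0 H.hω])

theorem exists_z : ∃ z : GL (Fin 3) F, (z : Matrix (Fin 3) (Fin 3) F) = ω • (1 : Matrix (Fin 3) (Fin 3) F) ∧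
    z ∈ scalars (Fin 3) F ∧ z ∈ S3 F ∧ x * y = z * (y * x) ∧ z ^ 3 = 1 ∧ t * x = z * z * (x * y) * t := by
  obtain ⟨hω1, hω2, hω12, hω0⟩ := omega_ne H.h3 H.hω
  have e : x * y * (y * x)⁻¹ = x * y * (y * x)⁻¹ := rfl
  have h1 : ((x * y : GL (Fin 3) F) : Matrix (Fin 3) (Fin 3) F) = ω • ((y * x : GL (Fin 3) F) :
      Matrix (Fin 3) (Fin 3) F) := by
    rw [Units.val_mul, Units.val_mul, H.xe, H.ye, A0_C0 H.hω]
  obtain ⟨z, hz⟩ : ∃ z : GL (Fin 3) F, z = x * y * (y * x)⁻¹ := ⟨_, rfl⟩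
  have hzv : (z : Matrix (Fin 3) (Fin 3) F) = ω • (1 : Matrix (Fin 3) (Fin 3) F) := by
    rw [hz, Units.val_mul, h1, Matrix.smul_mul, ← Units.val_mul, mul_inv_cancel, Units.val_one]
  have hzs : z ∈ scalars (Fin 3) F := (mem_scalars_iff _).2 ⟨Units.mk0 ω hω0, by rw [hzv, Units.val_mk0]⟩
  refine ⟨z, hzv, hzs, ?_, by rw [hz]; group, ?_, ?_⟩
  · rw [hz]
    exact (S3 F).mul_mem ((S3 F).mul_mem H.x_mem H.y_mem) ((S3 F).inv_mem ((S3 F).mul_mem H.y_mem H.x_mem))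
  · apply Units.ext
    have hω3 : ω ^ 3 = 1 := by linear_combination (ω - 1) * H.hω
    rw [Units.val_pow_eq_pow_val, hzv, smul_pow, one_pow, hω3, one_smul, Units.val_one]
  · apply Units.ext
    rw [Units.val_mul, Units.val_mul, Units.val_mul, Units.val_mul, Units.val_mul, hzv, H.te, H.xe, H.ye,
      Matrix.smul_mul, T1_A0 H.hω]
    simp only [Matrix.smul_mul, Matrix.one_mul, Matrix.mul_smul, smul_smul]

theorem x_not : x ∉ scalars (Fin 3) F := by
  intro h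
  obtain ⟨z, hz, -, -, h1, -, -⟩ := H.exists_z
  rw [scalar_comm h] at h1
  have h2 : z = 1 := by
    have := mul_right_cancel (b := y * x) (a := 1) (c := z) (by rw [one_mul]; exact h1)
    exact this.symm
  have h3 := congrFun (congrFun (hz.symm.trans (by rw [h2, Units.val_one])) 0) 0
  rw [Matrix.smul_apply, Matrix.one_apply_eq, smul_eq_mul, mul_one] at h3
  exact (omega_ne H.h3 H.hω).1 h3

theorem y_not : y ∉ scalars (Fin 3) F := by
  intro h
  obtain ⟨c, hc⟩ := (mem_scalars_iff _).1 h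
  rw [H.ye] at hc
  have := congrFun (congrFun hc 1) 0
  simp [C0] at this

theorem xy_not : x * y ∉ scalars (Fin 3) F := by
  intro h
  obtain ⟨c, hc⟩ := (mem_scalars_iff _).1 h
  rw [Units.val_mul, H.xe, H.ye, A0_eq] at hc
  have := congrFun (congrFun hc 0) 2
  simp [C0, Matrix.mul_apply, Fin.sum_univ_three] at this

theorem xyi_not : x * y⁻¹ ∉ scalars (Fin 3) F := by
  intro h
  have e : y⁻¹ = y * y := inv_eq_of_mul_eq_one_left (by rw [H.y_cube])
  rw [e] at h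
  obtain ⟨c, hc⟩ := (mem_scalars_iff _).1 h
  rw [Units.val_mul, Units.val_mul, H.xe, H.ye, A0_eq] at hc
  have := congrFun (congrFun hc 0) 1
  simp [C0, Matrix.mul_apply, Fin.sum_univ_three] at this

/-- `s² ` is an involution -/
theorem s_sq : s * s * (s * s) = 1 ∧ s * s ≠ 1 := by
  have hk := kap_ne H.h3 H.hω
  have h1 : ((s * s : GL (Fin 3) F) : Matrix (Fin 3) (Fin 3) F) = P0 := by
    rw [Units.val_mul, H.se, smul_mul_smul_comm, S1_S1 H.hω, smul_smul]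
    have : ∀ k : F, k ≠ 0 → k⁻¹ * k⁻¹ * k ^ 2 = 1 := fun k hk => by field_simp
    rw [this _ hk, one_smul]
  constructor
  · apply Units.ext
    rw [Units.val_mul, h1, H960.P0_P0, Units.val_one]
  · intro h
    rw [h, Units.val_one] at h1
    have := congrFun (congrFun h1 1) 1
    simp [P0] at this

/-- the relations for the hard cell -/
theorem rels : x * x * x ∈ scalars (Fin 3) F ∧ y * y * y ∈ scalars (Fin 3) F ∧
    x * y * (y * x)⁻¹ ∈ scalars (Fin 3) F ∧ s * x * s⁻¹ * y⁻¹ ∈ scalars (Fin 3) F ∧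
    s * y * s⁻¹ * x ∈ scalars (Fin 3) F ∧ t * x * t⁻¹ * (x * y)⁻¹ ∈ scalars (Fin 3) F ∧
    t * y * t⁻¹ * (x * y⁻¹)⁻¹ ∈ scalars (Fin 3) F := by
  obtain ⟨z, hz, hzs, -, h1, -, h2⟩ := H.exists_z
  have e : y⁻¹ = y * y := inv_eq_of_mul_eq_one_left (by rw [H.y_cube])
  refine ⟨by rw [H.x_cube]; exact (scalars (Fin 3) F).one_mem, by rw [H.y_cube]; exact (scalars (Fin 3) F).one_mem,
    ?_, ?_, ?_, ?_, ?_⟩
  · rw [h1, mul_inv_cancel_right]; exact hzs
  · rw [H.sx]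
    have : y * s * s⁻¹ * y⁻¹ = 1 := by group
    rw [this]; exact (scalars (Fin 3) F).one_mem
  · rw [H.sy, mul_inv_cancel_right, H.x_cube]; exact (scalars (Fin 3) F).one_mem
  · rw [h2, mul_inv_cancel_right, mul_inv_cancel_right]
    exact (scalars (Fin 3) F).mul_mem hzs hzs
  · rw [H.ty, mul_inv_cancel_right, e, ← mul_assoc, mul_inv_cancel]
    exact (scalars (Fin 3) F).one_mem

end Four

end Cfsg.Agent.H895.SLT
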