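import Cfsg.Agent.StdAlt.Six.Act

/-!
# Automorphisms of `A_6` of the third kind fuse the classes of elements of order five (helper895)
-/

set_option autoImplicit false

namespace Cfsg.Agent.H895.SLT

open Equiv Equiv.Perm Cfsg.Agent.StdAlt.Six

/-- `(3 4 5)` -/
def e0 : Perm (Fin 6) := swap 3 4 * swap 4 5
/-- `(0 3)(1 4)(2 5)` -/
def τ0 : Perm (Fin 6) := swap 0 3 * swap 1 4 * swap 2 5
/-- `(1 3 4 5 2)` -/
def g1 : Perm (Fin 6) := swap 1 3 * swap 3 4 * swap 4 5 * swap 5 2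
/-- `(1 2 3 5 4)` -/
def g2 : Perm (Fin 6) := swap 1 2 * swap 2 3 * swap 3 5 * swap 5 4

theorem cent_t0_three : ∀ σ : Perm (Fin 6), σ * t0 = t0 * σ → mv σ = 3 →
    σ = c0 ∨ σ = c0⁻¹ ∨ σ = e0 ∨ σ = e0⁻¹ := by
  decide +kernel

theorem cent_t0_six : ∀ σ : Perm (Fin 6), σ * t0 = t0 * σ → σ * σ * σ = 1 → mv σ ≠ 3 → σ ≠ 1 →
    σ ≠ t0 → σ ≠ t0⁻¹ → mv (t0 * σ) = 3 := by
  decide +kernel

theorem cent_c0_three : ∀ σ : Perm (Fin 6), σ * c0 = c0 * σ → mv σ = 3 →
    σ ≠ c0 → σ ≠ c0⁻¹ → mv (c0 * σ) ≠ 3 := by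
  decide +kernel

theorem key1 : ∀ σ : Perm (Fin 6), Perm.sign σ = 1 → σ ^ 5 = 1 → σ ≠ 1 →
    t0 * σ * c0⁻¹ * σ * (t0 * σ * c0⁻¹ * σ) = 1 →
    ∃ w : Perm (Fin 6), Perm.sign w = 1 ∧ w * (g1 * g1) = σ * w := by
  decide +kernel

theorem g12 : ∃ w : Perm (Fin 6), Perm.sign w = 1 ∧ w * (g2 * g2) = (g1 * g1) * w := by
  decide +kernel

theorem g1_data : Perm.sign g1 = 1 ∧ g1 ^ 5 = 1 ∧ g1 ≠ 1 ∧ c0 * g1 * t0 * g1 * (c0 * g1 * t0 * g1) = 1 := by
  decide +kernel

theorem g2_data : Perm.sign g2 = 1 ∧ g2 ^ 5 = 1 ∧ g2 ≠ 1 ∧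
    c0⁻¹ * g2 * t0⁻¹ * g2 * (c0⁻¹ * g2 * t0⁻¹ * g2) = 1 := by
  decide +kernel

theorem g1_inv : ∃ w : Perm (Fin 6), Perm.sign w = 1 ∧ w * g1 = g1⁻¹ * w := by decide +kernel
theorem g2_inv : ∃ w : Perm (Fin 6), Perm.sign w = 1 ∧ w * g2 = g2⁻¹ * w := by decide +kernel

theorem tau_data : τ0 * c0 = e0 * τ0 ∧ τ0 * e0 = c0 * τ0 ∧ τ0 * t0 = t0 * τ0 := by decide +kernel

theorem e0_mem : e0 ∈ alternatingGroup (Fin 6) := by rw [Equiv.Perm.mem_alternatingGroup]; decide +kernel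

/-- the automorphism maps an element of order five to a conjugate of its square -/
def Fus (α : MulAut A6) : Prop := ∃ g : A6, g ^ 5 = 1 ∧ g ≠ 1 ∧ (∃ w : A6, w * (g * g) * w⁻¹ = α g) ∧
  ∃ v : A6, v * g * v⁻¹ = g⁻¹

theorem Fus.of_conj {α θ : MulAut A6} (h : Fus (θ * α * θ⁻¹)) : Fus α := by
  obtain ⟨g, h5, h1, ⟨w, hw⟩, v, hv⟩ := h
  have hθ : ∀ x, θ (θ⁻¹ x) = x := fun x => θ.apply_symm_apply x
  have hθ' : ∀ x, θ⁻¹ (θ x) = x := fun x => θ.symm_apply_apply x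
  refine ⟨θ⁻¹ g, by rw [← map_pow, h5, map_one], fun h => h1 ?_, ⟨θ⁻¹ w, ?_⟩, θ⁻¹ v, ?_⟩
  · rw [← hθ g, h, map_one]
  · rw [MulAut.mul_apply, MulAut.mul_apply] at hw
    rw [← map_mul, ← map_mul, ← map_inv, ← map_mul, hw, hθ']
  · rw [← map_mul, ← map_inv, ← map_mul, hv, map_inv]

/-- the element `t0` of `A6` -/
def T0 : A6 := ⟨t0, t0_mem⟩
def E0 : A6 := ⟨e0, e0_mem⟩
def G1 : A6 := ⟨g1, Equiv.Perm.mem_alternatingGroup.2 g1_data.1⟩
def G2 : A6 := ⟨g2, Equiv.Perm.mem_alternatingGroup.2 g2_data.1⟩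

theorem fus_c0 {α : MulAut A6} (ha : α C0 = T0) (hb : α T0 = C0⁻¹) : Fus α := by
  have h1 : (α G1) ^ 5 = 1 := by
    rw [← map_pow, show G1 ^ 5 = 1 from Subtype.ext g1_data.2.1, map_one]
  have h2 : α G1 ≠ 1 := ne_map fun h => g1_data.2.2.1 (congrArg Subtype.val h)
  have h3 := congrArg α (show C0 * G1 * T0 * G1 * (C0 * G1 * T0 * G1) = 1 from Subtype.ext g1_data.2.2.2)
  simp only [map_mul, map_one, ha, hb] at h3
  obtain ⟨w, hw, hw'⟩ := key1 (α G1) (sign_val _) (congrArg Subtype.val h1)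
    (fun h => h2 (Subtype.ext h)) (congrArg Subtype.val h3)
  obtain ⟨v, hv, hv'⟩ := g1_inv
  refine ⟨G1, Subtype.ext g1_data.2.1, fun h => g1_data.2.2.1 (congrArg Subtype.val h),
    ⟨⟨w, Equiv.Perm.mem_alternatingGroup.2 hw⟩, Subtype.ext ?_⟩,
    ⟨v, Equiv.Perm.mem_alternatingGroup.2 hv⟩, Subtype.ext ?_⟩
  · show w * (g1 * g1) * w⁻¹ = _
    rw [hw']; group
  · show v * g1 * v⁻¹ = g1⁻¹
    rw [hv']; group

theorem fus_c0' {α : MulAut A6} (ha : α C0⁻¹ = T0) (hb : α T0 = C0) : Fus α := by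
  have h1 : (α G2) ^ 5 = 1 := by
    rw [← map_pow, show G2 ^ 5 = 1 from Subtype.ext g2_data.2.1, map_one]
  have h2 : α G2 ≠ 1 := ne_map fun h => g2_data.2.2.1 (congrArg Subtype.val h)
  have hb' : α T0⁻¹ = C0⁻¹ := by rw [map_inv, hb]
  have h3 := congrArg α
    (show C0⁻¹ * G2 * T0⁻¹ * G2 * (C0⁻¹ * G2 * T0⁻¹ * G2) = 1 from Subtype.ext g2_data.2.2.2)
  simp only [map_mul, map_one, ha, hb'] at h3
  obtain ⟨w, hw, hw'⟩ := key1 (α G2) (sign_val _) (congrArg Subtype.val h1)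
    (fun h => h2 (Subtype.ext h)) (congrArg Subtype.val h3)
  obtain ⟨u, hu, hu'⟩ := g12
  obtain ⟨v, hv, hv'⟩ := g2_inv
  refine ⟨G2, Subtype.ext g2_data.2.1, fun h => g2_data.2.2.1 (congrArg Subtype.val h),
    ⟨⟨w * u, Equiv.Perm.mem_alternatingGroup.2 (by rw [Perm.sign_mul, hw, hu]; rfl)⟩, Subtype.ext ?_⟩,
    ⟨v, Equiv.Perm.mem_alternatingGroup.2 hv⟩, Subtype.ext ?_⟩
  · show w * u * (g2 * g2) * (w * u)⁻¹ = _
    rw [mul_assoc w u, hu', ← mul_assoc, hw']; group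
  · show v * g2 * v⁻¹ = g2⁻¹
    rw [hv']; group

theorem fus_t0 {α : MulAut A6} {a : A6} (hc : a * T0 = T0 * a) (h3 : mv a = 3) (ha : α a = T0)
    (hb : α T0 = a⁻¹) : Fus α := by
  have hcon : ∀ x : A6, pc τ0 x * (pc τ0 x)⁻¹ = 1 := fun x => mul_inv_cancel _
  have hT : pc τ0 T0 = T0 := Subtype.ext (by
    rw [pc_apply]
    show τ0 * t0 * τ0⁻¹ = t0
    rw [tau_data.2.2]; group)
  have hE : pc τ0 E0 = C0 := Subtype.ext (by
    rw [pc_apply]
    show τ0 * e0 * τ0⁻¹ = c0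
    rw [tau_data.2.1]; group)
  have hT' : (pc τ0)⁻¹ T0 = T0 := by
    conv_lhs => rw [← hT]
    exact (pc τ0).symm_apply_apply T0
  have hE' : (pc τ0)⁻¹ C0 = E0 := by
    rw [← hE]
    exact (pc τ0).symm_apply_apply E0
  rcases cent_t0_three a (congrArg Subtype.val hc) h3 with h | h | h | h
  · have h' : a = C0 := Subtype.ext h
    subst h'
    exact fus_c0 ha hb
  · have h' : a = C0⁻¹ := Subtype.ext h
    subst h'
    exact fus_c0' ha (by rw [hb, inv_inv])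
  · have h' : a = E0 := Subtype.ext h
    subst h'
    apply Fus.of_conj (θ := pc τ0)
    apply fus_c0
    · rw [MulAut.mul_apply, MulAut.mul_apply, hE', ha, hT]
    · rw [MulAut.mul_apply, MulAut.mul_apply, hT', hb, map_inv, hE]
  · have h' : a = E0⁻¹ := Subtype.ext h
    subst h'
    apply Fus.of_conj (θ := pc τ0)
    apply fus_c0'
    · rw [MulAut.mul_apply, MulAut.mul_apply, map_inv, hE', ha, hT]
    · rw [MulAut.mul_apply, MulAut.mul_apply, hT', hb, inv_inv, hE]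

theorem exists_T0 {b : A6} (hb : b * b * b = 1) (hb1 : b ≠ 1) (hb3 : mv b ≠ 3) : ∃ w : A6, w * b * w⁻¹ = T0 :=
  conj_of_six hb hb1 hb3 (Subtype.ext (by decide +kernel : t0 * t0 * t0 = 1))
    (fun h => (by decide +kernel : t0 ≠ 1) (congrArg Subtype.val h)) (by
      show mv t0 ≠ 3
      decide +kernel)

/-- the main case -/
theorem fus_of {α : MulAut A6} {a b : A6} (hc : a * b = b * a) (h3 : mv a = 3) (hb : b * b * b = 1) (hb1 : b ≠ 1)
    (hb3 : mv b ≠ 3) (hab : α a = b) (hba : α b = a⁻¹) : Fus α := by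
  obtain ⟨w, hw⟩ := exists_T0 hb hb1 hb3
  apply Fus.of_conj (θ := MulAut.conj w)
  have hsymm : ∀ x, (MulAut.conj w)⁻¹ (w * x * w⁻¹) = x := fun x => by
    rw [← MulAut.conj_apply]; exact (MulAut.conj w).symm_apply_apply x
  apply fus_t0 (a := w * a * w⁻¹)
  · rw [← hw]
    calc w * a * w⁻¹ * (w * b * w⁻¹) = w * (a * b) * w⁻¹ := by group
      _ = w * (b * a) * w⁻¹ := by rw [hc]
      _ = _ := by group
  · rw [mv_conj']; exact h3
  · rw [MulAut.mul_apply, MulAut.mul_apply, hsymm, hab, MulAut.conj_apply, hw]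
  · rw [← hw, MulAut.mul_apply, MulAut.mul_apply, hsymm, hba, MulAut.conj_apply]
    group

/-- all cases -/
theorem fus_cases {α β : MulAut A6} {a b : A6} (hc : a * b = b * a) (ha : a * a * a = 1) (ha1 : a ≠ 1)
    (hb : b * b * b = 1) (hb1 : b ≠ 1) (hne : a ≠ b) (hne' : a ≠ b⁻¹)
    (hab : α a = b) (hba : α b = a⁻¹) (hβa : β a = a * b) (hβb : β b = a * b⁻¹) :
    Fus α ∨ Fus α⁻¹ ∨ Fus β ∨ Fus β⁻¹ := by
  have hi : ∀ γ : MulAut A6, ∀ x, γ⁻¹ (γ x) = x := fun γ x => γ.symm_apply_apply x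
  have haa : a * a = a⁻¹ := by rw [eq_inv_iff_mul_eq_one, ha]
  have hβab : β (a * b) = a⁻¹ := by
    rw [map_mul, hβa, hβb, ← haa]
    calc a * b * (a * b⁻¹) = a * (b * a) * b⁻¹ := by group
      _ = a * (a * b) * b⁻¹ := by rw [hc]
      _ = a * a := by group
  have hcab : a * (a * b) = a * b * a := by rw [mul_assoc, hc]
  have hab3 : a * b * (a * b) * (a * b) = 1 := by
    have h1 : a * b * (a * b) * (a * b) = (a * a * a) * (b * b * b) := by
      have hcomm : Commute a b := hc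
      have h2 := hcomm.mul_pow 3
      simpa [pow_succ] using h2
    rw [h1, ha, hb, one_mul]
  have hab1 : a * b ≠ 1 := fun h => hne' (eq_inv_of_mul_eq_one_left h)
  by_cases h3 : mv a = 3
  · by_cases h3' : mv b = 3
    · -- both three-cycles
      have h4 : mv (a * b : A6) ≠ 3 := by
        have hcy : ∀ x : A6, mv x = 3 → ∃ w : A6, w * x * w⁻¹ = C0 := by
          intro x hx
          obtain ⟨w, hw⟩ := isConj_iff.1 (alternatingGroup.isThreeCycle_isConj (by simp)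
            ((three_iff _).1 hx) ((three_iff _).1 mv_c0 : ((C0 : A6) : Perm (Fin 6)).IsThreeCycle))
          exact ⟨w, hw⟩
        obtain ⟨w, hw⟩ := hcy a h3
        rw [← mv_conj' w (a * b)]
        have e : w * (a * b) * w⁻¹ = C0 * (w * b * w⁻¹) := by rw [← hw]; group
        rw [e]
        apply cent_c0_three (w * b * w⁻¹ : A6)
        · have : w * b * w⁻¹ * C0 = C0 * (w * b * w⁻¹) := by
            rw [← hw]
            calc w * b * w⁻¹ * (w * a * w⁻¹) = w * (b * a) * w⁻¹ := by group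
              _ = w * (a * b) * w⁻¹ := by rw [hc]
              _ = _ := by group
          exact congrArg Subtype.val this
        · rw [mv_conj']; exact h3'
        · intro h
          have h5 : w * b * w⁻¹ = C0 := Subtype.ext h
          rw [← hw] at h5
          exact hne (mul_left_cancel (mul_right_cancel h5)).symm
        · intro h
          have h5 : w * b * w⁻¹ = C0⁻¹ := Subtype.ext h
          rw [← hw] at h5
          apply hne'
          have h6 : w * b * w⁻¹ = w * a⁻¹ * w⁻¹ := by rw [h5]; group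
          rw [mul_left_cancel (mul_right_cancel h6), inv_inv]
      exact Or.inr (Or.inr (Or.inl (fus_of hcab h3 hab3 hab1 h4 hβa hβab)))
    · exact Or.inl (fus_of hc h3 hb hb1 h3' hab hba)
  · by_cases h3' : mv b = 3
    · refine Or.inr (Or.inl (fus_of hc.symm h3' ha ha1 h3 ?_ ?_))
      · rw [← hab, hi]
      · have : a = α b⁻¹ := by rw [map_inv, hba, inv_inv]
        rw [this, hi]
    · have h4 : mv (a * b : A6) = 3 := by
        obtain ⟨w, hw⟩ := exists_T0 ha ha1 h3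
        rw [← mv_conj' w (a * b)]
        have e : w * (a * b) * w⁻¹ = T0 * (w * b * w⁻¹) := by rw [← hw]; group
        rw [e]
        apply cent_t0_six (w * b * w⁻¹ : A6)
        · have : w * b * w⁻¹ * T0 = T0 * (w * b * w⁻¹) := by
            rw [← hw]
            calc w * b * w⁻¹ * (w * a * w⁻¹) = w * (b * a) * w⁻¹ := by group
              _ = w * (a * b) * w⁻¹ := by rw [hc]
              _ = _ := by group
          exact congrArg Subtype.val this
        · have : (w * b * w⁻¹) * (w * b * w⁻¹) * (w * b * w⁻¹) = 1 := by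
            have e : (w * b * w⁻¹) * (w * b * w⁻¹) * (w * b * w⁻¹) = w * (b * b * b) * w⁻¹ := by group
            rw [e, hb]; group
          exact congrArg Subtype.val this
        · rw [mv_conj']; exact h3'
        · intro h
          have h5 : w * b * w⁻¹ = 1 := Subtype.ext h
          exact hb1 (conj_eq_one_iff.1 h5)
        · intro h
          have h5 : w * b * w⁻¹ = T0 := Subtype.ext h
          rw [← hw] at h5
          exact hne (mul_left_cancel (mul_right_cancel h5)).symm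
        · intro h
          have h5 : w * b * w⁻¹ = T0⁻¹ := Subtype.ext h
          rw [← hw] at h5
          apply hne'
          have h6 : w * b * w⁻¹ = w * a⁻¹ * w⁻¹ := by rw [h5]; group
          rw [mul_left_cancel (mul_right_cancel h6), inv_inv]
      refine Or.inr (Or.inr (Or.inr (fus_of hcab.symm h4 ha ha1 h3 ?_ ?_)))
      · rw [← hβa, hi]
      · have : a = β (a * b)⁻¹ := by rw [map_inv, hβab, inv_inv]
        calc β⁻¹ a = β⁻¹ (β (a * b)⁻¹) := by rw [← this]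
          _ = _ := hi _ _

end Cfsg.Agent.H895.SLT
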