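import Cfsg.Agent.H895.SLT.ResCard
import Cfsg.Agent.H895.SLT.Fus
import Cfsg.Agent.H895.SLT.Base

/-!
# The normaliser of an extraspecial group of order 27 in no residual subgroup with `A_6` (helper895)
-/

set_option autoImplicit false

namespace Cfsg.Agent.H895.SLT

open Cfsg Cfsg.Geo Cfsg.Agent.StdAlt.Six
open scoped MatrixGroups Matrix

variable {F : Type*} [Field F] {M P : Subgroup (GL (Fin 3) F)}

/-- the action on `A_6` -/
noncomputable def pa (hc : IsResidualCore M P) (e : (P ⧸ ZP P) ≃* A6) : M →* MulAut A6 :=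
  (MulAut.congr e).toMonoidHom.comp (act hc)

theorem pa_apply (hc : IsResidualCore M P) (e : (P ⧸ ZP P) ≃* A6) (m : M) (x : P) :
    pa hc e m (e (QuotientGroup.mk x)) = e (QuotientGroup.mk (cjP hc m x)) := by
  show e (act hc m (e.symm (e (QuotientGroup.mk x)))) = _
  rw [MulEquiv.symm_apply_apply, act_mk]

theorem pa_scalar (hc : IsResidualCore M P) (e : (P ⧸ ZP P) ≃* A6) {m : M}
    (hm : (m : GL (Fin 3) F) ∈ scalars (Fin 3) F) : pa hc e m = 1 := by
  ext z : 1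
  obtain ⟨w, rfl⟩ := e.surjective z
  obtain ⟨x, rfl⟩ := QuotientGroup.mk_surjective w
  rw [pa_apply, MulAut.one_apply]
  have h1 : cjP hc m x = x := Subtype.ext (by
    rw [cjP_val, scalar_comm hm, mul_inv_cancel_right])
  rw [h1]

theorem scalar_of_pa (hc : IsResidualCore M P) (e : (P ⧸ ZP P) ≃* A6) {m : M} (hm : pa hc e m = 1) :
    (m : GL (Fin 3) F) ∈ scalars (Fin 3) F := by
  apply ker_act hc
  have h1 : MulAut.congr e (act hc m) = 1 := hm
  exact (MulAut.congr e).injective (by rw [h1, map_one])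

theorem pa_of_mem (hc : IsResidualCore M P) (e : (P ⧸ ZP P) ≃* A6) (p : P) :
    pa hc e ⟨p, hc.le p.2⟩ = MulAut.conj (e (QuotientGroup.mk p)) := by
  ext z : 1
  obtain ⟨w, rfl⟩ := e.surjective z
  obtain ⟨x, rfl⟩ := QuotientGroup.mk_surjective w
  rw [pa_apply, MulAut.conj_apply, ← map_mul, ← map_inv, ← map_mul]
  rfl

theorem inner_of_cube {α : MulAut A6} (h : α * α * α = 1) : ∃ a : A6, α = MulAut.conj a := by
  obtain ⟨σ, hσ⟩ := ns_iff.1 (ns_sq α)
  have hs : Equiv.Perm.sign (σ * σ) = 1 := by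
    rw [Equiv.Perm.sign_mul]
    rcases Int.units_eq_one_or (Equiv.Perm.sign σ) with h | h <;> rw [h] <;> rfl
  refine ⟨⟨σ * σ, Equiv.Perm.mem_alternatingGroup.2 hs⟩, ?_⟩
  rw [← pc_val]
  show α = pc (σ * σ)
  rw [map_mul, ← hσ]
  calc α = α * α * α * α := by rw [h, one_mul]
    _ = α * α * (α * α) := by group

theorem conj_map (α : MulAut A6) (a : A6) : α * MulAut.conj a * α⁻¹ = MulAut.conj (α a) := by
  ext x : 1
  rw [MulAut.mul_apply, MulAut.mul_apply, MulAut.conj_apply, MulAut.conj_apply, map_mul, map_mul, map_inv]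
  congr 2
  exact α.apply_symm_apply x

theorem five_prime : ¬ (3 : ℕ) ∣ 5 := by norm_num

/-- a scalar of order dividing five and three is trivial -/
theorem scalar_five {z : GL (Fin 3) F} (hz : z ∈ scalars (Fin 3) F) (hS : z ∈ S3 F) (h5 : z ^ 5 = 1) : z = 1 := by
  obtain ⟨c, hc⟩ := (mem_scalars_iff _).1 hz
  have h3 : z ^ 3 = 1 := by
    have h1 := det_eq_one hS
    rw [hc, Matrix.det_smul, Matrix.det_one, mul_one, Fintype.card_fin] at h1
    apply Units.ext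
    rw [Units.val_pow_eq_pow_val, hc, smul_pow, h1, one_pow, one_smul, Units.val_one]
  calc z = (z ^ 3) ^ 2 * (z ^ 5)⁻¹ := by group
    _ = 1 := by rw [h3, h5]; group

/-- fusion of the classes of elements of order five gives characteristic five -/
theorem five_of_fus (hc : IsResidualCore M P) (hM : M ≤ S3 F) (e : (P ⧸ ZP P) ≃* A6) {m : M}
    (hf : Fus (pa hc e m)) : (5 : F) = 0 := by
  obtain ⟨g, h5, h1, ⟨w, hw⟩, v, hv⟩ := hf
  have hlift : ∀ x : A6, ∃ p : P, e (QuotientGroup.mk p) = x := by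
    intro x
    obtain ⟨y, rfl⟩ := e.surjective x
    obtain ⟨p, rfl⟩ := QuotientGroup.mk_surjective y
    exact ⟨p, rfl⟩
  obtain ⟨p0, hp0⟩ := hlift g
  obtain ⟨W, hW⟩ := hlift w
  obtain ⟨V, hV⟩ := hlift v
  have heq : ∀ p p' : P, e (QuotientGroup.mk p) = e (QuotientGroup.mk p') →
      ((p : GL (Fin 3) F))⁻¹ * p' ∈ scalars (Fin 3) F := by
    intro p p' h
    have h2 := e.injective h
    rw [QuotientGroup.eq] at h2
    exact h2
  have hPS : ∀ p : P, (p : GL (Fin 3) F) ∈ S3 F := fun p => hM (hc.le p.2)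
  -- the element of order five
  set p : P := p0 ^ 6 with hp
  have hpg : e (QuotientGroup.mk p) = g := by
    have h2 : (QuotientGroup.mk p : P ⧸ ZP P) = QuotientGroup.mk p0 ^ 6 := rfl
    rw [h2, map_pow, hp0]
    calc g ^ 6 = g ^ 5 * g := pow_succ g 5
      _ = g := by rw [h5, one_mul]
  have hp5 : (p : GL (Fin 3) F) ^ 5 = 1 := by
    have h2 : e (QuotientGroup.mk (p0 ^ 5)) = e (QuotientGroup.mk 1) := by
      have h3 : (QuotientGroup.mk (p0 ^ 5) : P ⧸ ZP P) = QuotientGroup.mk p0 ^ 5 := rfl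
      have h4 : (QuotientGroup.mk 1 : P ⧸ ZP P) = 1 := rfl
      rw [h3, map_pow, hp0, h5, h4, map_one]
    have h3 := (scalars (Fin 3) F).inv_mem (heq _ _ h2)
    obtain ⟨z, hz⟩ : ∃ z : GL (Fin 3) F, z = (p0 : GL (Fin 3) F) ^ 5 := ⟨_, rfl⟩
    have hzs : z ∈ scalars (Fin 3) F := by
      rw [hz]
      simpa using h3
    obtain ⟨c, hc'⟩ := (mem_scalars_iff _).1 hzs
    have hz3 : z ^ 3 = 1 := by
      have h1 := det_eq_one (show z ∈ S3 F by rw [hz]; exact (S3 F).pow_mem (hPS p0) 5)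
      rw [hc', Matrix.det_smul, Matrix.det_one, mul_one, Fintype.card_fin] at h1
      apply Units.ext
      rw [Units.val_pow_eq_pow_val, hc', smul_pow, h1, one_pow, one_smul, Units.val_one]
    calc (p : GL (Fin 3) F) ^ 5 = (((p0 : GL (Fin 3) F) ^ 5) ^ 3) ^ 2 := by
          rw [hp, Subgroup.coe_pow]; group
      _ = 1 := by rw [← hz, hz3, one_pow]
  have hp1 : (p : GL (Fin 3) F) ≠ 1 := by
    intro h
    apply h1
    have h2 : p = 1 := Subtype.ext h
    have h4 : (QuotientGroup.mk (1 : P) : P ⧸ ZP P) = 1 := rfl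
    rw [← hpg, h2, h4, map_one]
  -- comparing
  have hcmp : ∀ a b : P, e (QuotientGroup.mk a) = e (QuotientGroup.mk b) → (a : GL (Fin 3) F) ^ 5 = 1 →
      (b : GL (Fin 3) F) ^ 5 = 1 → (a : GL (Fin 3) F) = b := by
    intro a b hab ha hb
    have h2 := heq a b hab
    obtain ⟨z, hz⟩ : ∃ z : GL (Fin 3) F, z = (a : GL (Fin 3) F)⁻¹ * b := ⟨_, rfl⟩
    rw [← hz] at h2
    have hzS : z ∈ S3 F := by rw [hz]; exact (S3 F).mul_mem ((S3 F).inv_mem (hPS a)) (hPS b)
    have hb' : (b : GL (Fin 3) F) = a * z := by rw [hz]; group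
    have h6 : z ^ 5 = 1 := by
      have hcm : Commute (a : GL (Fin 3) F) z := (scalar_comm h2 _).symm
      rw [hb', hcm.mul_pow, ha, one_mul] at hb
      exact hb
    rw [hb', scalar_five h2 hzS h6, mul_one]
  have hconj5 : ∀ x y : GL (Fin 3) F, y ^ 5 = 1 → (x * y * x⁻¹) ^ 5 = 1 := by
    intro x y h
    rw [conj_pow, h, mul_one, mul_inv_cancel]
  have hA : (cjP hc m p : P) = (W * (p * p) * W⁻¹ : P) := by
    apply Subtype.ext
    apply hcmp
    · rw [← pa_apply, hpg, ← hw]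
      have h4 : (QuotientGroup.mk (W * (p * p) * W⁻¹) : P ⧸ ZP P) =
          QuotientGroup.mk W * (QuotientGroup.mk p * QuotientGroup.mk p) * (QuotientGroup.mk W)⁻¹ := rfl
      rw [h4, map_mul, map_mul, map_mul, map_inv, hW, hpg]
    · exact hconj5 _ _ hp5
    · refine hconj5 _ _ ?_
      have hcm : Commute (p : GL (Fin 3) F) p := rfl
      show ((p : GL (Fin 3) F) * p) ^ 5 = 1
      rw [hcm.mul_pow, hp5, one_mul]
  have hB : (p⁻¹ : P) = (V * p * V⁻¹ : P) := by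
    apply Subtype.ext
    apply hcmp
    · have h4 : (QuotientGroup.mk (V * p * V⁻¹) : P ⧸ ZP P) =
          QuotientGroup.mk V * QuotientGroup.mk p * (QuotientGroup.mk V)⁻¹ := rfl
      have h5 : (QuotientGroup.mk (p⁻¹) : P ⧸ ZP P) = (QuotientGroup.mk p)⁻¹ := rfl
      rw [h4, h5, map_mul, map_mul, map_inv, map_inv, hV, hpg, hv]
    · show ((p : GL (Fin 3) F)⁻¹) ^ 5 = 1
      rw [inv_pow, hp5, inv_one]
    · exact hconj5 _ _ hp5
  have hA' : (m : GL (Fin 3) F) * p * (m : GL (Fin 3) F)⁻¹ = W * ((p : GL (Fin 3) F) * p) * (W : GL (Fin 3) F)⁻¹ :=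
    congrArg Subtype.val hA
  have hB' : (p : GL (Fin 3) F)⁻¹ = V * (p : GL (Fin 3) F) * (V : GL (Fin 3) F)⁻¹ := congrArg Subtype.val hB
  apply five_eq_zero (hPS p) hp5 hp1
  · rw [hB', tr_conj]
  · rw [← tr_conj (W : GL (Fin 3) F), ← hA', tr_conj]

/-- **The hard cell.** -/
theorem false_of_core (hc : IsResidualCore M P) (hM : M ≤ S3 F) (e : (P ⧸ ZP P) ≃* A6) (h5 : (5 : F) ≠ 0)
    {x y s t : GL (Fin 3) F} (hx : x ∈ M) (hy : y ∈ M) (hs : s ∈ M) (ht : t ∈ M)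
    (hx3 : x * x * x ∈ scalars (Fin 3) F) (hy3 : y * y * y ∈ scalars (Fin 3) F)
    (hxy : x * y * (y * x)⁻¹ ∈ scalars (Fin 3) F)
    (hsx : s * x * s⁻¹ * y⁻¹ ∈ scalars (Fin 3) F) (hsy : s * y * s⁻¹ * x ∈ scalars (Fin 3) F)
    (htx : t * x * t⁻¹ * (x * y)⁻¹ ∈ scalars (Fin 3) F) (hty : t * y * t⁻¹ * (x * y⁻¹)⁻¹ ∈ scalars (Fin 3) F)
    (nx : x ∉ scalars (Fin 3) F) (ny : y ∉ scalars (Fin 3) F) (nxy : x * y⁻¹ ∉ scalars (Fin 3) F)
    (nxy' : x * y ∉ scalars (Fin 3) F) : False := by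
  obtain ⟨X, hX⟩ : ∃ X : M, X = ⟨x, hx⟩ := ⟨_, rfl⟩
  obtain ⟨Y, hY⟩ : ∃ Y : M, Y = ⟨y, hy⟩ := ⟨_, rfl⟩
  obtain ⟨s', hs'⟩ : ∃ s' : M, s' = ⟨s, hs⟩ := ⟨_, rfl⟩
  obtain ⟨t', ht'⟩ : ∃ t' : M, t' = ⟨t, ht⟩ := ⟨_, rfl⟩
  have vX : (X : GL (Fin 3) F) = x := by rw [hX]
  have vY : (Y : GL (Fin 3) F) = y := by rw [hY]
  have vs : (s' : GL (Fin 3) F) = s := by rw [hs']
  have vt : (t' : GL (Fin 3) F) = t := by rw [ht']
  have k1 : pa hc e (X * X * X) = 1 := pa_scalar hc e (by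
    simpa only [Subgroup.coe_mul, vX] using hx3)
  have k2 : pa hc e (Y * Y * Y) = 1 := pa_scalar hc e (by
    simpa only [Subgroup.coe_mul, vY] using hy3)
  have k3 : pa hc e (X * Y * (Y * X)⁻¹) = 1 := pa_scalar hc e (by
    simpa only [Subgroup.coe_mul, Subgroup.coe_inv, vX, vY] using hxy)
  have k4 : pa hc e (s' * X * s'⁻¹ * Y⁻¹) = 1 := pa_scalar hc e (by
    simpa only [Subgroup.coe_mul, Subgroup.coe_inv, vX, vY, vs] using hsx)
  have k5 : pa hc e (s' * Y * s'⁻¹ * X) = 1 := pa_scalar hc e (by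
    simpa only [Subgroup.coe_mul, Subgroup.coe_inv, vX, vY, vs] using hsy)
  have k6 : pa hc e (t' * X * t'⁻¹ * (X * Y)⁻¹) = 1 := pa_scalar hc e (by
    simpa only [Subgroup.coe_mul, Subgroup.coe_inv, vX, vY, vt] using htx)
  have k7 : pa hc e (t' * Y * t'⁻¹ * (X * Y⁻¹)⁻¹) = 1 := pa_scalar hc e (by
    simpa only [Subgroup.coe_mul, Subgroup.coe_inv, vX, vY, vt] using hty)
  rw [map_mul, map_mul] at k1 k2
  obtain ⟨a, ha⟩ := inner_of_cube k1
  obtain ⟨b, hb⟩ := inner_of_cube k2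
  rw [map_mul, map_mul, map_inv, map_mul, mul_inv_eq_one] at k3
  rw [map_mul, map_mul, map_mul, map_inv, map_inv, mul_inv_eq_one, ha, hb, conj_map] at k4
  rw [map_mul, map_mul, map_mul, map_inv, ha, hb, conj_map, mul_eq_one_iff_eq_inv, ← map_inv] at k5
  rw [map_mul, map_mul, map_mul, map_inv, map_inv, map_mul, mul_inv_eq_one, ha, hb, conj_map, ← map_mul] at k6
  rw [map_mul, map_mul, map_mul, map_inv, map_inv, map_mul, map_inv, mul_inv_eq_one, ha, hb, conj_map,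
    ← map_inv, ← map_mul] at k7
  have hne : ∀ {m : M} {c : A6}, pa hc e m = MulAut.conj c → (m : GL (Fin 3) F) ∉ scalars (Fin 3) F → c ≠ 1 := by
    rintro m c h1 h2 rfl
    apply h2
    apply scalar_of_pa hc e
    rw [h1, map_one]
  have hcase := fus_cases (α := pa hc e s') (β := pa hc e t') (a := a) (b := b) ?_ ?_ ?_ ?_ ?_ ?_ ?_ ?_ ?_ ?_ ?_
  · rcases hcase with h | h | h | h
    · exact h5 (five_of_fus hc hM e h)
    · exact h5 (five_of_fus hc hM e (m := s'⁻¹) (by rw [map_inv]; exact h))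
    · exact h5 (five_of_fus hc hM e h)
    · exact h5 (five_of_fus hc hM e (m := t'⁻¹) (by rw [map_inv]; exact h))
  · apply conj_inj
    rw [map_mul, map_mul, ← ha, ← hb, k3]
  · apply conj_inj
    rw [map_mul, map_mul, ← ha, k1, map_one]
  · exact hne ha (by rw [vX]; exact nx)
  · apply conj_inj
    rw [map_mul, map_mul, ← hb, k2, map_one]
  · exact hne hb (by rw [vY]; exact ny)
  · intro h
    apply nxy
    have h1 : pa hc e (X * Y⁻¹) = 1 := by rw [map_mul, map_inv, ha, hb, h, mul_inv_cancel]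
    have := scalar_of_pa hc e h1
    simpa only [Subgroup.coe_mul, Subgroup.coe_inv, vX, vY] using this
  · intro h
    apply nxy'
    have h1 : pa hc e (X * Y) = 1 := by rw [map_mul, ha, hb, h, map_inv, inv_mul_cancel]
    have := scalar_of_pa hc e h1
    simpa only [Subgroup.coe_mul, vX, vY] using this
  · exact conj_inj k4
  · exact conj_inj k5
  · exact conj_inj k6
  · exact conj_inj k7

end Cfsg.Agent.H895.SLT
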