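import Cfsg.Agent.H895.SLT.Four
import Cfsg.Agent.H895.SLT.Dec
import Cfsg.Agent.H895.SLT.Field
import Cfsg.Agent.H895.SLT.Form
import Cfsg.Agent.H895.SLT.Sub
import Cfsg.Agent.H895.SLT.Hard

/-!
# The normaliser of the group of order 27 in `SL_3`: groups not containing it (helper895)
-/

set_option autoImplicit false
set_option linter.unusedSimpArgs false

namespace Cfsg.Agent.H895.SLT

open Cfsg Cfsg.Geo
open scoped MatrixGroups Matrix
open Cfsg.Agent.H960 (A0 C0 T0 P0 A0_eq A0_C0 omega_ne)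

variable {F : Type*} [Field F] {ω : F}

/-- elements fixing the three lines commute -/
theorem ker_comm {D : Fin 3 → Submodule F (Fin 3 → F)} (hD : IsMDecomposition 1 D)
    {g h : decompositionStabilizer D} (hg : permHom hD g = 1) (hh : permHom hD h = 1) :
    (g : GL (Fin 3) F) * h = h * g := by
  set G := ((g : GL (Fin 3) F) : Matrix (Fin 3) (Fin 3) F) with hG
  set K := ((h : GL (Fin 3) F) : Matrix (Fin 3) (Fin 3) F) with hK
  have hle : (⊤ : Submodule F (Fin 3 → F)) ≤ LinearMap.ker (Matrix.toLin' (G * K - K * G)) := by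
    rw [← hD.iSup_eq_top]
    refine iSup_le fun i => ?_
    obtain ⟨v, hv, hvD, c, hc⟩ := eig_of_ker hD hg i
    obtain ⟨w, hw, hwD, d, hd⟩ := eig_of_ker hD hh i
    have hd' : K *ᵥ v = d • v := by
      have h1 : v ∈ F ∙ w := by rw [← hwD, hvD]; exact Submodule.mem_span_singleton_self v
      obtain ⟨e, he⟩ := Submodule.mem_span_singleton.1 h1
      rw [← he, Matrix.mulVec_smul, hd, smul_comm]
    rw [hvD, Submodule.span_singleton_le_iff_mem, LinearMap.mem_ker, Matrix.toLin'_apply, Matrix.sub_mulVec,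
      ← Matrix.mulVec_mulVec, ← Matrix.mulVec_mulVec, hd', hc, Matrix.mulVec_smul, Matrix.mulVec_smul, hc, hd',
      smul_comm, sub_self]
  apply Units.ext
  rw [Units.val_mul, Units.val_mul, ← sub_eq_zero]
  apply Matrix.toLin'.injective
  rw [map_zero]
  exact LinearMap.ker_eq_top.1 (top_le_iff.1 hle)

theorem proj_key (hω : ω * ω + ω + 1 = 0) (p q r : F) (i : Fin 3) :
    ∃ a b : F, (![p, q, r] : Fin 3 → F) + a • ![p, ω * q, ω * ω * r] +
        b • ![p, ω * (ω * q), ω * ω * (ω * ω * r)] =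
          (3 * (![p, q, r] : Fin 3 → F) i) • (Pi.single i 1 : Fin 3 → F) := by
  fin_cases i
  · refine ⟨1, 1, ?_⟩
    ext k
    fin_cases k <;> simp <;> grind
  · refine ⟨ω * ω, ω, ?_⟩
    ext k
    fin_cases k <;> simp <;> grind
  · refine ⟨ω, ω * ω, ?_⟩
    ext k
    fin_cases k <;> simp <;> grind

theorem perm_three : ∀ a b : Equiv.Perm (Fin 3), a * a * a = 1 → b * b * b = 1 →
    a = 1 ∨ b = 1 ∨ a * b = 1 ∨ a * b⁻¹ = 1 := by
  decide

namespace Four

variable {x y s t : GL (Fin 3) F} (H : Four ω x y s t)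
include H

theorem x_val : (x : Matrix (Fin 3) (Fin 3) F) = !![1, 0, 0; 0, ω, 0; 0, 0, ω * ω] := by rw [H.xe, A0_eq]

theorem x_mulVec (v : Fin 3 → F) : (x : Matrix (Fin 3) (Fin 3) F) *ᵥ v = ![v 0, ω * v 1, ω * ω * v 2] := by
  rw [H.x_val]
  ext k
  fin_cases k <;> simp [Matrix.mulVec, dotProduct, Fin.sum_univ_three, Matrix.vecHead, Matrix.vecTail]

theorem irr {K : Subgroup (GL (Fin 3) F)} (hx : x ∈ K) (hy : y ∈ K) : ActsIrreducibly (matrixSet K) := by
  have hω := H.hω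
  apply irr_of
  · intro W hW h0
    obtain ⟨v, hv, hv0⟩ := Submodule.exists_mem_ne_zero_of_ne_bot h0
    obtain ⟨i, hi⟩ : ∃ i, v i ≠ 0 := by
      by_contra hcon
      push Not at hcon
      exact hv0 (funext hcon)
    refine ⟨i, ?_⟩
    have h1 : (x : Matrix (Fin 3) (Fin 3) F) *ᵥ v ∈ W := hW _ ⟨x, hx, rfl⟩ v hv
    have h2 : (x : Matrix (Fin 3) (Fin 3) F) *ᵥ ((x : Matrix (Fin 3) (Fin 3) F) *ᵥ v) ∈ W := hW _ ⟨x, hx, rfl⟩ _ h1
    have key : ∃ a b : F, v + a • ((x : Matrix (Fin 3) (Fin 3) F) *ᵥ v) +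
        b • ((x : Matrix (Fin 3) (Fin 3) F) *ᵥ ((x : Matrix (Fin 3) (Fin 3) F) *ᵥ v)) =
          (3 * v i) • (Pi.single i 1 : Fin 3 → F) := by
      obtain ⟨a, b, hab⟩ := proj_key hω (v 0) (v 1) (v 2) i
      have hv3 : (![v 0, v 1, v 2] : Fin 3 → F) = v := by ext k; fin_cases k <;> rfl
      rw [hv3] at hab
      refine ⟨a, b, ?_⟩
      rw [H.x_mulVec, H.x_mulVec]
      exact hab
    obtain ⟨a, b, hab⟩ := key
    have h3 : (3 * v i) • (Pi.single i 1 : Fin 3 → F) ∈ W := by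
      rw [← hab]
      exact W.add_mem (W.add_mem hv (W.smul_mem _ h1)) (W.smul_mem _ h2)
    have h4 := W.smul_mem (3 * v i)⁻¹ h3
    rwa [smul_smul, inv_mul_cancel₀ (mul_ne_zero H.h3 hi), one_smul] at h4
  · intro W hW hex
    have hstep : ∀ v ∈ W, (![v 2, v 0, v 1] : Fin 3 → F) ∈ W := by
      intro v hv
      have this : (y : Matrix (Fin 3) (Fin 3) F) *ᵥ v ∈ W := hW _ ⟨y, hy, rfl⟩ v hv
      rwa [H.ye, H960.C0_mulVec] at this
    have e1 : (![(Pi.single 0 1 : Fin 3 → F) 2, (Pi.single 0 1 : Fin 3 → F) 0, (Pi.single 0 1 : Fin 3 → F) 1]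
        : Fin 3 → F) = Pi.single 1 1 := by
      ext k; fin_cases k <;> simp
    have e2 : (![(Pi.single 1 1 : Fin 3 → F) 2, (Pi.single 1 1 : Fin 3 → F) 0, (Pi.single 1 1 : Fin 3 → F) 1]
        : Fin 3 → F) = Pi.single 2 1 := by
      ext k; fin_cases k <;> simp
    have e3 : (![(Pi.single 2 1 : Fin 3 → F) 2, (Pi.single 2 1 : Fin 3 → F) 0, (Pi.single 2 1 : Fin 3 → F) 1]
        : Fin 3 → F) = Pi.single 0 1 := by
      ext k; fin_cases k <;> simp
    have k1 : Pi.single 0 1 ∈ W → (Pi.single 1 1 : Fin 3 → F) ∈ W := fun h => by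
      have := hstep _ h; rwa [e1] at this
    have k2 : Pi.single 1 1 ∈ W → (Pi.single 2 1 : Fin 3 → F) ∈ W := fun h => by
      have := hstep _ h; rwa [e2] at this
    have k3 : Pi.single 2 1 ∈ W → (Pi.single 0 1 : Fin 3 → F) ∈ W := fun h => by
      have := hstep _ h; rwa [e3] at this
    obtain ⟨i, hi⟩ := hex
    have h0 : (Pi.single 0 1 : Fin 3 → F) ∈ W := by
      fin_cases i
      · exact hi
      · exact k3 (k2 hi)
      · exact k3 hi
    intro j
    fin_cases j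
    · exact h0
    · exact k1 h0
    · exact k2 (k1 h0)

theorem ncomm : x * y ≠ y * x := by
  intro h
  obtain ⟨z, hz, -, -, h1, -, -⟩ := H.exists_z
  have h2 : z = 1 := by
    have := mul_right_cancel (b := y * x) (a := 1) (c := z) (by rw [one_mul, ← h1, h])
    exact this.symm
  have h3 := congrFun (congrFun (hz.symm.trans (by rw [h2, Units.val_one])) 0) 0
  rw [Matrix.smul_apply, Matrix.one_apply_eq, smul_eq_mul, mul_one] at h3
  exact (omega_ne H.h3 H.hω).1 h3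

theorem not_decomp {D : Fin 3 → Submodule F (Fin 3 → F)} (hD : IsMDecomposition 1 D)
    (hx : x ∈ decompositionStabilizer D) (hy : y ∈ decompositionStabilizer D) (hs : s ∈ decompositionStabilizer D) :
    False := by
  have hx3 := H.x_cube
  have hy3 := H.y_cube
  have hnc := H.ncomm
  have hsx := H.sx
  have hsy := H.sy
  have hker : ∀ r : GL (Fin 3) F, ∀ hr : r ∈ decompositionStabilizer D, permHom hD ⟨r, hr⟩ = 1 →
      r * (s * r * s⁻¹) = (s * r * s⁻¹) * r := by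
    intro r hr h1
    have h2 : permHom hD (⟨s, hs⟩ * ⟨r, hr⟩ * ⟨s, hs⟩⁻¹) = 1 := by
      rw [map_mul, map_mul, h1, mul_one, map_inv, mul_inv_cancel]
    exact ker_comm hD h1 h2
  have exi : x⁻¹ = x * x := inv_eq_of_mul_eq_one_left (by rw [hx3])
  have eyi : y⁻¹ = y * y := inv_eq_of_mul_eq_one_left (by rw [hy3])
  have sxs : s * x * s⁻¹ = y := by rw [hsx, mul_inv_cancel_right]
  have sys : s * y * s⁻¹ = x⁻¹ := by rw [hsy, mul_inv_cancel_right, exi]
  rcases perm_three (permHom hD ⟨x, hx⟩) (permHom hD ⟨y, hy⟩)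
      (by rw [← map_mul, ← map_mul]
          have : (⟨x, hx⟩ * ⟨x, hx⟩ * ⟨x, hx⟩ : decompositionStabilizer D) = 1 := Subtype.ext hx3
          rw [this, map_one])
      (by rw [← map_mul, ← map_mul]
          have : (⟨y, hy⟩ * ⟨y, hy⟩ * ⟨y, hy⟩ : decompositionStabilizer D) = 1 := Subtype.ext hy3
          rw [this, map_one]) with h | h | h | h
  · have h1 := hker x hx h
    rw [sxs] at h1
    exact hnc h1
  · have h1 := hker y hy h
    rw [sys] at h1
    apply hnc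
    -- y x⁻¹ = x⁻¹ y
    calc x * y = x * (y * x⁻¹) * x := by group
      _ = x * (x⁻¹ * y) * x := by rw [h1]
      _ = y * x := by group
  · rw [← map_mul] at h
    have h1 := hker (x * y) (Subgroup.mul_mem _ hx hy) h
    have e : s * (x * y) * s⁻¹ = y * x⁻¹ := by
      rw [← sys, ← sxs]; group
    rw [e] at h1
    -- x y y x⁻¹ = y x⁻¹ x y = y y
    apply hnc
    have h2 : x * y⁻¹ * x⁻¹ = y⁻¹ := by
      rw [eyi]
      calc x * (y * y) * x⁻¹ = x * y * (y * x⁻¹) := by group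
        _ = y * x⁻¹ * (x * y) := h1
        _ = y * y := by group
    calc x * y = (x * y⁻¹ * x⁻¹)⁻¹ * x := by group
      _ = y * x := by rw [h2, inv_inv]
  · rw [← map_inv, ← map_mul] at h
    have h1 := hker (x * y⁻¹) (Subgroup.mul_mem _ hx (Subgroup.inv_mem _ hy)) h
    have e : s * (x * y⁻¹) * s⁻¹ = y * x := by
      rw [show s * (x * y⁻¹) * s⁻¹ = (s * x * s⁻¹) * (s * y * s⁻¹)⁻¹ by group, sxs, sys, inv_inv]
    rw [e] at h1
    -- x y⁻¹ y x = x x; y x x y⁻¹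
    apply hnc
    have h2 : y * x⁻¹ * y⁻¹ = x⁻¹ := by
      rw [exi]
      calc y * (x * x) * y⁻¹ = y * x * (x * y⁻¹) := by group
        _ = x * y⁻¹ * (y * x) := h1.symm
        _ = x * x := by group
    calc x * y = (y * x⁻¹ * y⁻¹)⁻¹ * y := by rw [h2, inv_inv]
      _ = y * x := by group

theorem not_field [Finite F] {K : Subalgebra F (Matrix (Fin 3) (Fin 3) F)} (hK : IsFieldSubalgebra 3 K)
    (hs : s ∈ subalgebraNormalizer K) : False := by
  obtain ⟨h1, h2⟩ := H.s_sq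
  exact h2 (no_involution hK (Subgroup.mul_mem _ hs hs) ((S3 F).mul_mem H.s_mem H.s_mem) h1)

theorem not_quad {f : (Fin 3 → F) → (Fin 3 → F) → F} (hf : Sesq (RingHom.id F) f) (hx : x ∈ similarityGroup f)
    (hy : y ∈ similarityGroup f) : False := by
  obtain ⟨hω1, hω2, hω12, hω0⟩ := omega_ne H.h3 H.hω
  obtain ⟨z, hz, -, -, h1, -, -⟩ := H.exists_z
  obtain ⟨c, hc⟩ := hx
  obtain ⟨d, hd⟩ := hy
  obtain ⟨u, v, huv⟩ := hf.exists_ne
  have h2 : f (((x * y : GL (Fin 3) F) : Matrix (Fin 3) (Fin 3) F) *ᵥ u)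
      (((x * y : GL (Fin 3) F) : Matrix (Fin 3) (Fin 3) F) *ᵥ v) = (c : F) * d * f u v := by
    rw [Units.val_mul, ← Matrix.mulVec_mulVec, ← Matrix.mulVec_mulVec, hc, hd, mul_assoc]
  have h3 : f (((x * y : GL (Fin 3) F) : Matrix (Fin 3) (Fin 3) F) *ᵥ u)
      (((x * y : GL (Fin 3) F) : Matrix (Fin 3) (Fin 3) F) *ᵥ v) = (ω * ω) * (c : F) * d * f u v := by
    rw [h1, Units.val_mul z, hz, Matrix.smul_mul, one_mul, Matrix.smul_mulVec, Matrix.smul_mulVec, hf.smul_left,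
      hf.smul_right, Units.val_mul, ← Matrix.mulVec_mulVec, ← Matrix.mulVec_mulVec, hd, hc]
    simp only [RingHom.id_apply]
    ring
  rw [h2] at h3
  apply hω2
  have h4 : (c : F) * d * f u v ≠ 0 := mul_ne_zero (mul_ne_zero c.ne_zero d.ne_zero) huv
  have h5 : (ω * ω - 1) * ((c : F) * d * f u v) = 0 := by linear_combination -h3
  exact sub_eq_zero.1 ((mul_eq_zero.1 h5).resolve_right h4)

/-- no subfield group over a subfield not containing the cube roots of unity -/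
theorem not_subfield {F₀ : Subfield F} {P : GL (Fin 3) F} (hω : ω ∉ F₀) (hx : x ∈ subfieldSubgroup F₀ P)
    (hy : y ∈ subfieldSubgroup F₀ P) : False := by
  obtain ⟨z, hz, -, -, h1, -, -⟩ := H.exists_z
  obtain ⟨a, c, ha⟩ := mem_subfield hx
  obtain ⟨b, d, hb⟩ := mem_subfield hy
  set A : GL (Fin 3) F := Matrix.GeneralLinearGroup.map (F₀.subtype : F₀ →+* F) a with hA
  set B : GL (Fin 3) F := Matrix.GeneralLinearGroup.map (F₀.subtype : F₀ →+* F) b with hB
  have h2 : ((x * y : GL (Fin 3) F) : Matrix (Fin 3) (Fin 3) F) = ((c : F) * d) •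
      ((P * (A * B) * P⁻¹ : GL (Fin 3) F) : Matrix (Fin 3) (Fin 3) F) := by
    have e : ((P * A * P⁻¹ : GL (Fin 3) F) : Matrix (Fin 3) (Fin 3) F) * ((P * B * P⁻¹ : GL (Fin 3) F) :
        Matrix (Fin 3) (Fin 3) F) = ((P * (A * B) * P⁻¹ : GL (Fin 3) F) : Matrix (Fin 3) (Fin 3) F) := by
      rw [← Units.val_mul]
      congr 1
      group
    rw [Units.val_mul, ha, hb, smul_mul_smul_comm, e]
  have h3 : ((x * y : GL (Fin 3) F) : Matrix (Fin 3) (Fin 3) F) = ((c : F) * d) • (ω •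
      ((P * (B * A) * P⁻¹ : GL (Fin 3) F) : Matrix (Fin 3) (Fin 3) F)) := by
    have e : ((P * B * P⁻¹ : GL (Fin 3) F) : Matrix (Fin 3) (Fin 3) F) * ((P * A * P⁻¹ : GL (Fin 3) F) :
        Matrix (Fin 3) (Fin 3) F) = ((P * (B * A) * P⁻¹ : GL (Fin 3) F) : Matrix (Fin 3) (Fin 3) F) := by
      rw [← Units.val_mul]
      congr 1
      group
    rw [h1, Units.val_mul, hz, Units.val_mul, hb, ha, smul_mul_smul_comm, e, Matrix.smul_mul, one_mul,
      smul_smul, smul_smul]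
    congr 1
    ring
  rw [h2] at h3
  have hcd : (c : F) * d ≠ 0 := mul_ne_zero c.ne_zero d.ne_zero
  have h4 : ((P * (A * B) * P⁻¹ : GL (Fin 3) F) : Matrix (Fin 3) (Fin 3) F) = ω •
      ((P * (B * A) * P⁻¹ : GL (Fin 3) F) : Matrix (Fin 3) (Fin 3) F) :=
    smul_right_injective _ hcd h3
  have h5 : ((A * B : GL (Fin 3) F) : Matrix (Fin 3) (Fin 3) F) = ω • ((B * A : GL (Fin 3) F) :
      Matrix (Fin 3) (Fin 3) F) := by
    have h6 := congrArg (fun X : Matrix (Fin 3) (Fin 3) F => ((P⁻¹ : GL (Fin 3) F) : Matrix (Fin 3) (Fin 3) F) * X *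
      (P : Matrix (Fin 3) (Fin 3) F)) h4
    simp only [Matrix.mul_smul, Matrix.smul_mul, ← Units.val_mul] at h6
    have e1 : P⁻¹ * (P * (A * B) * P⁻¹) * P = A * B := by group
    have e2 : P⁻¹ * (P * (B * A) * P⁻¹) * P = B * A := by group
    rwa [e1, e2] at h6
  have hmem : ∀ (g : GL (Fin 3) F₀) i j,
      ((Matrix.GeneralLinearGroup.map (F₀.subtype : F₀ →+* F) g : GL (Fin 3) F) : Matrix (Fin 3) (Fin 3) F) i j ∈ F₀ :=
    fun g i j => (((g : Matrix (Fin 3) (Fin 3) F₀) i j)).2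
  have hAB : A * B = Matrix.GeneralLinearGroup.map (F₀.subtype : F₀ →+* F) (a * b) := by rw [map_mul]
  have hBA : B * A = Matrix.GeneralLinearGroup.map (F₀.subtype : F₀ →+* F) (b * a) := by rw [map_mul]
  have hex : ∃ i j, ((B * A : GL (Fin 3) F) : Matrix (Fin 3) (Fin 3) F) i j ≠ 0 := by
    by_contra hcon
    push Not at hcon
    have h7 : ((B * A : GL (Fin 3) F) : Matrix (Fin 3) (Fin 3) F) = 0 := by
      ext i j; exact hcon i j
    have h8 := Units.ne_zero (B * A)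
    exact h8 h7
  obtain ⟨i, j, hij⟩ := hex
  apply hω
  have h9 := congrFun (congrFun h5 i) j
  rw [Matrix.smul_apply, smul_eq_mul] at h9
  have h10 : ω = ((A * B : GL (Fin 3) F) : Matrix (Fin 3) (Fin 3) F) i j *
      (((B * A : GL (Fin 3) F) : Matrix (Fin 3) (Fin 3) F) i j)⁻¹ := by
    rw [h9, mul_inv_cancel_right₀ hij]
  rw [h10]
  apply F₀.mul_mem
  · rw [hAB]; exact hmem _ _ _
  · apply F₀.inv_mem
    rw [hBA]; exact hmem _ _ _

theorem not_a6 {M P : Subgroup (GL (Fin 3) F)} (hc : IsResidualCore M P) (hM : M ≤ S3 F)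
    (e : (P ⧸ ZP P) ≃* alternatingGroup (Fin 6)) (h5 : (5 : F) ≠ 0) (hx : x ∈ M) (hy : y ∈ M) (hs : s ∈ M)
    (ht : t ∈ M) : False := by
  obtain ⟨r1, r2, r3, r4, r5, r6, r7⟩ := H.rels
  exact false_of_core hc hM e h5 hx hy hs ht r1 r2 r3 r4 r5 r6 r7 H.x_not H.y_not H.xyi_not H.xy_not

end Four

end Cfsg.Agent.H895.SLT
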